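import Mathlib

/-!
# The arithmetic of S0484 without the local fact at the primes of `q + 1`

`c = (q (q + 1) - h) ((q + 1)² - h)` with `h ∣ q (q + 1)²` is the index.  If `q² ∣ c` then
`h = q`.  If `c ≡ 1` modulo `p` and `c ≡ k` modulo `(q - 1) / 2` with `k = 3, 15` then
`(q, k) = (11, 15), (19, 3)`.
-/

set_option autoImplicit false

namespace Cfsg.Agent.H26.LThree.DegArith

/-- An odd divisor of a square of an even number, up to the factor four. -/
theorem four_mul_abs_le {x y : ℤ} (hx : Odd x) (hy : 4 ∣ y) (hy0 : 0 < y) (h : x ∣ y ^ 2) :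
    16 * |x| ≤ y ^ 2 := by
  obtain ⟨z, rfl⟩ := hy
  have hc : IsCoprime x (16 : ℤ) := by
    rw [show (16 : ℤ) = 2 ^ 4 by norm_num]
    refine IsCoprime.pow_right ?_
    rw [Int.isCoprime_iff_gcd_eq_one, Int.gcd]
    exact Nat.coprime_two_right.2 (Int.natAbs_odd.2 hx)
  have h1 : x ∣ z ^ 2 := hc.dvd_of_dvd_mul_left (by rwa [show 16 * z ^ 2 = (4 * z) ^ 2 by ring])
  have h2 := Int.le_of_dvd (by positivity [show z ≠ 0 by omega]) ((abs_dvd _ _).2 h1)
  nlinarith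

/-- The odd divisors of `(q + 1)²` congruent to one modulo `q`. -/
theorem div_sq_one {q x : ℤ} (hq : 7 ≤ q) (hx : Odd x) (hq4 : 4 ∣ q + 1) (h : x ∣ (q + 1) ^ 2)
    (hmod : q ∣ x - 1) : x = 1 := by
  obtain ⟨j, hj⟩ := hmod
  obtain ⟨y, hy⟩ := h
  obtain rfl : x = q * j + 1 := by linarith
  obtain ⟨i, hi⟩ : q ∣ y - 1 := ⟨q + 2 - j * y, by linear_combination -hy⟩
  obtain rfl : y = q * i + 1 := by linarith
  have key : i * j * q + i + j = q + 2 := by
    apply mul_left_cancel₀ (show q ≠ 0 by omega)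
    linear_combination -hy
  have hb := four_mul_abs_le hx hq4 (by omega) (Dvd.intro _ hy.symm)
  have hb1 := le_abs_self (q * j + 1)
  by_cases hj0 : j = 0
  · rw [hj0]; ring
  exfalso
  by_cases hi0 : i = 0
  · subst hi0
    have : j = q + 2 := by linarith
    subst this
    nlinarith
  rcases lt_or_gt_of_ne hj0 with hj1 | hj1 <;> rcases lt_or_gt_of_ne hi0 with hi1 | hi1
  · have hP : 1 ≤ i * j := by nlinarith
    have hs : -(i * j) - 1 ≤ i + j := by
      nlinarith [mul_nonneg (show (0 : ℤ) ≤ -i - 1 by omega) (show (0 : ℤ) ≤ -j - 1 by omega)]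
    rcases eq_or_lt_of_le hP with h1 | h1
    · rw [← h1] at key hs
      omega
    · nlinarith [mul_nonneg (show (0 : ℤ) ≤ i * j - 2 by omega) (show (0 : ℤ) ≤ q - 1 by omega)]
  · have hP : i * j ≤ -1 := by nlinarith
    have hs : i + j ≤ -(i * j) := by
      nlinarith [mul_nonneg (show (0 : ℤ) ≤ i - 1 by omega) (show (0 : ℤ) ≤ -j - 1 by omega)]
    nlinarith [mul_nonneg (show (0 : ℤ) ≤ -(i * j) by omega) (show (0 : ℤ) ≤ q - 1 by omega)]
  · have hP : i * j ≤ -1 := by nlinarith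
    have hs : i + j ≤ -(i * j) := by
      nlinarith [mul_nonneg (show (0 : ℤ) ≤ j - 1 by omega) (show (0 : ℤ) ≤ -i - 1 by omega)]
    nlinarith [mul_nonneg (show (0 : ℤ) ≤ -(i * j) by omega) (show (0 : ℤ) ≤ q - 1 by omega)]
  · have hP : 1 ≤ i * j := by nlinarith
    rcases eq_or_lt_of_le hP with h1 | h1
    · rcases Int.mul_eq_one_iff_eq_one_or_neg_one.1 h1.symm with ⟨rfl, rfl⟩ | ⟨rfl, rfl⟩
      · rw [Int.odd_iff] at hx
        omega
      · omega
    · nlinarith [mul_nonneg (show (0 : ℤ) ≤ i * j - 2 by omega) (show (0 : ℤ) ≤ q by omega)]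

/-- `q² ∣ c` forces `h = q`. -/
theorem eq_of_sq_dvd {p n : ℕ} [hp : Fact p.Prime] (hn : 1 ≤ n) {q h c : ℤ}
    (hq : q = (p : ℤ) ^ n) (hq7 : 7 ≤ q) (hq4 : 4 ∣ q + 1) (hho : Odd h)
    (hh : h ∣ q * (q + 1) ^ 2) (hc : c = (q * (q + 1) - h) * ((q + 1) ^ 2 - h))
    (hd : q ^ 2 ∣ c) : c = q ^ 2 * (q ^ 2 + q + 1) := by
  have hpq : (p : ℤ) ∣ q := hq ▸ dvd_pow_self _ (by omega)
  have hcop : ∀ {x : ℤ}, ¬ (p : ℤ) ∣ x → IsCoprime (q ^ 2) x := fun {x} hx => by
    rw [hq, ← pow_mul]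
    exact ((Nat.prime_iff_prime_int.1 hp.out).coprime_iff_not_dvd.2 hx).pow_left
  have hnotone : ¬ (p : ℤ) ∣ 1 := fun h => hp.out.one_lt.ne' (Nat.dvd_one.1 (by exact_mod_cast h))
  by_cases hph : (p : ℤ) ∣ h
  · have hun : ¬ (p : ℤ) ∣ (q + 1) ^ 2 - h := fun h' => by
      refine hnotone ?_
      have := (h'.add hph).sub ((hpq.mul_right (q + 2)))
      rwa [show (q + 1) ^ 2 - h + h - q * (q + 2) = 1 by ring] at this
    obtain ⟨j, hj⟩ : q ^ 2 ∣ q * (q + 1) - h := (hcop hun).dvd_of_dvd_mul_right (hc ▸ hd)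
    obtain rfl : h = q * (q + 1 - q * j) := by linarith
    have hx1 : q + 1 - q * j = 1 := div_sq_one hq7 (Int.Odd.of_mul_right hho) hq4
      ((mul_dvd_mul_iff_left (show q ≠ 0 by omega)).1 hh) ⟨1 - j, by ring⟩
    rw [hc, hx1]; ring
  · exfalso
    have hun : ¬ (p : ℤ) ∣ q * (q + 1) - h := fun h' => by
      refine hph ?_
      have := (hpq.mul_right (q + 1)).sub h'
      rwa [sub_sub_cancel] at this
    obtain ⟨j, hj⟩ : q ^ 2 ∣ (q + 1) ^ 2 - h := (hcop hun).dvd_of_dvd_mul_left (hc ▸ hd)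
    have hh' : h ∣ (q + 1) ^ 2 := (((Nat.prime_iff_prime_int.1 hp.out).coprime_iff_not_dvd.2
      hph).pow_left (m := n) |>.symm : IsCoprime h ((p : ℤ) ^ n)).dvd_of_dvd_mul_left (hq ▸ hh)
    have hb := four_mul_abs_le hho hq4 (by omega) hh'
    have hb' := abs_le.1 (show |h| ≤ (q + 1) ^ 2 / 16 by omega)
    have hb2 : 16 * ((q + 1) ^ 2 / 16) ≤ (q + 1) ^ 2 := Int.mul_ediv_self_le (by norm_num)
    have hj1 : j = 1 := by
      have h1 : 0 < j := by nlinarith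
      have h2 : j < 2 := by nlinarith
      omega
    subst hj1
    have h21 : h = 2 * q + 1 := by linarith
    subst h21
    have h5 : IsCoprime (2 * q + 1) (q + 1) := ⟨-1, 2, by ring⟩
    have := Int.le_of_dvd (by norm_num) (h5.pow_right.dvd_of_dvd_mul_right
      (show (2 * q + 1) ∣ 1 * (q + 1) ^ 2 by rwa [one_mul]))
    omega

/-- The surviving triples `(q, h, k)` of the enumeration. -/
def survivors : List (ℤ × ℤ × ℤ) :=
  [(19, 5, 3), (11, -3, 15), (11, 9, 15), (19, 25, 15), (27, 7, 15), (71, 27, 15), (103, 169, 15),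
    (111, 7, 15)]

/-- The finite check. -/
def check (k g h1 : ℤ) : Bool :=
  let e := g + h1
  let N := 2 * (4 * g * g + 4 * g * e - k * (e * e))
  let J := (N.natAbs + 2) / (h1 * e).natAbs
  (e % 4 != 0) || (e == 0) ||
    (List.range (2 * J + 1)).all fun i =>
      let j : ℤ := (i : ℤ) - (J : ℤ)
      let q := j * (h1 * e) - 1
      (j % 2 == 0) || decide (q < 7) || (N % (q - 1) != 0) || survivors.contains (q, h1 * j * h1, k)

/-- The ranges. -/
def table : List (ℤ × ℤ × ℕ) :=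
  [(3, 1, 11), (3, -1, 11), (3, 3, 17), (3, -3, 17), (15, 1, 14), (15, -1, 14), (15, 3, 39),
    (15, -3, 39), (15, 5, 65), (15, -5, 65), (15, 15, 196), (15, -15, 196)]

theorem table_check :
    (table.all fun kgb => (List.range (2 * kgb.2.2 + 1)).all fun i =>
      check kgb.1 kgb.2.1 ((i : ℤ) - (kgb.2.2 : ℤ))) = true := by
  decide +kernel

theorem dvd_three_or {x : ℤ} (h : x ∣ 3) : x = 1 ∨ x = -1 ∨ x = 3 ∨ x = -3 := by
  have key : ∀ x ∈ Finset.Icc (-3 : ℤ) 3, x ∣ 3 → x = 1 ∨ x = -1 ∨ x = 3 ∨ x = -3 := by decide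
  exact key x (Finset.mem_Icc.2 (abs_le.1 (Int.le_of_dvd (by norm_num) ((abs_dvd _ _).2 h)))) h

theorem dvd_fifteen_or {x : ℤ} (h : x ∣ 15) :
    x = 1 ∨ x = -1 ∨ x = 3 ∨ x = -3 ∨ x = 5 ∨ x = -5 ∨ x = 15 ∨ x = -15 := by
  have key : ∀ x ∈ Finset.Icc (-15 : ℤ) 15, x ∣ 15 →
      x = 1 ∨ x = -1 ∨ x = 3 ∨ x = -3 ∨ x = 5 ∨ x = -5 ∨ x = 15 ∨ x = -15 := by decide
  exact key x (Finset.mem_Icc.2 (abs_le.1 (Int.le_of_dvd (by norm_num) ((abs_dvd _ _).2 h)))) h

/-- The range of `h1`. -/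
theorem bound_lemma {g h1 k : ℤ} {B : ℕ}
    (h : |h1 * (g + h1)| ≤ |g * (k - 4) * (g + h1)| + 4 * g ^ 2 + 2 * |k| + 2 ∨
      |g * (k - 4) * (g + h1)| ≤ 4 * g ^ 2 + 2 * |k|)
    (h2 : |g * (k - 4)| * ((B : ℤ) + |g|) + 4 * g ^ 2 + 2 * |k| + 2 <
      ((B : ℤ) + 1) * ((B : ℤ) + 1 - |g|))
    (h3 : 4 * g ^ 2 + 2 * |k| < |g * (k - 4)| * ((B : ℤ) + 1 - |g|) ∧
      |g * (k - 4)| + |g| ≤ (B : ℤ)) :
    -(B : ℤ) ≤ h1 ∧ h1 ≤ (B : ℤ) := by
  rw [← abs_le]
  by_contra hcon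
  push Not at hcon
  have t1 : |h1| - |g| ≤ |g + h1| := by
    have := abs_sub_abs_le_abs_sub h1 (-g)
    rw [abs_neg, sub_neg_eq_add, add_comm h1 g] at this
    exact this
  have t2 := abs_add_le g h1
  have a0 := abs_nonneg (g * (k - 4))
  rw [abs_mul h1, abs_mul (g * (k - 4))] at h
  have a2 : 0 ≤ |g * (k - 4)| * (2 * |g| - 1) := by
    rcases eq_or_ne g 0 with rfl | hg
    · simp
    · exact mul_nonneg a0 (by have := Int.one_le_abs hg; omega)
  rcases h with h | h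
  · nlinarith [mul_nonneg (show (0 : ℤ) ≤ |h1| - |g * (k - 4)| by linarith [abs_nonneg g])
      (show (0 : ℤ) ≤ |g + h1| - (|h1| - |g|) by linarith),
      mul_nonneg (show (0 : ℤ) ≤ |h1| - ((B : ℤ) + 1) by omega)
        (show (0 : ℤ) ≤ |h1| + (B : ℤ) + 1 - |g * (k - 4)| - |g| by omega)]
  · nlinarith

/-- The degenerate empty configuration leaves two cases. -/
theorem degenerate_cases {p n : ℕ} [hp : Fact p.Prime] (hn : 1 ≤ n) {q h g c k : ℤ}
    (hq : q = (p : ℤ) ^ n) (hq7 : 7 ≤ q) (hq4 : 4 ∣ q + 1) (hho : Odd h) (hgo : Odd g)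
    (hh : h ∣ q * (q + 1) ^ 2) (hg : g ∣ q * (q + 1) * (q - 1))
    (hch : c = (q * (q + 1) - h) * ((q + 1) ^ 2 - h))
    (hcg : c = (q * (q + 1) + g) * (q ^ 2 - 1 + g)) (hp1 : (p : ℤ) ∣ c - 1)
    (hk : k = 3 ∨ k = 15) {m : ℤ} (hm : q - 1 = 2 * m) (hck : m ∣ c - k) :
    (q = 11 ∧ k = 15) ∨ (q = 19 ∧ k = 3) := by
  have hpq : (p : ℤ) ∣ q := hq ▸ dvd_pow_self _ (by omega)
  have hpP := Nat.prime_iff_prime_int.1 hp.out
  have hpc : ¬ (p : ℤ) ∣ c := fun h' => hpP.not_dvd_one (by simpa using h'.sub hp1)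
  have hph : ¬ (p : ℤ) ∣ h := fun h' => hpc (hch ▸ Dvd.dvd.mul_right ((hpq.mul_right _).sub h') _)
  have hpg : ¬ (p : ℤ) ∣ g := fun h' => hpc (hcg ▸ Dvd.dvd.mul_right ((hpq.mul_right _).add h') _)
  have hcq : ∀ {x : ℤ}, ¬ (p : ℤ) ∣ x → IsCoprime x q := fun {x} hx => by
    rw [hq]; exact (hpP.coprime_iff_not_dvd.2 hx).symm.pow_right
  have hh' : h ∣ (q + 1) ^ 2 := (hcq hph).dvd_of_dvd_mul_left hh
  have hg' : g ∣ (q + 1) * (q - 1) := (hcq hpg).dvd_of_dvd_mul_left (by rwa [← mul_assoc])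
  have hprod : (g + h - (q + 1)) * (h - g - 2 * q * (q + 1)) = 0 := by
    linear_combination hcg - hch
  rcases mul_eq_zero.1 hprod with hs | hs
  swap
  · exfalso
    have h1 := four_mul_abs_le hho hq4 (by omega) hh'
    have h2 : |g| ≤ (q + 1) * (q - 1) :=
      Int.le_of_dvd (mul_pos (by omega) (by omega)) ((abs_dvd _ _).2 hg')
    have h3 := abs_sub h g
    rw [show h - g = 2 * q * (q + 1) by linarith, abs_of_pos (by positivity)] at h3
    nlinarith
  -- `d = gcd (h, q + 1)`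
  obtain ⟨d, h1, e, hd0, hcop, rfl, he⟩ := Int.exists_gcd_one'
    (Int.gcd_pos_of_ne_zero_right h (show q + 1 ≠ 0 by omega))
  have hd0' : (d : ℤ) ≠ 0 := by exact_mod_cast hd0.ne'
  obtain ⟨g1, rfl⟩ : ∃ g1, g = g1 * (d : ℤ) := ⟨e - h1, by linear_combination hs + he⟩
  have hg1e : g1 + h1 = e := by
    apply mul_right_cancel₀ hd0'
    linear_combination hs + he
  have hcop' : IsCoprime h1 e := Int.isCoprime_iff_gcd_eq_one.2 hcop
  have hdodd : Odd (d : ℤ) := Int.Odd.of_mul_right hho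
  have h1odd : Odd h1 := Int.Odd.of_mul_left hho
  have he4 : (4 : ℤ) ∣ e := by
    refine IsCoprime.dvd_of_dvd_mul_right ?_ (he ▸ hq4)
    rw [show (4 : ℤ) = 2 ^ 2 by norm_num]
    refine IsCoprime.pow_left ?_
    rw [Int.isCoprime_iff_gcd_eq_one, Int.gcd]
    exact Nat.coprime_two_left.2 (Int.natAbs_odd.2 hdodd)
  have he0 : e ≠ 0 := fun h0 => by rw [h0, zero_mul] at he; omega
  obtain ⟨j, hj⟩ : h1 ∣ (d : ℤ) := by
    refine (hcop'.pow_right (n := 2)).dvd_of_dvd_mul_left ?_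
    apply (mul_dvd_mul_iff_right hd0').1
    rw [he] at hh'
    rwa [show e ^ 2 * (d : ℤ) * d = (e * d) ^ 2 by ring]
  have hjodd : Odd j := Int.Odd.of_mul_right (hj ▸ hdodd)
  have hjne : j ≠ 0 := fun h0 => by rw [h0, mul_zero] at hj; exact hd0' hj
  have hh10 : h1 ≠ 0 := fun h0 => by rw [h0, zero_mul] at hj; exact hd0' hj
  -- `g1 ∣ k`
  have hcge : IsCoprime g1 e := by
    obtain ⟨a, b, hab⟩ := hcop'
    exact ⟨-a, a + b, by rw [← hg1e]; rw [← hg1e] at hab; linear_combination hab⟩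
  have hg1q : g1 ∣ q - 1 := by
    refine hcge.dvd_of_dvd_mul_left ?_
    apply (mul_dvd_mul_iff_right hd0').1
    rwa [show e * (q - 1) * (d : ℤ) = (q + 1) * (q - 1) by rw [he]; ring]
  have hg1odd : Odd g1 := Int.Odd.of_mul_left hgo
  have hg1m : g1 ∣ m := by
    refine IsCoprime.dvd_of_dvd_mul_left ?_ (hm ▸ hg1q)
    rw [Int.isCoprime_iff_gcd_eq_one, Int.gcd]
    exact Nat.coprime_two_right.2 (Int.natAbs_odd.2 hg1odd)
  have hg1c : g1 ∣ c := by
    refine (dvd_mul_right g1 (d : ℤ)).trans ?_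
    rw [hcg]
    exact Dvd.dvd.mul_left ((show q ^ 2 - 1 = (q + 1) * (q - 1) by ring) ▸ hg' |>.add dvd_rfl) _
  have hg1k : g1 ∣ k := by
    have := hg1c.sub (hg1m.trans hck)
    rwa [sub_sub_cancel] at this
  -- the congruence
  obtain ⟨s, hs'⟩ : m ∣ (g1 * d) ^ 2 + 2 * (g1 * d) - k := by
    obtain ⟨z, hz⟩ := hck
    refine ⟨z - 2 * ((q + 2) * (q ^ 2 - 1 + g1 * d) + (2 + g1 * d) * (q + 1)), ?_⟩
    linear_combination hz - hcg + ((q + 2) * (q ^ 2 - 1 + g1 * d) +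
      (2 + g1 * d) * (q + 1)) * (-hm)
  have hN : q - 1 ∣ 2 * (4 * g1 * g1 + 4 * g1 * e - k * (e * e)) := by
    refine ⟨s * (e * e) - 2 * g1 * g1 * (q + 3) - 4 * g1 * e, ?_⟩
    linear_combination (2 * (e * e)) * hs' + (-s * (e * e)) * hm + (2 * g1 * g1 * (e * (d : ℤ) + q + 1) + 4 * g1 * e) * he
  obtain ⟨n1, hn1⟩ : (d : ℤ) ∣ s - k := by
    have h2 : IsCoprime (d : ℤ) 2 := by
      rw [Int.isCoprime_iff_gcd_eq_one, Int.gcd]
      exact Nat.coprime_two_right.2 (Int.natAbs_odd.2 hdodd)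
    refine h2.dvd_of_dvd_mul_left ⟨s * e - 2 * g1 ^ 2 * d - 4 * g1, ?_⟩
    linear_combination (2 : ℤ) * hs' - s * hm + s * he
  have hid : (d : ℤ) * (n1 * e - 2 * g1 ^ 2) = 4 * g1 + 2 * n1 - k * e := by
    apply mul_left_cancel₀ hd0'
    linear_combination (-2 : ℤ) * hs' + s * hm - s * he - ((d : ℤ) * e - 2) * hn1
  obtain ⟨v, hv⟩ : h1 ∣ 4 * g1 + 2 * n1 - k * g1 := by
    refine ⟨j * (n1 * e - 2 * g1 ^ 2) + k, ?_⟩
    linear_combination -hid + (n1 * e - 2 * g1 ^ 2) * hj - k * hg1e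
  have hjv : j * ((h1 * v + g1 * (k - 4)) * e - 4 * g1 ^ 2) = 2 * (v - k) := by
    apply mul_left_cancel₀ hh10
    linear_combination (2 : ℤ) * hid - (2 * (n1 * e - 2 * g1 ^ 2)) * hj + (-(h1 * j * e) + 2) * hv
      + 2 * k * hg1e
  -- the bound
  have hbound : |h1 * e| ≤ |g1 * (k - 4) * e| + 4 * g1 ^ 2 + 2 * |k| + 2 ∨
      |g1 * (k - 4) * e| ≤ 4 * g1 ^ 2 + 2 * |k| := by
    have h1' : |(h1 * v + g1 * (k - 4)) * e - 4 * g1 ^ 2| ≤ 2 * |v| + 2 * |k| := by
      have e1 := congrArg abs hjv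
      rw [abs_mul, abs_mul, abs_of_pos (by norm_num : (0 : ℤ) < 2)] at e1
      have := abs_sub v k
      have hj1 : 1 ≤ |j| := Int.one_le_abs hjne
      nlinarith [abs_nonneg ((h1 * v + g1 * (k - 4)) * e - 4 * g1 ^ 2)]
    by_cases hv0 : v = 0
    · right
      subst hv0
      simp only [mul_zero, zero_add, abs_zero] at h1'
      have := abs_sub_abs_le_abs_sub (g1 * (k - 4) * e) (4 * g1 ^ 2)
      rw [abs_of_nonneg (show (0 : ℤ) ≤ 4 * g1 ^ 2 by positivity)] at this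
      linarith
    · left
      have e2 : |h1 * e| * |v| ≤ |(h1 * v + g1 * (k - 4)) * e - 4 * g1 ^ 2| +
          |g1 * (k - 4) * e| + 4 * g1 ^ 2 := by
        rw [← abs_mul, show h1 * e * v = ((h1 * v + g1 * (k - 4)) * e - 4 * g1 ^ 2) -
          g1 * (k - 4) * e + 4 * g1 ^ 2 by ring]
        refine (abs_add_le _ _).trans ?_
        rw [abs_of_nonneg (show (0 : ℤ) ≤ 4 * g1 ^ 2 by positivity)]
        exact add_le_add (abs_sub _ _) le_rfl
      have hv1 : 1 ≤ |v| := Int.one_le_abs hv0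
      by_contra hcon
      push Not at hcon
      have h5 : (0 : ℤ) ≤ |g1 * (k - 4) * e| + 4 * g1 ^ 2 + 2 * |k| := by positivity
      nlinarith [mul_le_mul_of_nonneg_left hv1 (show (0 : ℤ) ≤ |h1 * e| - 2 by linarith)]
  have hqj : q = j * (h1 * e) - 1 := by linear_combination he + e * hj
  have hJ : j.natAbs ≤ ((2 * (4 * g1 * g1 + 4 * g1 * e - k * (e * e))).natAbs + 2) / (h1 * e).natAbs := by
    set N := 2 * (4 * g1 * g1 + 4 * g1 * e - k * (e * e)) with hNdef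
    have hN0 : N ≠ 0 := by
      intro h0
      have h4 : (4 : ℤ) ∣ e := he4
      obtain ⟨e', rfl⟩ := h4
      rcases hk with rfl | rfl
      · have : (g1 + 6 * e') * (g1 - 2 * e') = 0 := by linarith
        rcases mul_eq_zero.1 this with a | a <;> rw [Int.odd_iff] at hg1odd <;> omega
      · have : (g1 + 10 * e') * (g1 - 6 * e') = 0 := by linarith
        rcases mul_eq_zero.1 this with a | a <;> rw [Int.odd_iff] at hg1odd <;> omega
    have h2 : q - 1 ≤ (N.natAbs : ℤ) := by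
      rw [Int.natCast_natAbs]
      exact Int.le_of_dvd (abs_pos.2 hN0) ((dvd_abs _ _).2 hN)
    have h3 : j.natAbs * (h1 * e).natAbs ≤ N.natAbs + 2 := by
      rw [← Int.natAbs_mul]
      omega
    exact (Nat.le_div_iff_mul_le (Int.natAbs_pos.2 (mul_ne_zero hh10 he0))).2 h3
  have hsurv : (q, h1 * j * h1, k) ∈ survivors := by
    have hB : ∃ B : ℕ, (k, g1, B) ∈ table ∧ -(B : ℤ) ≤ h1 ∧ h1 ≤ (B : ℤ) := by
      subst hg1e
      rcases hk with rfl | rfl
      · rcases dvd_three_or hg1k with rfl | rfl | rfl | rfl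
        · exact ⟨11, by simp [table], bound_lemma hbound (by norm_num) (by norm_num)⟩
        · exact ⟨11, by simp [table], bound_lemma hbound (by norm_num) (by norm_num)⟩
        · exact ⟨17, by simp [table], bound_lemma hbound (by norm_num) (by norm_num)⟩
        · exact ⟨17, by simp [table], bound_lemma hbound (by norm_num) (by norm_num)⟩
      · rcases dvd_fifteen_or hg1k with rfl | rfl | rfl | rfl | rfl | rfl | rfl | rfl
        · exact ⟨14, by simp [table], bound_lemma hbound (by norm_num) (by norm_num)⟩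
        · exact ⟨14, by simp [table], bound_lemma hbound (by norm_num) (by norm_num)⟩
        · exact ⟨39, by simp [table], bound_lemma hbound (by norm_num) (by norm_num)⟩
        · exact ⟨39, by simp [table], bound_lemma hbound (by norm_num) (by norm_num)⟩
        · exact ⟨65, by simp [table], bound_lemma hbound (by norm_num) (by norm_num)⟩
        · exact ⟨65, by simp [table], bound_lemma hbound (by norm_num) (by norm_num)⟩
        · exact ⟨196, by simp [table], bound_lemma hbound (by norm_num) (by norm_num)⟩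
        · exact ⟨196, by simp [table], bound_lemma hbound (by norm_num) (by norm_num)⟩
    obtain ⟨B, hBm, hB1, hB2⟩ := hB
    have hc1 := List.all_eq_true.1 table_check _ hBm
    have hc2 := List.all_eq_true.1 hc1 ((h1 + B).toNat) (List.mem_range.2 (by dsimp; omega))
    dsimp only at hc2
    rw [show ((h1 + (B : ℤ)).toNat : ℤ) - (B : ℤ) = h1 by omega] at hc2
    simp only [check, Bool.or_eq_true, bne_iff_ne, beq_iff_eq, hg1e, List.all_eq_true,
      List.mem_range, decide_eq_true_eq, List.contains_iff_mem] at hc2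
    rcases hc2 with (h4 | h4) | h4
    · exact absurd (Int.emod_eq_zero_of_dvd he4) h4
    · exact absurd h4 he0
    set J := ((2 * (4 * g1 * g1 + 4 * g1 * e - k * (e * e))).natAbs + 2) / (h1 * e).natAbs
    change j.natAbs ≤ J at hJ
    have h5 := h4 ((j + (J : ℤ)).toNat) (by omega)
    rw [show ((j + (J : ℤ)).toNat : ℤ) - (J : ℤ) = j by omega, ← hqj] at h5
    rcases h5 with ((h5 | h5) | h5) | h5
    · rw [Int.odd_iff] at hjodd; omega
    · omega
    · exact absurd (Int.emod_eq_zero_of_dvd hN) h5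
    · exact h5
  have hheq : h1 * (d : ℤ) = h1 * j * h1 := by rw [hj]; ring
  rw [hheq] at hch
  have hpn : ∀ {x : ℕ}, q = x → p ∣ x := fun {x} hx => by
    refine Int.natCast_dvd_natCast.1 ?_
    rw [← hx]; exact hpq
  simp only [survivors, List.mem_cons, Prod.mk.injEq, List.not_mem_nil, or_false] at hsurv
  have hprimes : ∀ {x r : ℕ}, r.Prime → q = (x : ℤ) → (∀ i, i.Prime → i ∣ x → i = r) → p = r :=
    fun {x r} _ hx hi => hi p hp.out (hpn hx)
  rcases hsurv with ⟨rfl, e2, rfl⟩ | ⟨rfl, e2, rfl⟩ | ⟨rfl, e2, rfl⟩ | ⟨rfl, e2, rfl⟩ |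
      ⟨rfl, e2, rfl⟩ | ⟨rfl, e2, rfl⟩ | ⟨rfl, e2, rfl⟩ | ⟨rfl, e2, rfl⟩
  · exact Or.inr ⟨rfl, rfl⟩
  · exact Or.inl ⟨rfl, rfl⟩
  all_goals exfalso; rw [e2] at hch; norm_num at hch; subst hch
  · obtain rfl := (Nat.prime_dvd_prime_iff_eq hp.out (by norm_num)).1 (hpn (x := 11) rfl)
    norm_num at hp1
  · obtain rfl := (Nat.prime_dvd_prime_iff_eq hp.out (by norm_num)).1 (hpn (x := 19) rfl)
    norm_num at hp1
  · obtain rfl := (Nat.prime_dvd_prime_iff_eq hp.out Nat.prime_three).1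
      (hp.out.dvd_of_dvd_pow (show p ∣ 3 ^ 3 from hpn (x := 27) rfl))
    norm_num at hp1
  · obtain rfl := (Nat.prime_dvd_prime_iff_eq hp.out (by norm_num)).1 (hpn (x := 71) rfl)
    norm_num at hp1
  · obtain rfl := (Nat.prime_dvd_prime_iff_eq hp.out (by norm_num)).1 (hpn (x := 103) rfl)
    norm_num at hp1
  · have h3 : (3 : ℤ) ∣ (p : ℤ) ^ n := hq ▸ by norm_num
    obtain rfl := (Nat.prime_dvd_prime_iff_eq Nat.prime_three hp.out).1
      (Nat.prime_three.dvd_of_dvd_pow (by exact_mod_cast h3))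
    have h37 : (37 : ℤ) ∣ (3 : ℤ) ^ n := by rw [show ((3 : ℤ)) ^ n = 111 by simpa using hq.symm]; norm_num
    have := (Nat.prime_dvd_prime_iff_eq (by norm_num) Nat.prime_three).1
      ((show Nat.Prime 37 by norm_num).dvd_of_dvd_pow (n := n) (m := 3) (by exact_mod_cast h37))
    omega

end Cfsg.Agent.H26.LThree.DegArith
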