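import Cfsg.Agent.H35.Semi.Setting
import Mathlib.LinearAlgebra.Matrix.GeneralLinearGroup.Card

/-!
# The three reflections of the frame, orders and Sylow 2-subgroups in the setting of S0484
-/

set_option autoImplicit false
set_option linter.unusedSectionVars false
set_option linter.style.haveILetI false

namespace Cfsg.Agent.H26.LThree

open Cfsg.Agent.H35.Semi

universe u v

/-- Bruhat decomposition in `GL₂`. -/
theorem gl_bruhat {F : Type*} [Field F] (M : GL (Fin 2) F) :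
    (∃ (x : F) (c d : Fˣ), M = xp x * tor c d) ∨
      ∃ (x y : F) (c d : Fˣ), M = xp x * tor c d * swap * xp y := by
  by_cases h : M.1 1 0 = 0
  · left
    have hd := M.det_ne_zero
    rw [Matrix.det_fin_two, h, mul_zero, sub_zero] at hd
    obtain ⟨h0, h1⟩ := mul_ne_zero_iff.mp hd
    refine ⟨M.1 0 1 / M.1 1 1, Units.mk0 _ h0, Units.mk0 _ h1, gl_ext ?_ ?_ ?_ ?_⟩ <;>
      simp [h, h1]
  · right
    have hd := M.det_ne_zero
    rw [Matrix.det_fin_two] at hd
    have hc : M.1 0 1 - M.1 0 0 * M.1 1 1 / M.1 1 0 ≠ 0 := by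
      intro e
      apply hd
      field_simp at e
      linear_combination -e
    refine ⟨M.1 0 0 / M.1 1 0, M.1 1 1 / M.1 1 0, Units.mk0 _ hc, Units.mk0 _ h,
      gl_ext ?_ ?_ ?_ ?_⟩ <;>
      simp [Matrix.mul_apply, Fin.sum_univ_two] <;>
      field_simp <;> ring

variable {G : Type u} [Group G] [Finite G] {F : Type v} [Field F] [Finite F] {t : G}

/-- The swap in `C(t)`. -/
def sw (S : Setting G F t) : G := S.ι swap

/-- The reflection fixing `u` and exchanging `t` and `t u`. -/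
noncomputable def rb (S : Setting G F t) : G := S.g * sw S * S.g⁻¹

/-- The reflection fixing `t u` and exchanging `t` and `u`. -/
noncomputable def ra (S : Setting G F t) : G := rb S * sw S * (rb S)⁻¹

variable (S : Setting G F t)

theorem sw_sq : sw S * sw S = 1 := by rw [sw, ← map_mul, swap_mul_self, map_one]

theorem sw_inv : (sw S)⁻¹ = sw S := inv_eq_of_mul_eq_one_right (sw_sq S)

theorem sw_t : sw S * t * (sw S)⁻¹ = t := mul_inv_eq_iff_eq_mul.mpr (S.commute_image _).eq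

theorem rb_sq : rb S * rb S = 1 := by
  rw [rb, show S.g * sw S * S.g⁻¹ * (S.g * sw S * S.g⁻¹) = S.g * (sw S * sw S) * S.g⁻¹ by group,
    sw_sq, mul_one, mul_inv_cancel]

theorem rb_inv : (rb S)⁻¹ = rb S := inv_eq_of_mul_eq_one_right (rb_sq S)

theorem ra_sq : ra S * ra S = 1 := by
  rw [ra, show rb S * sw S * (rb S)⁻¹ * (rb S * sw S * (rb S)⁻¹) =
    rb S * (sw S * sw S) * (rb S)⁻¹ by group, sw_sq, mul_one, mul_inv_cancel]

theorem ra_inv : (ra S)⁻¹ = ra S := inv_eq_of_mul_eq_one_right (ra_sq S)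

theorem g_inv_t : S.g⁻¹ * t * S.g = S.u :=
  calc S.g⁻¹ * t * S.g = S.g⁻¹ * (S.g * S.u * S.g⁻¹) * S.g := by rw [S.g_u]
    _ = S.u := by group

theorem g_inv_u : S.g⁻¹ * S.u * S.g = t :=
  calc S.g⁻¹ * S.u * S.g = S.g⁻¹ * (S.g * t * S.g⁻¹) * S.g := by rw [S.g_t]
    _ = t := by group

theorem g_inv_tu : S.g⁻¹ * (t * S.u) * S.g = t * S.u :=
  calc S.g⁻¹ * (t * S.u) * S.g = S.g⁻¹ * (S.g * (t * S.u) * S.g⁻¹) * S.g := by rw [S.g_tu]
    _ = t * S.u := by group

theorem rb_t : rb S * t * (rb S)⁻¹ = t * S.u := by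
  rw [rb, show S.g * sw S * S.g⁻¹ * t * (S.g * sw S * S.g⁻¹)⁻¹ =
    S.g * (sw S * (S.g⁻¹ * t * S.g) * (sw S)⁻¹) * S.g⁻¹ by group, g_inv_t, sw, S.swap_conj_u,
    S.g_tu]

theorem rb_u : rb S * S.u * (rb S)⁻¹ = S.u := by
  rw [rb, show S.g * sw S * S.g⁻¹ * S.u * (S.g * sw S * S.g⁻¹)⁻¹ =
    S.g * (sw S * (S.g⁻¹ * S.u * S.g) * (sw S)⁻¹) * S.g⁻¹ by group, g_inv_u, sw_t, S.g_t]

theorem rb_tu : rb S * (t * S.u) * (rb S)⁻¹ = t := by
  rw [rb, show S.g * sw S * S.g⁻¹ * (t * S.u) * (S.g * sw S * S.g⁻¹)⁻¹ =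
    S.g * (sw S * (S.g⁻¹ * (t * S.u) * S.g) * (sw S)⁻¹) * S.g⁻¹ by group, g_inv_tu, sw,
    S.swap_conj_tu, S.g_u]

theorem ra_t : ra S * t * (ra S)⁻¹ = S.u := by
  rw [ra, show rb S * sw S * (rb S)⁻¹ * t * (rb S * sw S * (rb S)⁻¹)⁻¹ =
    rb S * (sw S * ((rb S)⁻¹ * t * rb S) * (sw S)⁻¹) * (rb S)⁻¹ by group]
  have h : (rb S)⁻¹ * t * rb S = t * S.u := by
    have := rb_t S
    rw [rb_inv] at this ⊢
    exact this
  rw [h, sw, S.swap_conj_tu, rb_u]

theorem ra_u : ra S * S.u * (ra S)⁻¹ = t := by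
  calc ra S * S.u * (ra S)⁻¹ = ra S * (ra S * t * (ra S)⁻¹) * (ra S)⁻¹ := by rw [ra_t]
    _ = (ra S * ra S) * t * (ra S * ra S)⁻¹ := by group
    _ = t := by rw [ra_sq]; group

theorem ra_tu : ra S * (t * S.u) * (ra S)⁻¹ = t * S.u := by
  rw [show ra S * (t * S.u) * (ra S)⁻¹ = (ra S * t * (ra S)⁻¹) * (ra S * S.u * (ra S)⁻¹) by group,
    ra_t, ra_u, S.commute_u_t.eq]

theorem commute_of_conj {g z : G} (h : g * z * g⁻¹ = z) : Commute g z :=
  mul_inv_eq_iff_eq_mul.mp h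

/-- An element fixing `t` and `u` lies in the torus. -/
theorem mem_D_of_conj {g : G} (h1 : g * t * g⁻¹ = t) (h2 : g * S.u * g⁻¹ = S.u) : g ∈ S.D :=
  S.mem_D_iff.mpr ⟨commute_of_conj h1, commute_of_conj h2⟩

theorem ra_D {d : G} (hd : d ∈ S.D) : ra S * d * (ra S)⁻¹ ∈ S.D := by
  obtain ⟨h1, h2⟩ := S.mem_D_iff.mp hd
  refine S.mem_D_iff.mpr ⟨?_, ?_⟩
  · have := h2.map (MulAut.conj (ra S))
    simpa [ra_u] using this
  · have := h1.map (MulAut.conj (ra S))
    simpa [ra_t] using this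

theorem rb_D {d : G} (hd : d ∈ S.D) : rb S * d * (rb S)⁻¹ ∈ S.D := by
  obtain ⟨h1, h2⟩ := S.mem_D_iff.mp hd
  refine S.mem_D_iff.mpr ⟨?_, ?_⟩
  · have := (h1.mul_right h2).map (MulAut.conj (rb S))
    simp only [MulAut.conj_apply, rb_tu] at this
    exact this
  · have := h2.map (MulAut.conj (rb S))
    simpa [rb_u] using this

theorem u_inverts_X {x : G} (hx : x ∈ S.X) : S.u * x * S.u⁻¹ = x⁻¹ := by
  obtain ⟨a, rfl⟩ := S.mem_X.mp hx
  rw [Setting.u, ← map_inv, ← map_mul, ← map_mul, tor_conj_xp, ← map_inv, xp_inv]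
  simp

theorem tu_inverts_X {x : G} (hx : x ∈ S.X) : (t * S.u) * x * (t * S.u)⁻¹ = x⁻¹ := by
  obtain ⟨a, rfl⟩ := S.mem_X.mp hx
  rw [S.tu_eq, ← map_inv, ← map_mul, ← map_mul, tor_conj_xp, ← map_inv, xp_inv]
  simp

theorem X_commute_t {x : G} (hx : x ∈ S.X) : Commute x t := by
  obtain ⟨a, rfl⟩ := S.mem_X.mp hx
  exact S.commute_image _

theorem D_normalizes_X {d x : G} (hd : d ∈ S.D) (hx : x ∈ S.X) : d * x * d⁻¹ ∈ S.X := by
  obtain ⟨a, b, rfl⟩ := S.mem_D.mp hd
  obtain ⟨c, rfl⟩ := S.mem_X.mp hx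
  rw [← map_inv, ← map_mul, ← map_mul, tor_conj_xp]
  exact S.mem_X.mpr ⟨_, rfl⟩

/-- The decomposition of `C(t)`. -/
theorem bruhat_t {g : G} (hg : Commute g t) : g ∈ S.X ⊔ S.D ∨
    ∃ c ∈ S.X ⊔ S.D, ∃ d ∈ S.X ⊔ S.D, g = c * sw S * d := by
  obtain ⟨M, rfl⟩ := S.exists_preimage hg
  have hxp : ∀ x : F, S.ι (xp x) ∈ S.X ⊔ S.D := fun x =>
    Subgroup.mem_sup_left (S.mem_X.mpr ⟨x, rfl⟩)
  have htor : ∀ c d : Fˣ, S.ι (tor c d) ∈ S.X ⊔ S.D := fun c d =>
    Subgroup.mem_sup_right (S.mem_D.mpr ⟨c, d, rfl⟩)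
  rcases gl_bruhat M with ⟨x, c, d, rfl⟩ | ⟨x, y, c, d, rfl⟩
  · left
    rw [map_mul]
    exact mul_mem (hxp x) (htor c d)
  · right
    refine ⟨_, mul_mem (hxp x) (htor c d), _, hxp y, ?_⟩
    rw [sw, map_mul, map_mul, map_mul]

theorem card_centralizer : Nat.card (Subgroup.centralizer ({t} : Set G)) =
    Nat.card F * (Nat.card F + 1) * Nat.card S.D := by
  haveI := Fintype.ofFinite F
  have hC : Subgroup.centralizer ({t} : Set G) = S.ι.range := by
    ext g
    rw [Subgroup.mem_centralizer_singleton_iff, MonoidHom.mem_range, S.range_iff]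
    exact Iff.rfl
  have h1 : Nat.card S.ι.range * Nat.card S.ι.ker = Nat.card (GL (Fin 2) F) := by
    rw [← Nat.card_congr (QuotientGroup.quotientKerEquivRange S.ι).toEquiv]
    exact (Subgroup.card_eq_card_quotient_mul_card_subgroup _).symm
  have h2 : Nat.card S.D * Nat.card S.ι.ker = (Nat.card F - 1) * (Nat.card F - 1) := by
    have e : Nat.card (S.ι.comp torHom).ker = Nat.card S.ι.ker := by
      refine Nat.card_congr (Equiv.ofBijective
        (fun p => (⟨torHom p.1, p.2⟩ : S.ι.ker)) ⟨?_, ?_⟩)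
      · intro p r e
        obtain ⟨e1, e2⟩ := tor_injective (Subtype.ext_iff.mp e)
        exact Subtype.ext (Prod.ext e1 e2)
      · rintro ⟨M, hM⟩
        obtain ⟨c, rfl, -⟩ := S.ker_scalar hM
        exact ⟨⟨(c, c), hM⟩, rfl⟩
    have h3 := Subgroup.card_eq_card_quotient_mul_card_subgroup (S.ι.comp torHom).ker
    rw [Nat.card_congr (QuotientGroup.quotientKerEquivRange _).toEquiv, e, Nat.card_prod,
      Nat.card_units] at h3
    exact h3.symm
  rw [hC]
  refine Nat.eq_of_mul_eq_mul_right (show 0 < Nat.card S.ι.ker from Nat.card_pos) ?_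
  rw [h1, mul_assoc, h2, Matrix.card_GL_field, Fin.prod_univ_two, Nat.card_eq_fintype_card]
  obtain ⟨k, hk⟩ : ∃ k, Fintype.card F = k + 1 := ⟨Fintype.card F - 1, by
    have := Fintype.card_pos (α := F); omega⟩
  simp only [Fin.val_zero, Fin.val_one, pow_zero, pow_one, hk, Nat.add_sub_cancel]
  have e1 : (k + 1) ^ 2 - 1 = k * (k + 2) := by
    rw [show (k + 1) ^ 2 = k * (k + 2) + 1 by ring, Nat.add_sub_cancel]
  have e2 : (k + 1) ^ 2 - (k + 1) = k * (k + 1) := by
    rw [show (k + 1) ^ 2 = k * (k + 1) + (k + 1) by ring, Nat.add_sub_cancel]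
  rw [e1, e2]
  ring

include S in
/-- `C(t)` contains a Sylow 2-subgroup. -/
theorem odd_index : Odd (Subgroup.centralizer ({t} : Set G)).index := by
  haveI : Fact (Nat.Prime 2) := ⟨Nat.prime_two⟩
  set C := Subgroup.centralizer ({t} : Set G) with hCdef
  have hmem : ∀ {g : G}, g ∈ C ↔ Commute g t := fun {g} => Subgroup.mem_centralizer_singleton_iff
  have htC : t ∈ C := hmem.mpr (Commute.refl t)
  have hsC : sw S ∈ C := hmem.mpr (S.commute_image _)
  have huC : S.u ∈ C := hmem.mpr S.commute_u_t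
  -- the 2-group generated by `t`, `u` and the swap
  let W : Subgroup G := (Subgroup.zpowers t ⊔ Subgroup.zpowers S.u) ⊔ Subgroup.zpowers (sw S)
  have hzp : ∀ {i : G}, i * i = 1 → IsPGroup 2 (Subgroup.zpowers i) := fun {i} hi => by
    have : orderOf i ∣ 2 ^ 1 := orderOf_dvd_of_pow_eq_one (by rw [pow_one, pow_two, hi])
    obtain ⟨k, -, hk⟩ := (Nat.dvd_prime_pow Nat.prime_two).mp this
    exact IsPGroup.of_card (n := k) (by rw [Nat.card_zpowers, hk])
  have hU : IsPGroup 2 ↥(Subgroup.zpowers t ⊔ Subgroup.zpowers S.u) := by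
    refine (hzp S.mul_self).to_sup_of_normal_left' (hzp S.u_mul_self) ?_
    rw [Subgroup.zpowers_le]
    refine Subgroup.centralizer_le_normalizer _ ?_
    rw [Subgroup.mem_centralizer_iff]
    intro z hz
    obtain ⟨n, rfl⟩ := Subgroup.mem_zpowers_iff.mp hz
    exact (S.commute_u_t.symm.zpow_left n).eq
  have hW : IsPGroup 2 W := by
    refine hU.to_sup_of_normal_left' (hzp (sw_sq S)) ?_
    rw [Subgroup.zpowers_le]
    refine Subgroup.mem_normalizer_iff_map_conj_eq.mpr ?_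
    rw [Subgroup.map_sup, MonoidHom.map_zpowers, MonoidHom.map_zpowers]
    have e1 : MulAut.conj (sw S) t = t := sw_t S
    have e2 : MulAut.conj (sw S) S.u = t * S.u := S.swap_conj_u
    simp only [MonoidHom.coe_coe, e1, e2]
    refine le_antisymm (sup_le le_sup_left (Subgroup.zpowers_le.mpr ?_))
      (sup_le le_sup_left (Subgroup.zpowers_le.mpr ?_))
    · exact mul_mem (Subgroup.mem_sup_left (Subgroup.mem_zpowers t))
        (Subgroup.mem_sup_right (Subgroup.mem_zpowers _))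
    · have h1 : t ∈ Subgroup.zpowers t ⊔ Subgroup.zpowers (t * S.u) :=
        Subgroup.mem_sup_left (Subgroup.mem_zpowers t)
      have h2 : t * S.u ∈ Subgroup.zpowers t ⊔ Subgroup.zpowers (t * S.u) :=
        Subgroup.mem_sup_right (Subgroup.mem_zpowers _)
      have := mul_mem h1 h2
      rwa [← mul_assoc, S.mul_self, one_mul] at this
  have hWC : W ≤ C := sup_le (sup_le (Subgroup.zpowers_le.mpr htC) (Subgroup.zpowers_le.mpr huC))
    (Subgroup.zpowers_le.mpr hsC)
  have hWC' : IsPGroup 2 ↥(W.subgroupOf C) := hW.comap_of_injective C.subtype C.subtype_injective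
  obtain ⟨T, hWT⟩ := hWC'.exists_le_sylow
  let T' : Subgroup G := (T : Subgroup C).map C.subtype
  have hT'p : IsPGroup 2 T' := T.isPGroup'.map _
  obtain ⟨P, hTP⟩ := hT'p.exists_le_sylow
  have hin : ∀ {g : G}, g ∈ W → g ∈ T' := fun {g} hg => ⟨⟨g, hWC hg⟩, hWT hg, rfl⟩
  have htT : t ∈ T' := hin (Subgroup.mem_sup_left (Subgroup.mem_sup_left (Subgroup.mem_zpowers t)))
  have huT : S.u ∈ T' := hin (Subgroup.mem_sup_left (Subgroup.mem_sup_right (Subgroup.mem_zpowers _)))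
  have hsT : sw S ∈ T' := hin (Subgroup.mem_sup_right (Subgroup.mem_zpowers _))
  -- `t` is the only involution centralising `u` and the swap inside `C(t)`
  have huniq : ∀ i : G, i * i = 1 → i ≠ 1 → Commute i t → Commute i S.u → Commute i (sw S) →
      i = t := by
    intro i hi hi1 h1 h2 h3
    obtain ⟨M, rfl, hM⟩ := S.exists_lift_invol hi h1
    obtain ⟨c, d, rfl⟩ := commute_tor S.neg_one_ne (S.commute_lift (N := tor (-1) 1) h2).eq
    have h4 := (S.commute_lift (N := swap) h3).eq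
    have h5 : swap * tor c d * swap⁻¹ = tor c d := by rw [← h4, mul_inv_cancel_right]
    rw [swap_conj_tor] at h5
    obtain ⟨rfl, -⟩ := tor_injective h5
    rw [tor_mul] at hM
    have hh := (tor_injective (hM.trans (map_one (torHom (F := F))).symm)).1
    rcases mul_self_eq_one_iff.1 (show (d : F) * d = 1 by simpa using congrArg Units.val hh) with
      e | e
    · exfalso
      have : d = 1 := Units.ext (by simpa using e)
      subst this
      exact hi1 ((congrArg S.ι (map_one (torHom (F := F)))).trans (map_one _))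
    · have : d = -1 := Units.ext (by simpa using e)
      subst this
      exact S.ι_neg
  have heq : T' = (P : Subgroup G) := by
    by_contra hne
    have hlt : T'.subgroupOf P < ⊤ := by
      refine lt_top_iff_ne_top.mpr fun h => hne (le_antisymm hTP ?_)
      exact Subgroup.subgroupOf_eq_top.mp h
    haveI : Group.IsNilpotent ↥(P : Subgroup G) := P.isPGroup'.isNilpotent
    have hn := normalizerCondition_of_isNilpotent (T'.subgroupOf P) hlt
    obtain ⟨n, hnN, hnT⟩ := SetLike.exists_of_lt hn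
    refine hnT ?_
    rw [Subgroup.mem_subgroupOf]
    have hconj : ∀ z ∈ T', (n : G) * z * (n : G)⁻¹ ∈ T' := fun z hz =>
      (Subgroup.mem_normalizer_iff.mp hnN ⟨z, hTP hz⟩).mp hz
    have hinv : ∀ z ∈ T', (n : G)⁻¹ * z * (n : G) ∈ T' := fun z hz => by
      have := (Subgroup.mem_normalizer_iff.mp (inv_mem hnN) ⟨z, hTP hz⟩).mp hz
      simpa [Subgroup.mem_subgroupOf] using this
    set i := (n : G) * t * (n : G)⁻¹ with hi
    have hcom : ∀ z ∈ T', Commute i z := fun z hz => by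
      obtain ⟨w, hw, hwe⟩ := hinv z hz
      have h1 : Commute t ((n : G)⁻¹ * z * (n : G)) := hwe ▸ (hmem.mp w.2).symm
      have h2 := h1.map (MulAut.conj (n : G))
      simpa [hi, mul_assoc] using h2
    have hit : i = t := by
      refine huniq i ?_ ?_ (hcom t htT) (hcom _ huT) (hcom _ hsT)
      · rw [hi, show (n : G) * t * (n : G)⁻¹ * ((n : G) * t * (n : G)⁻¹) =
          (n : G) * (t * t) * (n : G)⁻¹ by group, S.mul_self, mul_one, mul_inv_cancel]
      · intro e
        exact S.ne_one (conj_eq_one_iff.mp e)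
    have hnC : (n : G) ∈ C := hmem.mpr (commute_of_conj hit)
    have hsup : IsPGroup 2 ↥((T : Subgroup C) ⊔ Subgroup.zpowers (⟨n, hnC⟩ : C)) := by
      refine T.isPGroup'.to_sup_of_normal_left' ?_ ?_
      · obtain ⟨k, hk⟩ := P.isPGroup' n
        have : orderOf (⟨n, hnC⟩ : C) ∣ 2 ^ k := by
          refine orderOf_dvd_of_pow_eq_one (Subtype.ext ?_)
          rw [Subgroup.coe_pow]
          exact (Subgroup.coe_pow _ n _).symm.trans (congrArg Subtype.val hk)
        obtain ⟨j, -, hj⟩ := (Nat.dvd_prime_pow Nat.prime_two).mp this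
        exact IsPGroup.of_card (n := j) (by rw [Nat.card_zpowers, hj])
      · refine Subgroup.zpowers_le.mpr (Subgroup.mem_normalizer_iff.mpr fun z => ⟨fun hz => ?_, fun hz => ?_⟩)
        · obtain ⟨w, hw, e⟩ := hconj z ⟨z, hz, rfl⟩
          rwa [show (⟨n, hnC⟩ : C) * z * (⟨n, hnC⟩ : C)⁻¹ = w from Subtype.ext e.symm]
        · obtain ⟨w, hw, e⟩ := hinv _ ⟨_, hz, rfl⟩
          have : (w : G) = z := by
            rw [show (w : G) = _ from e]; simp [mul_assoc]
          rwa [Subtype.ext this] at hw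
    have := T.is_maximal' hsup le_sup_left
    exact ⟨⟨n, hnC⟩, this ▸ Subgroup.mem_sup_right (Subgroup.mem_zpowers _), rfl⟩
  have hidx : ¬ 2 ∣ T'.index := heq ▸ P.not_dvd_index
  have hdvd : C.index ∣ T'.index := Subgroup.index_dvd_of_le (Subgroup.map_subtype_le _)
  rw [← Nat.not_even_iff_odd]
  exact fun he => hidx ((even_iff_two_dvd.mp he).trans hdvd)

end Cfsg.Agent.H26.LThree
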