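import Cfsg.Agent.H35.Semi.GLRoots

/-!
# Two split tori of `GL₂(F)` generate a root element when `|F| ≥ 7`
-/

set_option autoImplicit false

namespace Cfsg.Agent.H26.LThree

open Matrix Cfsg.Agent.H35.Semi

variable {F : Type*} [Field F]

/-- `[[1, r], [r, 1]]`, an element centralising the swap. -/
def mm (r : F) (h : 1 - r * r ≠ 0) : GL (Fin 2) F :=
  Matrix.GeneralLinearGroup.mkOfDetNeZero !![1, r; r, 1] (by simpa [Matrix.det_fin_two] using h)

theorem coe_mm (r : F) (h : 1 - r * r ≠ 0) :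
    (mm r h : Matrix (Fin 2) (Fin 2) F) = !![1, r; r, 1] := rfl

theorem mm_commute_swap (r : F) (h : 1 - r * r ≠ 0) : mm r h * swap = swap * mm r h := by
  refine Units.ext ?_
  simp [coe_mm]

theorem exists_xm [Fintype F] (h7 : 7 ≤ Fintype.card F) (K : Subgroup (GL (Fin 2) F))
    (hD : ∀ a b : Fˣ, tor a b ∈ K) (hC : ∀ g : GL (Fin 2) F, g * swap = swap * g → g ∈ K) :
    ∃ c : F, c ≠ 0 ∧ xm c ∈ K := by
  classical
  obtain ⟨r, hr⟩ : ∃ r : F, r ∉ ({0, 1, -1} : Finset F) := by
    by_contra hall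
    push Not at hall
    have h : (Finset.univ : Finset F).card ≤ ({0, 1, -1} : Finset F).card :=
      Finset.card_le_card fun x _ => hall x
    rw [Finset.card_univ] at h
    have := (Finset.card_le_three : ({0, 1, -1} : Finset F).card ≤ 3)
    omega
  obtain ⟨s, hs⟩ : ∃ s : F, s ∉ ({0, 1, -1, r, -r} : Finset F) := by
    by_contra hall
    push Not at hall
    have h : (Finset.univ : Finset F).card ≤ ({0, 1, -1, r, -r} : Finset F).card :=
      Finset.card_le_card fun x _ => hall x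
    rw [Finset.card_univ] at h
    have := (Finset.card_le_five : ({0, 1, -1, r, -r} : Finset F).card ≤ 5)
    omega
  simp only [Finset.mem_insert, Finset.mem_singleton, not_or] at hr hs
  obtain ⟨hr0, hr1, hr2⟩ := hr
  obtain ⟨hs0, hs1, hs2, hsr, hsr'⟩ := hs
  have h1 : 1 - r * r ≠ 0 := fun e => (mul_self_eq_one_iff.mp (sub_eq_zero.mp e).symm).elim hr1 hr2
  have h2 : 1 - s * s ≠ 0 := fun e => (mul_self_eq_one_iff.mp (sub_eq_zero.mp e).symm).elim hs1 hs2
  have h3 : s * s - r * r ≠ 0 := fun e =>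
    (mul_self_eq_mul_self_iff.mp (sub_eq_zero.mp e)).elim hsr hsr'
  have hd0 : s * (r * r - 1) / r ≠ 0 :=
    div_ne_zero (mul_ne_zero hs0 (fun e => h1 (by linear_combination -e))) hr0
  let δ : Fˣ := Units.mk0 _ hd0
  let α : Fˣ := Units.mk0 _ h2
  let c : F := (r - s * s / r) / (δ : F)
  have hc : c ≠ 0 := by
    refine div_ne_zero (fun e => h3 ?_) hd0
    field_simp at e
    linear_combination -e
  refine ⟨c, hc, ?_⟩
  let d : Fˣ := Units.mk0 (-s / r) (div_ne_zero (neg_ne_zero.mpr hs0) hr0)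
  have hdc : (δ : F) * c = r - s * s / r := mul_div_cancel₀ _ δ.ne_zero
  have key : mm r h1 * tor 1 d * mm s h2 = tor α δ * xm c := by
    refine gl_ext ?_ ?_ ?_ ?_ <;>
      simp [coe_mm, Matrix.mul_apply, Fin.sum_univ_two, hdc, α, d]
    all_goals (try simp [δ])
    all_goals field_simp
    all_goals ring
  have hk := mul_mem (mul_mem (hC _ (mm_commute_swap r h1)) (hD 1 d)) (hC _ (mm_commute_swap s h2))
  rw [key] at hk
  have := mul_mem (inv_mem (hD α δ)) hk
  rwa [inv_mul_cancel_left] at this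

end Cfsg.Agent.H26.LThree
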