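import Cfsg.Agent.H26.LThree.Local
import Cfsg.Agent.Bridge.Bender
import Cfsg.Agent.H76.PostBender.Main

/-!
# Generation and double transitivity in the hexagon configuration
-/

set_option autoImplicit false

open Subgroup
open scoped Pointwise

namespace Cfsg.Agent.H26.LThree

variable {G : Type*} [Group G]

namespace Hex

variable (h : Hex G)

/-- The subgroup generated by the point stabiliser and `s₂`. -/
def H₀ : Subgroup G := h.P₁ ⊔ zpowers h.s₂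

theorem P₁_le_H₀ : h.P₁ ≤ h.H₀ := le_sup_left

theorem s₂_mem_H₀ : h.s₂ ∈ h.H₀ := mem_sup_right (mem_zpowers _)

variable [Finite G]

theorem conj_to_v {i : G} (hiH : i ∈ h.H₀) (hi : orderOf i = 2) :
    ∃ k ∈ h.H₀, k * h.v * k⁻¹ = i := by
  haveI : Fact (Nat.Prime 2) := ⟨Nat.prime_two⟩
  set H := h.H₀ with hHdef
  have hM : h.M₁ ≤ H := h.M₁_le.trans h.P₁_le_H₀
  let Mr : Subgroup H := h.M₁.subgroupOf H
  have hidx : Odd Mr.index := by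
    have h1 := Subgroup.relIndex_mul_index hM
    change Odd (h.M₁.relIndex H)
    have h2 : Odd (h.M₁.index) := h.odd_index
    rw [← h1] at h2
    exact (Nat.odd_mul.mp h2).1
  obtain ⟨T⟩ : Nonempty (Sylow 2 Mr) := inferInstance
  let T' : Subgroup H := (T : Subgroup Mr).map Mr.subtype
  have hT'p : IsPGroup 2 T' := T.isPGroup'.map _
  have hT'idx : ¬ 2 ∣ T'.index := by
    show ¬ 2 ∣ ((T : Subgroup Mr).map Mr.subtype).index
    rw [Subgroup.index_map_subtype]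
    intro hd
    rcases Nat.prime_two.dvd_mul.mp hd with h' | h'
    · exact T.not_dvd_index h'
    · exact (Nat.not_even_iff_odd.mpr hidx) (even_iff_two_dvd.mpr h')
  let S : Sylow 2 H := hT'p.toSylow hT'idx
  have hSM : (S : Subgroup H) ≤ Mr := Subgroup.map_subtype_le _
  have hio : orderOf (⟨i, hiH⟩ : H) = 2 := by rw [Subgroup.orderOf_mk]; exact hi
  have hip : IsPGroup 2 (zpowers (⟨i, hiH⟩ : H)) :=
    IsPGroup.of_card (n := 1) (by rw [Nat.card_zpowers, hio, pow_one])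
  obtain ⟨Q, hQ⟩ := hip.exists_le_sylow
  obtain ⟨k, hk⟩ := MulAction.exists_smul_eq H Q S
  have hmem : k * (⟨i, hiH⟩ : H) * k⁻¹ ∈ (S : Subgroup H) := by
    rw [← hk, Sylow.coe_subgroup_smul, Subgroup.mem_pointwise_smul_iff_inv_smul_mem]
    simp only [MulAut.smul_def, MulAut.inv_apply, MulAut.conj_symm_apply]
    rw [show k⁻¹ * (k * (⟨i, hiH⟩ : H) * k⁻¹) * k = ⟨i, hiH⟩ by group]
    exact hQ (mem_zpowers _)
  have hjM : (k : G) * i * (k : G)⁻¹ ∈ h.M₁ := hSM hmem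
  have hj : orderOf ((k : G) * i * (k : G)⁻¹) = 2 := by
    rw [← MulAut.conj_apply, MulEquiv.orderOf_eq]; exact hi
  rcases h.fusion _ hjM hj with e | ⟨c, hc, e⟩
  · refine ⟨(k : G)⁻¹, inv_mem k.2, ?_⟩
    rw [← e]; group
  · refine ⟨(k : G)⁻¹ * c * h.s₂, mul_mem (mul_mem (inv_mem k.2) (hM hc)) h.s₂_mem_H₀, ?_⟩
    calc (k : G)⁻¹ * c * h.s₂ * h.v * ((k : G)⁻¹ * c * h.s₂)⁻¹
        = (k : G)⁻¹ * (c * (h.s₂ * h.v * h.s₂⁻¹) * c⁻¹) * k := by group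
      _ = i := by rw [h.s₂_v, e]; group

theorem H₀_eq_top [IsSimpleGroup G] : h.H₀ = ⊤ := by
  by_contra hne
  haveI : Fact (Nat.Prime 2) := ⟨Nat.prime_two⟩
  have hM : h.M₁ ≤ h.H₀ := h.M₁_le.trans h.P₁_le_H₀
  have hse : Cfsg.IsStronglyEmbedded h.H₀ := by
    refine ⟨hne, ?_, fun g hg => ?_⟩
    · have := orderOf_dvd_natCard (⟨h.v, hM h.v_mem_M₁⟩ : h.H₀)
      rw [Subgroup.orderOf_mk, h.hv] at this
      exact even_iff_two_dvd.mpr this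
    · rw [← Nat.not_even_iff_odd]
      intro hev
      obtain ⟨⟨i, hiH, hig⟩, hi⟩ := exists_prime_orderOf_dvd_card'
        (G := ↥(h.H₀ ⊓ h.H₀.map (MulAut.conj g).toMonoidHom)) 2 (even_iff_two_dvd.mp hev)
      replace hi : orderOf i = 2 := (Subgroup.orderOf_coe _).trans hi
      obtain ⟨j, hjH, hji⟩ := hig
      have hj : orderOf j = 2 := by
        rw [← hi, ← hji]
        exact (MulEquiv.orderOf_eq _ _).symm
      obtain ⟨a, ha, hai⟩ := h.conj_to_v hiH hi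
      obtain ⟨b, hb, hbj⟩ := h.conj_to_v hjH hj
      have hc : a⁻¹ * g * b ∈ h.M₁ := by
        rw [M₁, mem_centralizer_singleton]
        have e : a * h.v * a⁻¹ = g * (b * h.v * b⁻¹) * g⁻¹ := by
          rw [hai, hbj, ← hji]; rfl
        calc h.v * (a⁻¹ * g * b) = a⁻¹ * (a * h.v * a⁻¹) * g * b := by group
          _ = _ := by rw [e]; group
      apply hg
      have := mul_mem (mul_mem ha (hM hc)) (inv_mem hb)
      rwa [show a * (a⁻¹ * g * b) * b⁻¹ = g by group] at this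
  have hna : ∃ a b : G, a * b ≠ b * a := by
    by_contra hab
    push Not at hab
    have hA : h.A = ⊥ := (Subgroup.eq_bot_iff_forall _).mpr fun a ha =>
      eq_one_of_inverted h.odd_A ha (h.t_A a ha) (hab _ _)
    have := h.card_A
    rw [hA, Subgroup.card_bot] at this
    have := h.hq
    omega
  obtain ⟨S, hS⟩ := H76.PostBender.eq_normalizer (Bridge.bender G hna _ hse) hse
  -- a 2-element normalising a Sylow 2-subgroup lies in it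
  have htN : h.t ∈ normalizer ((S : Subgroup G) : Set G) :=
    hS ▸ hM (h.D_v h.t_mem_D)
  have htS : h.t ∈ (S : Subgroup G) := by
    have hp : IsPGroup 2 ↥(zpowers h.t) :=
      IsPGroup.of_card (n := 1) (by rw [Nat.card_zpowers, h.ht, pow_one])
    have hle : zpowers h.t ≤ normalizer ((S : Subgroup G) : Set G) := zpowers_le.mpr htN
    have h2 : IsPGroup 2 ↥((S : Subgroup G) ⊔ zpowers h.t) :=
      S.isPGroup'.to_sup_of_normal_left' hp hle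
    have := S.is_maximal' h2 le_sup_left
    rw [← this]
    exact mem_sup_right (mem_zpowers _)
  have hA : h.A = ⊥ := by
    refine (Subgroup.eq_bot_iff_forall _).mpr fun a ha => ?_
    have haN : a ∈ normalizer ((S : Subgroup G) : Set G) := hS ▸ hM (h.A_v ha)
    have h1 := mul_mem (conj_mem_of_mem_normalizer haN htS) (inv_mem htS)
    have h2 : a * h.t * a⁻¹ * h.t⁻¹ = a * a := by
      rw [show a * h.t * a⁻¹ * h.t⁻¹ = a * (h.t * a⁻¹ * h.t⁻¹) by group,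
        h.t_A _ (inv_mem ha), inv_inv]
    rw [h2] at h1
    have haS : a ∈ (S : Subgroup G) := mem_of_sq_mem h.odd_A ha h1
    obtain ⟨k, hk⟩ := S.isPGroup'.exists_card_eq
    have hd1 : orderOf a ∣ 2 ^ k := by
      have := orderOf_dvd_natCard (⟨a, haS⟩ : ↥(S : Subgroup G))
      rwa [Subgroup.orderOf_mk, hk] at this
    have hd2 : orderOf a ∣ Nat.card h.A := by
      have := orderOf_dvd_natCard (⟨a, ha⟩ : h.A)
      rwa [Subgroup.orderOf_mk] at this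
    exact orderOf_eq_one_iff.mp (Nat.eq_one_of_dvd_coprimes
      (Nat.Coprime.pow_left k (Nat.coprime_two_left.mpr h.odd_A)) hd1 hd2)
  have := h.card_A
  rw [hA, Subgroup.card_bot] at this
  have := h.hq
  omega

/-- Points. -/
abbrev Pt : Type _ := G ⧸ h.P₁

/-- Lines. -/
abbrev Ln : Type _ := G ⧸ h.P₂

/-- The base point. -/
def p₀ : h.Pt := ((1 : G) : G ⧸ h.P₁)

/-- The second base point. -/
def p₁ : h.Pt := h.s₂ • h.p₀

/-- The base line. -/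
def l₀ : h.Ln := ((1 : G) : G ⧸ h.P₂)

theorem smul_p₀ (g : G) : g • h.p₀ = h.p₀ ↔ g ∈ h.P₁ := by
  rw [p₀, MulAction.Quotient.smul_coe, smul_eq_mul, mul_one, eq_comm, QuotientGroup.eq, inv_one,
    one_mul]

theorem smul_l₀ (g : G) : g • h.l₀ = h.l₀ ↔ g ∈ h.P₂ := by
  rw [l₀, MulAction.Quotient.smul_coe, smul_eq_mul, mul_one, eq_comm, QuotientGroup.eq, inv_one,
    one_mul]

theorem smul_p₁ (g : G) : g • h.p₁ = h.p₁ ↔ h.s₂⁻¹ * g * h.s₂ ∈ h.P₁ := by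
  rw [p₁, ← smul_p₀ h, mul_smul, mul_smul, inv_smul_eq_iff]

theorem B_fix {g : G} (hg : g ∈ (h.X ⊔ h.A) ⊔ h.D) : g • h.p₁ = h.p₁ :=
  (h.smul_p₁ g).mpr (h.B_conj hg)

theorem s₂_p₁ : h.s₂ • h.p₁ = h.p₀ := by
  rw [p₁, ← mul_smul]; exact (h.smul_p₀ _).mpr (h.D_le₁ h.s₂_sq)

theorem p₁_ne : h.p₁ ≠ h.p₀ := by
  intro e
  have hX : ∀ y ∈ h.Y, y = 1 := fun y hy => h.Y_inter hy (by
    have hm : h.s₂ ∈ h.P₁ := (h.smul_p₀ _).mp e
    exact mul_mem (mul_mem (inv_mem hm) (h.Y_le₁ hy)) hm)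
  have := h.card_Y
  rw [(Subgroup.eq_bot_iff_forall _).mpr hX, Subgroup.card_bot] at this
  have := h.hq
  omega

theorem exists_mul_YD {g : G} (hg : g ∈ h.Y ⊔ h.D) : ∃ y ∈ h.Y, ∃ d ∈ h.D, g = y * d :=
  exists_mul_of_sup h.D_Y hg

theorem exists_mul_AD {g : G} (hg : g ∈ h.A ⊔ h.D) : ∃ a ∈ h.A, ∃ d ∈ h.D, g = a * d :=
  exists_mul_of_sup h.D_A hg

theorem YD_le₁ : h.Y ⊔ h.D ≤ h.P₁ := sup_le h.Y_le₁ h.D_le₁

theorem AD_le₁ : h.A ⊔ h.D ≤ h.P₁ := sup_le h.A_le₁ h.D_le₁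

/-- The orbit of the second base point under the point stabiliser. -/
def Orb : Set h.Pt := {p | ∃ g ∈ h.P₁, g • h.p₁ = p}

theorem smul_M₂ {c : G} (hc : c ∈ h.M₂) : c • h.p₀ = h.p₀ ∨ c • h.p₀ ∈ h.Orb := by
  rcases h.bruhat_u c hc with hb | ⟨a, ha, b, hb, rfl⟩
  · exact Or.inl ((h.smul_p₀ _).mpr (h.YD_le₁ hb))
  · refine Or.inr ⟨a, h.YD_le₁ ha, ?_⟩
    rw [mul_smul, mul_smul, (h.smul_p₀ b).mpr (h.YD_le₁ hb)]; rfl

theorem E_p₁ {e : G} (he : e ∈ h.X ⊔ h.Y) : ∃ y ∈ h.Y, e • h.p₁ = y • h.p₁ := by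
  obtain ⟨x, hx, y, hy, rfl⟩ := h.mem_XY he
  refine ⟨y, hy, ?_⟩
  rw [h.comm_XY x hx y hy, mul_smul, h.B_fix (mem_sup_left (mem_sup_left hx))]

theorem orb_cases {p : h.Pt} (hp : p ∈ h.Orb) :
    (∃ y ∈ h.Y, p = y • h.p₁) ∨ ∃ α ∈ h.A ⊔ h.D, ∃ y ∈ h.Y, p = (α * h.s₁ * y) • h.p₁ := by
  obtain ⟨g, hg, rfl⟩ := hp
  obtain ⟨e, he, c, hc, rfl⟩ := exists_mul_of_sup h.norm_E₁ hg
  have hAD : ∀ {β : G}, β ∈ h.A ⊔ h.D → β • h.p₁ = h.p₁ := by
    intro β hβ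
    have hle : h.A ⊔ h.D ≤ (h.X ⊔ h.A) ⊔ h.D :=
      sup_le (le_sup_right.trans le_sup_left) le_sup_right
    exact h.B_fix (hle hβ)
  rcases h.bruhat_v c hc with hb | ⟨α, hα, β, hβ, rfl⟩
  · obtain ⟨y, hy, hye⟩ := h.E_p₁ he
    exact Or.inl ⟨y, hy, by rw [mul_smul, hAD hb, hye]⟩
  · have hn : α * h.s₁ ∈ h.M₁ := mul_mem (sup_le h.A_v h.D_v hα) h.s₁_mem
    obtain ⟨y, hy, hye⟩ := h.E_p₁ (inv_conj_mem_of_mem_normalizer (h.norm_E₁ hn) he)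
    refine Or.inr ⟨α, hα, y, hy, ?_⟩
    rw [mul_smul (α * h.s₁) y, ← hye, ← mul_smul, show e * (α * h.s₁ * β) =
      α * h.s₁ * ((α * h.s₁)⁻¹ * e * (α * h.s₁)) * β by group, mul_smul _ β, hAD hβ]

theorem s₂_orb {p : h.Pt} (hp : p ∈ h.Orb) : h.s₂ • p = h.p₀ ∨ h.s₂ • p ∈ h.Orb := by
  rcases h.orb_cases hp with ⟨y, hy, rfl⟩ | ⟨α, hα, y, hy, rfl⟩
  · rw [p₁, ← mul_smul, ← mul_smul]
    exact h.smul_M₂ (mul_mem (mul_mem h.s₂_mem (h.Y_u hy)) h.s₂_mem)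
  · obtain ⟨a, ha, d, hd, rfl⟩ := h.exists_mul_AD hα
    obtain ⟨x, hx, hxe⟩ : ∃ x ∈ h.X, h.s₁ * y = x * h.s₁ :=
      ⟨_, h.s₁_Y y hy, by group⟩
    refine Or.inr ⟨(h.s₂ * a * h.s₂⁻¹) * (h.s₂ * d * h.s₂⁻¹) * (h.s₂ * x * h.s₂⁻¹) * h.s₁,
      mul_mem (mul_mem (mul_mem (h.X_le₁ (h.s₂_A a ha)) (h.D_le₁ (h.s₂_D d hd)))
        (h.A_le₁ (h.s₂_X x hx))) (h.M₁_le h.s₁_mem), ?_⟩
    have hb := h.braid
    set w := (h.s₁ * h.s₂ * h.s₁)⁻¹ * (h.s₂ * h.s₁ * h.s₂) with hw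
    have hs1w : h.s₁ * w ∈ h.P₁ := mul_mem (h.M₁_le h.s₁_mem) (h.D_le₁ hb)
    rw [p₁, ← mul_smul, ← mul_smul, ← mul_smul]
    have : h.s₂ * (a * d * h.s₁ * y) * h.s₂ =
        (h.s₂ * a * h.s₂⁻¹) * (h.s₂ * d * h.s₂⁻¹) * (h.s₂ * x * h.s₂⁻¹) * h.s₁ * h.s₂ * (h.s₁ * w) := by
      rw [show h.s₂ * (a * d * h.s₁ * y) * h.s₂ = h.s₂ * (a * d * (h.s₁ * y)) * h.s₂ by group, hxe, hw]; group
    rw [this, mul_smul _ (h.s₁ * w), (h.smul_p₀ _).mpr hs1w]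

theorem points [IsSimpleGroup G] (p : h.Pt) : p = h.p₀ ∨ p ∈ h.Orb := by
  obtain ⟨g, hgp⟩ := MulAction.exists_smul_eq G h.p₀ p
  subst hgp
  let S : Set h.Pt := {p | p = h.p₀ ∨ p ∈ h.Orb}
  have hstab : h.H₀ ≤ MulAction.stabilizer G S := by
    refine sup_le (fun k hk => ?_) ((zpowers_le).mpr ?_)
    · refine (MulAction.mem_stabilizer_set_iff_smul_set_subset S.toFinite).mpr ?_
      rintro _ ⟨p, hp | ⟨m, hm, rfl⟩, rfl⟩
      · exact Or.inl (show k • p = h.p₀ by rw [hp]; exact (h.smul_p₀ k).mpr hk)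
      · exact Or.inr ⟨k * m, mul_mem hk hm, mul_smul k m _⟩
    · refine (MulAction.mem_stabilizer_set_iff_smul_set_subset S.toFinite).mpr ?_
      rintro _ ⟨p, hp | hp, rfl⟩
      · refine Or.inr ⟨1, one_mem _, ?_⟩
        rw [one_smul, hp]; rfl
      · exact h.s₂_orb hp
  have hg : g ∈ MulAction.stabilizer G S := hstab (h.H₀_eq_top ▸ mem_top g)
  have : g • h.p₀ ∈ g • S := Set.smul_mem_smul_set (Or.inl rfl)
  rw [MulAction.mem_stabilizer_iff.mp hg] at this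
  exact this

end Hex

end Cfsg.Agent.H26.LThree
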