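import Mathlib

/-!
# The hexagon configuration of an involution centraliser of type `GL₂(q)/Z`

`v, u, t` are the involutions of a four-group of the torus `D`, `A` is a root group in `C(v)`,
`Y` one in `C(u)` and `X` one in `C(t)`, where `X` commutes with `A` and `Y`.
-/

set_option autoImplicit false

open Subgroup
open scoped Pointwise

namespace Cfsg.Agent.H26.LThree

/-- The hexagon configuration (see `Cfsg.Agent.H26.LThree.Hex.recognition`). -/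
structure Hex (G : Type*) [Group G] where
  /-- the order of the field -/
  q : ℕ
  /-- the involution with centraliser `M₁` -/
  v : G
  /-- the involution with centraliser `M₂` -/
  u : G
  /-- the third involution -/
  t : G
  /-- the root group in `C(t)` -/
  X : Subgroup G
  /-- the root group in `C(u)` -/
  Y : Subgroup G
  /-- the root group in `C(v)` -/
  A : Subgroup G
  /-- the torus -/
  D : Subgroup G
  /-- the Weyl element in `C(v)` -/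
  s₁ : G
  /-- the Weyl element in `C(u)` -/
  s₂ : G
  hq : 2 ≤ q
  hq_odd : Odd q
  hv : orderOf v = 2
  hu : orderOf u = 2
  ht : orderOf t = 2
  u_mem : u ∈ centralizer ({t} : Set G)
  v_mem : v ∈ centralizer ({t} : Set G)
  D_v : D ≤ centralizer ({v} : Set G)
  D_u : D ≤ centralizer ({u} : Set G)
  inter_v : centralizer ({t} : Set G) ⊓ centralizer ({v} : Set G) ≤ D
  inter_u : centralizer ({t} : Set G) ⊓ centralizer ({u} : Set G) ≤ D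
  A_v : A ≤ centralizer ({v} : Set G)
  Y_u : Y ≤ centralizer ({u} : Set G)
  X_t : X ≤ centralizer ({t} : Set G)
  v_X : ∀ x ∈ X, v * x * v⁻¹ = x⁻¹
  v_Y : ∀ y ∈ Y, v * y * v⁻¹ = y⁻¹
  u_X : ∀ x ∈ X, u * x * u⁻¹ = x⁻¹
  u_A : ∀ a ∈ A, u * a * u⁻¹ = a⁻¹
  t_Y : ∀ y ∈ Y, t * y * t⁻¹ = y⁻¹
  t_A : ∀ a ∈ A, t * a * t⁻¹ = a⁻¹
  card_X : Nat.card X = q
  card_Y : Nat.card Y = q
  card_A : Nat.card A = q
  comm_XY : ∀ x ∈ X, ∀ y ∈ Y, x * y = y * x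
  comm_XA : ∀ x ∈ X, ∀ a ∈ A, x * a = a * x
  norm_E₁ : centralizer ({v} : Set G) ≤ normalizer ((X ⊔ Y : Subgroup G) : Set G)
  norm_E₂ : centralizer ({u} : Set G) ≤ normalizer ((X ⊔ A : Subgroup G) : Set G)
  D_X : D ≤ normalizer (X : Set G)
  D_Y : D ≤ normalizer (Y : Set G)
  D_A : D ≤ normalizer (A : Set G)
  s₁_mem : s₁ ∈ centralizer ({v} : Set G)
  s₂_mem : s₂ ∈ centralizer ({u} : Set G)
  s₁_Y : ∀ y ∈ Y, s₁ * y * s₁⁻¹ ∈ X
  s₂_X : ∀ x ∈ X, s₂ * x * s₂⁻¹ ∈ A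
  s₂_A : ∀ a ∈ A, s₂ * a * s₂⁻¹ ∈ X
  s₂_v : s₂ * v * s₂⁻¹ = t
  s₂_D : ∀ d ∈ D, s₂ * d * s₂⁻¹ ∈ D
  s₂_sq : s₂ * s₂ ∈ D
  braid : (s₁ * s₂ * s₁)⁻¹ * (s₂ * s₁ * s₂) ∈ D
  bruhat_v : ∀ g ∈ centralizer ({v} : Set G), g ∈ A ⊔ D ∨
    ∃ a ∈ A ⊔ D, ∃ b ∈ A ⊔ D, g = a * s₁ * b
  bruhat_u : ∀ g ∈ centralizer ({u} : Set G), g ∈ Y ⊔ D ∨
    ∃ a ∈ Y ⊔ D, ∃ b ∈ Y ⊔ D, g = a * s₂ * b
  Y_opp : ∀ y ∈ Y, ∀ y' ∈ Y, (s₂ * y' * s₂⁻¹)⁻¹ * y ∈ D → y = 1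
  card_v : Nat.card ↥(centralizer ({v} : Set G)) = q * (q + 1) * Nat.card D
  card_u : Nat.card ↥(centralizer ({u} : Set G)) = q * (q + 1) * Nat.card D
  odd_index : Odd (centralizer ({v} : Set G)).index
  fusion : ∀ i ∈ centralizer ({v} : Set G), orderOf i = 2 →
    i = v ∨ ∃ c ∈ centralizer ({v} : Set G), c * t * c⁻¹ = i

end Cfsg.Agent.H26.LThree
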