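import Cfsg.Agent.H26.LThree.Generate
import Cfsg.Agent.H29.OW.Transitive

/-!
# The projective plane of the hexagon configuration
-/

set_option autoImplicit false
set_option linter.unusedSectionVars false
set_option linter.style.haveILetI false

open Subgroup
open scoped Pointwise

namespace Cfsg.Agent.H26.LThree

variable {G : Type*} [Group G]

namespace Hex

variable (h : Hex G)

/-- Incidence of points and lines. -/
def I (p : h.Pt) (l : h.Ln) : Prop := ∃ g : G, g • h.p₀ = p ∧ g • h.l₀ = l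

theorem I_smul {p : h.Pt} {l : h.Ln} (g : G) (hI : h.I p l) : h.I (g • p) (g • l) := by
  obtain ⟨k, rfl, rfl⟩ := hI
  exact ⟨g * k, mul_smul g k _, mul_smul g k _⟩

theorem I_smul_iff {p : h.Pt} {l : h.Ln} (g : G) : h.I (g • p) (g • l) ↔ h.I p l := by
  refine ⟨fun hI => ?_, h.I_smul g⟩
  have := h.I_smul g⁻¹ hI
  rwa [inv_smul_smul, inv_smul_smul] at this

theorem I_base : h.I h.p₀ h.l₀ := ⟨1, one_smul _ _, one_smul _ _⟩

variable [Finite G]

theorem I_p₁ : h.I h.p₁ h.l₀ :=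
  ⟨h.s₂, rfl, (h.smul_l₀ _).mpr (h.M₂_le h.s₂_mem)⟩

/-- The points of the base line. -/
theorem on_l₀ {p : h.Pt} (hp : h.I p h.l₀) : p = h.p₀ ∨ ∃ y ∈ h.Y, p = y • h.p₁ := by
  obtain ⟨g, rfl, hg⟩ := hp
  obtain ⟨e, he, c, hc, rfl⟩ := exists_mul_of_sup h.norm_E₂ ((h.smul_l₀ g).mp hg)
  have heB : ∀ {z : G}, z ∈ h.X ⊔ h.A → z ∈ (h.X ⊔ h.A) ⊔ h.D := fun hz => mem_sup_left hz
  rcases h.bruhat_u c hc with hb | ⟨a, ha, b, hb, rfl⟩
  · left
    rw [mul_smul, (h.smul_p₀ c).mpr (h.YD_le₁ hb), (h.smul_p₀ e).mpr (h.B_le₁ (heB he))]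
  · right
    obtain ⟨y, hy, d, hd, rfl⟩ := h.exists_mul_YD ha
    have hyd : y * d ∈ centralizer ({h.u} : Set G) := mul_mem (h.Y_u hy) (h.D_u hd)
    have he' := inv_conj_mem_of_mem_normalizer (h.norm_E₂ hyd) he
    refine ⟨y, hy, ?_⟩
    rw [show e * (y * d * h.s₂ * b) = y * (d * ((y * d)⁻¹ * e * (y * d))) * h.s₂ * b by group,
      mul_smul _ b, (h.smul_p₀ b).mpr (h.YD_le₁ hb), mul_smul _ h.s₂, mul_smul y,
      show h.s₂ • h.p₀ = h.p₁ from rfl,
      h.B_fix (mul_mem (mem_sup_right hd) (heB he'))]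

theorem y_on_l₀ {y : G} (hy : y ∈ h.Y) : h.I (y • h.p₁) h.l₀ := by
  have := h.I_smul y h.I_p₁
  rwa [(h.smul_l₀ y).mpr (h.Y_le₂ hy)] at this

theorem y_inj {y y' : G} (hy : y ∈ h.Y) (hy' : y' ∈ h.Y) (e : y • h.p₁ = y' • h.p₁) : y = y' := by
  have h1 : (y'⁻¹ * y) • h.p₁ = h.p₁ := by rw [mul_smul, e, inv_smul_smul]
  exact (inv_mul_eq_one.mp (h.Y_inter (mul_mem (inv_mem hy') hy) ((h.smul_p₁ _).mp h1))).symm

theorem y_ne {y : G} (hy : y ∈ h.Y) : y • h.p₁ ≠ h.p₀ := fun e => h.p₁_ne (by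
  rw [← (h.smul_p₀ y).mpr (h.Y_le₁ hy)] at e
  exact MulAction.injective y e)

variable [IsSimpleGroup G]

theorem two_trans {p q p' q' : h.Pt} (hpq : p ≠ q) (hpq' : p' ≠ q') :
    ∃ g : G, g • p = p' ∧ g • q = q' := by
  have key : ∀ {a b : h.Pt}, a ≠ b → ∃ g : G, g • h.p₀ = a ∧ g • h.p₁ = b := by
    intro a b hab
    obtain ⟨g, hga⟩ := MulAction.exists_smul_eq G h.p₀ a
    subst hga
    have hb : g⁻¹ • b ≠ h.p₀ := fun e => hab (by rw [← e, smul_inv_smul])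
    obtain ⟨k, hk, hkb⟩ := (h.points (g⁻¹ • b)).resolve_left hb
    exact ⟨g * k, by rw [mul_smul, (h.smul_p₀ k).mpr hk], by rw [mul_smul, hkb, smul_inv_smul]⟩
  obtain ⟨g, hg1, hg2⟩ := key hpq
  obtain ⟨k, hk1, hk2⟩ := key hpq'
  exact ⟨k * g⁻¹, by rw [mul_smul, ← hg1, inv_smul_smul, hk1],
    by rw [mul_smul, ← hg2, inv_smul_smul, hk2]⟩

theorem exists_join (p q : h.Pt) (hpq : p ≠ q) : ∃ l, h.I p l ∧ h.I q l := by
  obtain ⟨g, hg1, hg2⟩ := h.two_trans h.p₁_ne.symm hpq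
  exact ⟨g • h.l₀, hg1 ▸ h.I_smul g h.I_base, hg2 ▸ h.I_smul g h.I_p₁⟩

theorem base_uniq {m : h.Ln} (h0 : h.I h.p₀ m) {y : G} (hy : y ∈ h.Y) (h1 : h.I (y • h.p₁) m) :
    m = h.l₀ := by
  obtain ⟨g, hg0, rfl⟩ := h0
  have hp : h.I (g⁻¹ • (y • h.p₁)) h.l₀ := by
    have := h.I_smul g⁻¹ h1
    rwa [inv_smul_smul] at this
  rcases h.on_l₀ hp with e | ⟨y', hy', e⟩
  · exfalso
    rw [inv_smul_eq_iff, hg0] at e
    exact h.y_ne hy e
  · have hk0 : y⁻¹ * g * y' ∈ h.P₁ :=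
      mul_mem (mul_mem (inv_mem (h.Y_le₁ hy)) ((h.smul_p₀ g).mp hg0)) (h.Y_le₁ hy')
    have hk1 : (y⁻¹ * g * y') • h.p₁ = h.p₁ := by
      rw [mul_smul, mul_smul, ← e, smul_inv_smul, inv_smul_smul]
    have hk := h.B_le₂ (h.stab_le hk0 ((h.smul_p₁ _).mp hk1))
    have hg2 : g ∈ h.P₂ := by
      have := mul_mem (mul_mem (h.Y_le₂ hy) hk) (inv_mem (h.Y_le₂ hy'))
      rwa [show y * (y⁻¹ * g * y') * y'⁻¹ = g by group] at this
    exact (h.smul_l₀ g).mpr hg2

theorem uniq {p q : h.Pt} {l m : h.Ln} (hpl : h.I p l) (hql : h.I q l) (hpm : h.I p m)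
    (hqm : h.I q m) : p = q ∨ l = m := by
  rw [or_iff_not_imp_left]
  intro hpq
  obtain ⟨g, hgp, hgl⟩ := hpl
  have hq0 : h.I (g⁻¹ • q) h.l₀ := by
    have := h.I_smul g⁻¹ hql
    rwa [← hgl, inv_smul_smul] at this
  have hp0 : h.I h.p₀ (g⁻¹ • m) := by
    have := h.I_smul g⁻¹ hpm
    rwa [← hgp, inv_smul_smul] at this
  rcases h.on_l₀ hq0 with e | ⟨y, hy, e⟩
  · exact absurd (by rw [← hgp, ← e, smul_inv_smul]) hpq
  · have := h.base_uniq hp0 hy (e ▸ h.I_smul g⁻¹ hqm)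
    rw [← hgl, ← this, smul_inv_smul]

theorem card_line (l : h.Ln) : Nat.card {p : h.Pt // h.I p l} = h.q + 1 := by
  classical
  obtain ⟨g, rfl⟩ := MulAction.exists_smul_eq G h.l₀ l
  rw [show Nat.card {p : h.Pt // h.I p (g • h.l₀)} = Nat.card {p : h.Pt // h.I p h.l₀} from
    Nat.card_congr ((MulAction.toPerm g⁻¹).subtypeEquiv fun p => by
      rw [MulAction.toPerm_apply, ← h.I_smul_iff g (p := g⁻¹ • p), smul_inv_smul]), ← h.card_Y,
    ← Finite.card_option]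
  refine (Nat.card_congr (Equiv.ofBijective (fun o : Option h.Y => (o.elim
    (⟨h.p₀, h.I_base⟩ : {p : h.Pt // h.I p h.l₀})
    fun y => ⟨(y : G) • h.p₁, h.y_on_l₀ y.2⟩)) ⟨?_, ?_⟩)).symm
  · rintro (_ | a) (_ | b) e
    · rfl
    · exact absurd (Subtype.ext_iff.mp e).symm (h.y_ne b.2)
    · exact absurd (Subtype.ext_iff.mp e) (h.y_ne a.2)
    · exact congrArg _ (Subtype.ext (h.y_inj a.2 b.2 (Subtype.ext_iff.mp e)))
  · rintro ⟨p, hp⟩
    rcases h.on_l₀ hp with rfl | ⟨y, hy, rfl⟩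
    · exact ⟨none, rfl⟩
    · exact ⟨some ⟨y, hy⟩, rfl⟩

omit [IsSimpleGroup G] in
theorem card_D_pos : 0 < Nat.card h.D := Nat.card_pos

theorem card_Pt : Nat.card h.Pt = h.q * h.q + h.q + 1 := by
  classical
  have horb : Nat.card {p : h.Pt // p ≠ h.p₀} = h.q * h.q + h.q := by
    let K : Subgroup h.P₁ := ((h.X ⊔ h.A) ⊔ h.D).subgroupOf h.P₁
    have hK : MulAction.stabilizer h.P₁ h.p₁ = K := by
      ext g
      rw [MulAction.mem_stabilizer_iff, Subgroup.mem_subgroupOf]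
      exact ⟨fun e => h.stab_le g.2 ((h.smul_p₁ g).mp e), h.B_fix⟩
    have hcK : Nat.card K = h.q * h.q * Nat.card h.D := by
      rw [Nat.card_congr (Subgroup.subgroupOfEquivOfLe h.B_le₁).toEquiv, h.card_B]
    have hidx : K.index = h.q * h.q + h.q := by
      have := K.index_mul_card
      rw [hcK, h.card_P₁] at this
      have hpos : 0 < h.q * h.q * Nat.card h.D :=
        Nat.mul_pos (Nat.mul_pos (by have := h.hq; omega) (by have := h.hq; omega)) Nat.card_pos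
      refine Nat.eq_of_mul_eq_mul_right hpos ?_
      rw [this]; ring
    rw [← hidx, ← hK, MulAction.index_stabilizer]
    refine Nat.card_congr ((Equiv.refl h.Pt).subtypeEquiv fun p => ?_)
    constructor
    · intro hp
      obtain ⟨g, hg, hgp⟩ := (h.points p).resolve_left hp
      exact ⟨⟨g, hg⟩, hgp⟩
    · rintro ⟨g, rfl⟩ e
      exact h.p₁_ne (MulAction.injective (g : G) (e.trans ((h.smul_p₀ g).mpr g.2).symm))
  rw [← horb, ← Finite.card_option,
    Nat.card_congr (Equiv.optionSubtypeNe h.p₀)]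

theorem card_Ln : Nat.card h.Ln = h.q * h.q + h.q + 1 := by
  rw [← h.card_Pt]
  have h1 := Subgroup.card_eq_card_quotient_mul_card_subgroup h.P₁
  have h2 := Subgroup.card_eq_card_quotient_mul_card_subgroup h.P₂
  rw [h.card_P₁] at h1
  rw [h.card_P₂] at h2
  refine Nat.eq_of_mul_eq_mul_right ?_ (h2.symm.trans h1)
  have := h.hq
  have : 0 < Nat.card h.D := Nat.card_pos
  positivity

theorem card_point (p : h.Pt) : Nat.card {l : h.Ln // h.I p l} = h.q + 1 := by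
  classical
  letI : Fintype h.Pt := Fintype.ofFinite _
  letI : Fintype {l : h.Ln // h.I p l} := Fintype.ofFinite _
  -- the points other than `p` fall on the lines through `p`
  have hbij : Nat.card {q : h.Pt // q ≠ p} =
      Nat.card (Σ l : {l : h.Ln // h.I p l}, {q : h.Pt // h.I q l.1 ∧ q ≠ p}) := by
    refine (Nat.card_congr (Equiv.ofBijective (fun s => ⟨s.2.1, s.2.2.2⟩) ⟨?_, ?_⟩)).symm
    · rintro ⟨⟨l, hl⟩, ⟨a, ha, ha'⟩⟩ ⟨⟨m, hm⟩, ⟨b, hb, hb'⟩⟩ e
      obtain rfl : a = b := Subtype.ext_iff.mp e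
      obtain rfl : l = m := (h.uniq hl ha hm hb).resolve_left (Ne.symm ha')
      rfl
    · rintro ⟨a, ha⟩
      obtain ⟨l, hl1, hl2⟩ := h.exists_join p a (Ne.symm ha)
      exact ⟨⟨⟨l, hl1⟩, ⟨a, hl2, ha⟩⟩, rfl⟩
  have hfib : ∀ l : {l : h.Ln // h.I p l}, Nat.card {q : h.Pt // h.I q l.1 ∧ q ≠ p} = h.q := by
    intro l
    have h1 : Nat.card {r : {r : h.Pt // h.I r l.1} // r ≠ ⟨p, l.2⟩} = h.q := by
      have := h.card_line l.1
      rw [← Nat.card_congr (Equiv.optionSubtypeNe (⟨p, l.2⟩ : {r : h.Pt // h.I r l.1})),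
        Finite.card_option] at this
      omega
    rw [← h1]
    exact Nat.card_congr
      { toFun := fun r => ⟨⟨r.1, r.2.1⟩, fun e => r.2.2 (Subtype.ext_iff.mp e)⟩
        invFun := fun r => ⟨r.1.1, r.1.2, fun e => r.2 (Subtype.ext e)⟩
        left_inv := fun _ => rfl
        right_inv := fun _ => rfl }
  have hpt : Nat.card {q : h.Pt // q ≠ p} = h.q * h.q + h.q := by
    have := h.card_Pt
    rw [← Nat.card_congr (Equiv.optionSubtypeNe p), Finite.card_option] at this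
    omega
  rw [Nat.card_sigma, Finset.sum_congr rfl (fun l _ => hfib l), Finset.sum_const, smul_eq_mul,
    Finset.card_univ, ← Nat.card_eq_fintype_card, hpt] at hbij
  refine Nat.eq_of_mul_eq_mul_right (show 0 < h.q by have := h.hq; omega) ?_
  rw [← hbij]; ring

theorem exists_meet (l m : h.Ln) (hlm : l ≠ m) : ∃ p, h.I p l ∧ h.I p m := by
  classical
  letI : Fintype h.Ln := Fintype.ofFinite _
  letI : Fintype {p : h.Pt // h.I p l} := Fintype.ofFinite _
  by_contra hno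
  push Not at hno
  let ψ : (Σ p : {p : h.Pt // h.I p l}, {k : h.Ln // h.I p.1 k ∧ k ≠ l}) →
      {k : h.Ln // k ≠ l ∧ k ≠ m} := fun s => ⟨s.2.1, s.2.2.2, fun e => hno s.1.1 s.1.2 (e ▸ s.2.2.1)⟩
  have hψ : Function.Injective ψ := by
    rintro ⟨⟨a, ha⟩, ⟨k, hk, hk'⟩⟩ ⟨⟨b, hb⟩, ⟨k', hk2, hk2'⟩⟩ e
    obtain rfl : k = k' := Subtype.ext_iff.mp e
    obtain rfl : a = b := (h.uniq ha hb hk hk2).resolve_right (Ne.symm hk')
    rfl
  have hle := Nat.card_le_card_of_injective ψ hψ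
  have hfib : ∀ p : {p : h.Pt // h.I p l}, Nat.card {k : h.Ln // h.I p.1 k ∧ k ≠ l} = h.q := by
    intro p
    have h1 : Nat.card {r : {r : h.Ln // h.I p.1 r} // r ≠ ⟨l, p.2⟩} = h.q := by
      have := h.card_point p.1
      rw [← Nat.card_congr (Equiv.optionSubtypeNe (⟨l, p.2⟩ : {r : h.Ln // h.I p.1 r})),
        Finite.card_option] at this
      omega
    rw [← h1]
    exact Nat.card_congr
      { toFun := fun r => ⟨⟨r.1, r.2.1⟩, fun e => r.2.2 (Subtype.ext_iff.mp e)⟩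
        invFun := fun r => ⟨r.1.1, r.1.2, fun e => r.2 (Subtype.ext e)⟩
        left_inv := fun _ => rfl
        right_inv := fun _ => rfl }
  have hlt : Nat.card {k : h.Ln // k ≠ l ∧ k ≠ m} < h.q * h.q + h.q := by
    have h1 := h.card_Ln
    rw [← Nat.card_congr (Equiv.optionSubtypeNe l), Finite.card_option] at h1
    have h2 : Nat.card {k : h.Ln // k ≠ l ∧ k ≠ m} < Nat.card {k : h.Ln // k ≠ l} := by
      letI : Fintype {k : h.Ln // k ≠ l} := Fintype.ofFinite _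
      letI : Fintype {k : h.Ln // k ≠ l ∧ k ≠ m} := Fintype.ofFinite _
      rw [Nat.card_eq_fintype_card, Nat.card_eq_fintype_card]
      refine Fintype.card_lt_of_injective_of_notMem
        (fun k : {k : h.Ln // k ≠ l ∧ k ≠ m} => (⟨k.1, k.2.1⟩ : {k : h.Ln // k ≠ l}))
        (fun a b e => Subtype.ext (Subtype.ext_iff.mp e :)) (b := ⟨m, Ne.symm hlm⟩) ?_
      rintro ⟨k, e⟩
      exact k.2.2 (Subtype.ext_iff.mp e)
    omega
  rw [Nat.card_sigma, Finset.sum_congr rfl (fun p _ => hfib p), Finset.sum_const, smul_eq_mul,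
    Finset.card_univ, ← Nat.card_eq_fintype_card, h.card_line l] at hle
  have : (h.q + 1) * h.q = h.q * h.q + h.q := by ring
  omega

/-- The plane. -/
def plane : H29.OW.Plane h.Pt h.Ln where
  I := h.I
  n := h.q
  two_le := h.hq
  exists_join := h.exists_join
  exists_meet := h.exists_meet
  uniq := h.uniq
  card_line := h.card_line
  card_point := h.card_point
  nonempty := ⟨h.p₀⟩

/-- The action of the group on the plane. -/
def toAut : G →* h.plane.Aut where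
  toFun g := ⟨(MulAction.toPerm g, MulAction.toPerm g), fun _ _ => h.I_smul_iff g⟩
  map_one' := Subtype.ext (Prod.ext (Equiv.ext fun p => one_smul G p) (Equiv.ext fun p => one_smul G p))
  map_mul' a b := Subtype.ext (Prod.ext (Equiv.ext fun p => mul_smul a b p)
    (Equiv.ext fun p => mul_smul a b p))

theorem toAut_smul_pt (g : G) (p : h.Pt) : h.toAut g • p = g • p := rfl

theorem toAut_smul_ln (g : G) (l : h.Ln) : h.toAut g • l = g • l := rfl

theorem toAut_injective : Function.Injective h.toAut := by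
  rw [← MonoidHom.ker_eq_bot_iff]
  refine ((MonoidHom.normal_ker h.toAut).eq_bot_or_eq_top).resolve_right fun e => ?_
  have hs : h.toAut h.s₂ = 1 := MonoidHom.mem_ker.mp (e ▸ mem_top h.s₂)
  exact h.p₁_ne (by
    rw [p₁, ← h.toAut_smul_pt, hs, one_smul])

theorem twoTrans : h.plane.TwoTrans := fun _ _ _ _ hp hq => by
  obtain ⟨g, h1, h2⟩ := h.two_trans hp hq
  exact ⟨h.toAut g, h1, h2⟩

end Hex

end Cfsg.Agent.H26.LThree
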