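import Cfsg.Agent.H26.LThree.Hex

/-!
# Subgroup lemmas in the hexagon configuration
-/

set_option autoImplicit false

open Subgroup
open scoped Pointwise

namespace Cfsg.Agent.H26.LThree

variable {G : Type*} [Group G]

theorem exists_mul_of_sup {N H : Subgroup G} (h : H ≤ normalizer (N : Set G)) {g : G}
    (hg : g ∈ N ⊔ H) : ∃ n ∈ N, ∃ k ∈ H, g = n * k := by
  have h' : g ∈ ((N ⊔ H : Subgroup G) : Set G) := hg
  rw [Subgroup.coe_mul_of_right_le_normalizer_left N H h] at h'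
  obtain ⟨n, hn, k, hk, e⟩ := Set.mem_mul.mp h'
  exact ⟨n, hn, k, hk, e.symm⟩

theorem card_sup_disjoint {N H : Subgroup G} (h : H ≤ normalizer (N : Set G)) (d : N ⊓ H = ⊥) :
    Nat.card (N ⊔ H : Subgroup G) = Nat.card N * Nat.card H := by
  rw [← Nat.card_prod]
  symm
  refine Nat.card_congr (Equiv.ofBijective
    (fun p : N × H => ⟨(p.1 : G) * p.2,
      mul_mem ((le_sup_left : N ≤ N ⊔ H) p.1.2) ((le_sup_right : H ≤ N ⊔ H) p.2.2)⟩) ⟨?_, ?_⟩)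
  · intro p r hpr
    exact Subgroup.mul_injective_of_disjoint (disjoint_iff.mpr d) (Subtype.ext_iff.mp hpr)
  · rintro ⟨g, hg⟩
    obtain ⟨n, hn, k, hk, e⟩ := exists_mul_of_sup h hg
    exact ⟨(⟨n, hn⟩, ⟨k, hk⟩), Subtype.ext e.symm⟩

theorem eq_one_of_sq_of_odd {S : Subgroup G} (hS : Odd (Nat.card S)) {g : G} (hg : g ∈ S)
    (h2 : g * g = 1) : g = 1 := by
  have hd : orderOf g ∣ 2 := orderOf_dvd_of_pow_eq_one (by rw [pow_two, h2])
  rcases (Nat.dvd_prime Nat.prime_two).mp hd with h | h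
  · exact orderOf_eq_one_iff.mp h
  · exfalso
    have : orderOf g ∣ Nat.card S := by
      have := orderOf_dvd_natCard (⟨g, hg⟩ : S)
      rwa [← Subgroup.orderOf_coe] at this
    rw [h] at this
    exact (Nat.not_even_iff_odd.mpr hS) (even_iff_two_dvd.mpr this)

/-- A fixed point of an inverting element in a group of odd order is trivial. -/
theorem eq_one_of_inverted {S : Subgroup G} (hS : Odd (Nat.card S)) {g z : G} (hg : g ∈ S)
    (hinv : z * g * z⁻¹ = g⁻¹) (hcomm : z * g = g * z) : g = 1 := by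
  refine eq_one_of_sq_of_odd hS hg ?_
  have : g = g⁻¹ := by
    rw [← hinv, hcomm, mul_inv_cancel_right]
  calc g * g = g⁻¹ * g := by rw [← this]
    _ = 1 := inv_mul_cancel g

theorem mem_of_sq_mem {S T : Subgroup G} (hS : Odd (Nat.card S)) {g : G} (hg : g ∈ S)
    (h2 : g * g ∈ T) : g ∈ T := by
  obtain ⟨k, hk⟩ := hS
  have h1 : g ^ Nat.card S = 1 := by
    have := pow_card_eq_one' (G := S) (x := ⟨g, hg⟩)
    exact congrArg Subtype.val this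
  have : g = (g * g) ^ (k + 1) := by
    rw [← pow_two, ← pow_mul, show 2 * (k + 1) = Nat.card S + 1 by omega, pow_succ, h1, one_mul]
  rw [this]
  exact pow_mem h2 _

theorem mem_centralizer_singleton {g z : G} :
    g ∈ centralizer ({z} : Set G) ↔ z * g = g * z := by
  rw [Subgroup.mem_centralizer_iff]
  simp

theorem conj_mem_of_mem_normalizer {N : Subgroup G} {k n : G} (hk : k ∈ normalizer (N : Set G))
    (hn : n ∈ N) : k * n * k⁻¹ ∈ N :=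
  (Subgroup.mem_normalizer_iff.mp hk n).mp hn

theorem inv_conj_mem_of_mem_normalizer {N : Subgroup G} {k n : G}
    (hk : k ∈ normalizer (N : Set G)) (hn : n ∈ N) : k⁻¹ * n * k ∈ N := by
  have := conj_mem_of_mem_normalizer (inv_mem hk) hn
  rwa [inv_inv] at this

namespace Hex

variable (h : Hex G)

/-- `C(v)`. -/
def M₁ : Subgroup G := centralizer ({h.v} : Set G)

/-- `C(u)`. -/
def M₂ : Subgroup G := centralizer ({h.u} : Set G)

/-- The point stabiliser. -/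
def P₁ : Subgroup G := (h.X ⊔ h.Y) ⊔ h.M₁

/-- The line stabiliser. -/
def P₂ : Subgroup G := (h.X ⊔ h.A) ⊔ h.M₂

theorem M₁_le : h.M₁ ≤ h.P₁ := le_sup_right

theorem M₂_le : h.M₂ ≤ h.P₂ := le_sup_right

theorem X_le₁ : h.X ≤ h.P₁ := le_sup_left.trans le_sup_left

theorem Y_le₁ : h.Y ≤ h.P₁ := le_sup_right.trans le_sup_left

theorem X_le₂ : h.X ≤ h.P₂ := le_sup_left.trans le_sup_left

theorem A_le₂ : h.A ≤ h.P₂ := le_sup_right.trans le_sup_left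

theorem A_le₁ : h.A ≤ h.P₁ := le_trans h.A_v h.M₁_le

theorem Y_le₂ : h.Y ≤ h.P₂ := le_trans h.Y_u h.M₂_le

theorem D_le₁ : h.D ≤ h.P₁ := le_trans h.D_v h.M₁_le

theorem D_le₂ : h.D ≤ h.P₂ := le_trans h.D_u h.M₂_le

theorem v_mem_M₁ : h.v ∈ h.M₁ := mem_centralizer_singleton.mpr rfl

theorem v_mem_D : h.v ∈ h.D := h.inter_v ⟨h.v_mem, h.v_mem_M₁⟩

theorem t_mem_D : h.t ∈ h.D :=
  h.inter_v ⟨mem_centralizer_singleton.mpr rfl,
    mem_centralizer_singleton.mpr (mem_centralizer_singleton.mp h.v_mem).symm⟩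

theorem u_mem_D : h.u ∈ h.D := h.inter_u ⟨h.u_mem, mem_centralizer_singleton.mpr rfl⟩

theorem mem_XY {g : G} (hg : g ∈ h.X ⊔ h.Y) : ∃ x ∈ h.X, ∃ y ∈ h.Y, g = x * y :=
  exists_mul_of_sup (fun y hy => Subgroup.mem_normalizer_iff.mpr fun x => by
    constructor
    · intro hx
      rw [← h.comm_XY x hx y hy, mul_inv_cancel_right]; exact hx
    · intro hx
      have he := h.comm_XY _ hx y⁻¹ (inv_mem hy)
      have : x = y⁻¹ * (y * x * y⁻¹) * y := by group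
      rw [this, ← he, inv_mul_cancel_right]; exact hx) hg

theorem mem_XA {g : G} (hg : g ∈ h.X ⊔ h.A) : ∃ x ∈ h.X, ∃ a ∈ h.A, g = x * a :=
  exists_mul_of_sup (fun y hy => Subgroup.mem_normalizer_iff.mpr fun x => by
    constructor
    · intro hx
      rw [← h.comm_XA x hx y hy, mul_inv_cancel_right]; exact hx
    · intro hx
      have he := h.comm_XA _ hx y⁻¹ (inv_mem hy)
      have : x = y⁻¹ * (y * x * y⁻¹) * y := by group
      rw [this, ← he, inv_mul_cancel_right]; exact hx) hg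

theorem odd_X : Odd (Nat.card h.X) := h.card_X ▸ h.hq_odd

theorem odd_Y : Odd (Nat.card h.Y) := h.card_Y ▸ h.hq_odd

theorem odd_A : Odd (Nat.card h.A) := h.card_A ▸ h.hq_odd

theorem X_inf_Y : h.X ⊓ h.Y = ⊥ := by
  refine (Subgroup.eq_bot_iff_forall _).mpr fun g ⟨hx, hy⟩ => ?_
  exact eq_one_of_inverted h.odd_Y hy (h.t_Y g hy)
    (mem_centralizer_singleton.mp (h.X_t hx))

theorem X_inf_A : h.X ⊓ h.A = ⊥ := by
  refine (Subgroup.eq_bot_iff_forall _).mpr fun g ⟨hx, hy⟩ => ?_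
  exact eq_one_of_inverted h.odd_A hy (h.t_A g hy)
    (mem_centralizer_singleton.mp (h.X_t hx))

theorem card_XY : Nat.card ↥(h.X ⊔ h.Y) = h.q * h.q := by
  rw [card_sup_disjoint ?_ h.X_inf_Y, h.card_X, h.card_Y]
  intro y hy
  refine Subgroup.mem_normalizer_iff.mpr fun x => ⟨fun hx => ?_, fun hx => ?_⟩
  · rw [← h.comm_XY x hx y hy, mul_inv_cancel_right]; exact hx
  · have he := h.comm_XY _ hx y⁻¹ (inv_mem hy)
    have : x = y⁻¹ * (y * x * y⁻¹) * y := by group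
    rw [this, ← he, inv_mul_cancel_right]; exact hx

theorem card_XA : Nat.card ↥(h.X ⊔ h.A) = h.q * h.q := by
  rw [card_sup_disjoint ?_ h.X_inf_A, h.card_X, h.card_A]
  intro y hy
  refine Subgroup.mem_normalizer_iff.mpr fun x => ⟨fun hx => ?_, fun hx => ?_⟩
  · rw [← h.comm_XA x hx y hy, mul_inv_cancel_right]; exact hx
  · have he := h.comm_XA _ hx y⁻¹ (inv_mem hy)
    have : x = y⁻¹ * (y * x * y⁻¹) * y := by group
    rw [this, ← he, inv_mul_cancel_right]; exact hx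

theorem odd_XY : Odd (Nat.card ↥(h.X ⊔ h.Y)) := by rw [h.card_XY]; exact h.hq_odd.mul h.hq_odd

theorem odd_XA : Odd (Nat.card ↥(h.X ⊔ h.A)) := by rw [h.card_XA]; exact h.hq_odd.mul h.hq_odd

theorem v_inv_E {e : G} (he : e ∈ h.X ⊔ h.Y) : h.v * e * h.v⁻¹ = e⁻¹ := by
  obtain ⟨x, hx, y, hy, rfl⟩ := h.mem_XY he
  rw [show h.v * (x * y) * h.v⁻¹ = (h.v * x * h.v⁻¹) * (h.v * y * h.v⁻¹) by group, h.v_X x hx,
    h.v_Y y hy, mul_inv_rev, ← h.comm_XY _ (inv_mem hx) _ (inv_mem hy)]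

theorem u_inv_E {e : G} (he : e ∈ h.X ⊔ h.A) : h.u * e * h.u⁻¹ = e⁻¹ := by
  obtain ⟨x, hx, y, hy, rfl⟩ := h.mem_XA he
  rw [show h.u * (x * y) * h.u⁻¹ = (h.u * x * h.u⁻¹) * (h.u * y * h.u⁻¹) by group, h.u_X x hx,
    h.u_A y hy, mul_inv_rev, ← h.comm_XA _ (inv_mem hx) _ (inv_mem hy)]

theorem E_inf_M₁ : (h.X ⊔ h.Y) ⊓ h.M₁ = ⊥ := by
  refine (Subgroup.eq_bot_iff_forall _).mpr fun g ⟨he, hm⟩ => ?_
  exact eq_one_of_inverted h.odd_XY he (h.v_inv_E he) (mem_centralizer_singleton.mp hm)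

theorem E_inf_M₂ : (h.X ⊔ h.A) ⊓ h.M₂ = ⊥ := by
  refine (Subgroup.eq_bot_iff_forall _).mpr fun g ⟨he, hm⟩ => ?_
  exact eq_one_of_inverted h.odd_XA he (h.u_inv_E he) (mem_centralizer_singleton.mp hm)

theorem card_P₁ : Nat.card h.P₁ = h.q * h.q * (h.q * (h.q + 1) * Nat.card h.D) := by
  rw [P₁, M₁, card_sup_disjoint h.norm_E₁ h.E_inf_M₁, h.card_XY, h.card_v]

theorem card_P₂ : Nat.card h.P₂ = h.q * h.q * (h.q * (h.q + 1) * Nat.card h.D) := by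
  rw [P₂, M₂, card_sup_disjoint h.norm_E₂ h.E_inf_M₂, h.card_XA, h.card_u]

theorem D_norm_XA : h.D ≤ normalizer ((h.X ⊔ h.A : Subgroup G) : Set G) :=
  fun _ hd => h.norm_E₂ (h.D_u hd)

theorem card_B : Nat.card ↥((h.X ⊔ h.A) ⊔ h.D) = h.q * h.q * Nat.card h.D := by
  rw [card_sup_disjoint h.D_norm_XA ?_, h.card_XA]
  refine eq_bot_mono (inf_le_inf_left _ ?_) h.E_inf_M₂
  exact h.D_u

theorem s₂_v_inv : h.s₂⁻¹ * h.t * h.s₂ = h.v := by rw [← h.s₂_v]; group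

theorem s₂_t : h.s₂ * h.t * h.s₂⁻¹ = h.v := by
  have hd : (h.s₂ * h.s₂) * h.v * (h.s₂ * h.s₂)⁻¹ = h.v := by
    rw [← mem_centralizer_singleton.mp (h.D_v h.s₂_sq), mul_inv_cancel_right]
  calc h.s₂ * h.t * h.s₂⁻¹ = h.s₂ * (h.s₂ * h.v * h.s₂⁻¹) * h.s₂⁻¹ := by rw [h.s₂_v]
    _ = (h.s₂ * h.s₂) * h.v * (h.s₂ * h.s₂)⁻¹ := by group
    _ = h.v := hd

theorem s₂_D' {d : G} (hd : d ∈ h.D) : h.s₂⁻¹ * d * h.s₂ ∈ h.D := by
  have := mul_mem (mul_mem (inv_mem h.s₂_sq) (h.s₂_D d hd)) h.s₂_sq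
  convert this using 1
  group

theorem s₂_A' {a : G} (ha : a ∈ h.A) : h.s₂⁻¹ * a * h.s₂ ∈ h.X := by
  have := inv_conj_mem_of_mem_normalizer (h.D_X h.s₂_sq) (h.s₂_A a ha)
  convert this using 1
  group

theorem s₂_t_mem {g : G} (hg : g ∈ h.M₁) : h.s₂ * g * h.s₂⁻¹ ∈ centralizer ({h.t} : Set G) := by
  rw [mem_centralizer_singleton, ← h.s₂_v]
  calc (h.s₂ * h.v * h.s₂⁻¹) * (h.s₂ * g * h.s₂⁻¹) = h.s₂ * (h.v * g) * h.s₂⁻¹ := by group
    _ = h.s₂ * (g * h.v) * h.s₂⁻¹ := by rw [mem_centralizer_singleton.mp hg]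
    _ = _ := by group

theorem s₂_t_mem' {g : G} (hg : g ∈ centralizer ({h.t} : Set G)) : h.s₂⁻¹ * g * h.s₂ ∈ h.M₁ := by
  rw [M₁, mem_centralizer_singleton, ← h.s₂_v_inv]
  calc (h.s₂⁻¹ * h.t * h.s₂) * (h.s₂⁻¹ * g * h.s₂) = h.s₂⁻¹ * (h.t * g) * h.s₂ := by group
    _ = h.s₂⁻¹ * (g * h.t) * h.s₂ := by rw [mem_centralizer_singleton.mp hg]
    _ = _ := by group

/-- An element of `Y` in both point stabilisers is trivial. -/
theorem Y_inter {y : G} (hy : y ∈ h.Y) (hy' : h.s₂⁻¹ * y * h.s₂ ∈ h.P₁) : y = 1 := by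
  obtain ⟨e, he, c, hc, hec⟩ := exists_mul_of_sup h.norm_E₁ hy'
  have hu1 : h.u ∈ h.M₁ := h.D_v h.u_mem_D
  -- `u` centralises the product
  have hsu : h.s₂⁻¹ * y * h.s₂ ∈ h.M₂ :=
    mul_mem (mul_mem (inv_mem h.s₂_mem) (h.Y_u hy)) h.s₂_mem
  have hk : h.u * e * h.u⁻¹ * (h.u * c * h.u⁻¹) = e * c := by
    rw [← hec]
    calc h.u * e * h.u⁻¹ * (h.u * c * h.u⁻¹) = h.u * (e * c) * h.u⁻¹ := by group
      _ = h.u * (h.s₂⁻¹ * y * h.s₂) * h.u⁻¹ := by rw [hec]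
      _ = _ := by rw [mem_centralizer_singleton.mp hsu, mul_inv_cancel_right]
  have he' : h.u * e * h.u⁻¹ ∈ h.X ⊔ h.Y := conj_mem_of_mem_normalizer (h.norm_E₁ hu1) he
  have hc' : h.u * c * h.u⁻¹ ∈ h.M₁ := mul_mem (mul_mem hu1 hc) (inv_mem hu1)
  have heq : (h.u * e * h.u⁻¹, h.u * c * h.u⁻¹) = (e, c) := by
    have := Subgroup.mul_injective_of_disjoint (disjoint_iff.mpr h.E_inf_M₁)
      (a₁ := (⟨_, he'⟩, ⟨_, hc'⟩)) (a₂ := (⟨e, he⟩, ⟨c, hc⟩)) hk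
    exact Prod.ext (congrArg (fun p => (p.1 : G)) this) (congrArg (fun p => (p.2 : G)) this)
  obtain ⟨heu, hcu⟩ := Prod.ext_iff.mp heq
  obtain ⟨x, hx, y', hy'', rfl⟩ := h.mem_XY he
  simp only at heu hcu
  have hy'u : h.u * y' * h.u⁻¹ = y' := by
    rw [mem_centralizer_singleton.mp (h.Y_u hy''), mul_inv_cancel_right]
  rw [show h.u * (x * y') * h.u⁻¹ = (h.u * x * h.u⁻¹) * (h.u * y' * h.u⁻¹) by group,
    h.u_X x hx, hy'u] at heu
  have hx1 : x = 1 := by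
    refine eq_one_of_sq_of_odd h.odd_X hx ?_
    calc x * x = x⁻¹ * x := by rw [mul_right_cancel heu]
      _ = 1 := inv_mul_cancel x
  have hcu2 : c ∈ h.M₂ := mem_centralizer_singleton.mpr (mul_inv_eq_iff_eq_mul.mp hcu)
  have hcD : c ∈ h.D := by
    have h1 : h.s₂ * c * h.s₂⁻¹ ∈ h.D :=
      h.inter_u ⟨h.s₂_t_mem hc, show h.s₂ * c * h.s₂⁻¹ ∈ h.M₂ from mul_mem (mul_mem h.s₂_mem hcu2) ((h.M₂).inv_mem h.s₂_mem)⟩
    have := h.s₂_D' h1
    rwa [show h.s₂⁻¹ * (h.s₂ * c * h.s₂⁻¹) * h.s₂ = c by group] at this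
  subst hx1
  rw [one_mul] at hec
  refine h.Y_opp y hy y' hy'' ?_
  have : (h.s₂ * y' * h.s₂⁻¹)⁻¹ * y = h.s₂ * c * h.s₂⁻¹ := by
    rw [show y = h.s₂ * (h.s₂⁻¹ * y * h.s₂) * h.s₂⁻¹ by group, hec]; group
  rw [this]
  exact h.s₂_D c hcD

/-- The stabiliser of the two base points. -/
theorem stab_le {g : G} (hg : g ∈ h.P₁) (hg' : h.s₂⁻¹ * g * h.s₂ ∈ h.P₁) :
    g ∈ (h.X ⊔ h.A) ⊔ h.D := by
  obtain ⟨e, he, c, hc, rfl⟩ := exists_mul_of_sup h.norm_E₁ hg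
  have hmem : ∀ {z : G}, h.s₂⁻¹ * z * h.s₂ ∈ h.P₁ ↔ z ∈ h.P₁.map (MulAut.conj h.s₂).toMonoidHom := by
    intro z
    constructor
    · intro hz
      exact ⟨_, hz, by simp only [MulEquiv.coe_toMonoidHom, MulAut.conj_apply]; group⟩
    · rintro ⟨w, hw, rfl⟩
      simp only [MulEquiv.coe_toMonoidHom, MulAut.conj_apply]
      rwa [show h.s₂⁻¹ * (h.s₂ * w * h.s₂⁻¹) * h.s₂ = w by group]
  have hv' : h.v ∈ h.P₁.map (MulAut.conj h.s₂).toMonoidHom :=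
    hmem.mp (h.M₁_le (h.D_v (h.s₂_D' h.v_mem_D)))
  have hgc := hmem.mp hg'
  -- the square of the elementary part lies in both stabilisers
  have hee : e * e ∈ h.P₁.map (MulAut.conj h.s₂).toMonoidHom := by
    have h1 := mul_mem (mul_mem (mul_mem hgc hv') (inv_mem hgc)) (inv_mem hv')
    have h2 : e * c * h.v * (e * c)⁻¹ * h.v⁻¹ = e * (h.v * e⁻¹ * h.v⁻¹) := by
      calc e * c * h.v * (e * c)⁻¹ * h.v⁻¹ = e * (c * h.v * c⁻¹) * e⁻¹ * h.v⁻¹ := by group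
        _ = e * h.v * e⁻¹ * h.v⁻¹ := by
          rw [← mem_centralizer_singleton.mp hc, mul_inv_cancel_right]
        _ = _ := by group
    rw [h2, h.v_inv_E (inv_mem he), inv_inv] at h1
    exact h1
  have heP := mem_of_sq_mem h.odd_XY he hee
  have hcP : c ∈ h.P₁.map (MulAut.conj h.s₂).toMonoidHom := by
    have := mul_mem (inv_mem heP) hgc
    rwa [inv_mul_cancel_left] at this
  -- the elementary part lies in `X`
  obtain ⟨x, hx, y, hy, rfl⟩ := h.mem_XY he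
  have hxP : x ∈ h.P₁.map (MulAut.conj h.s₂).toMonoidHom :=
    hmem.mp (h.M₁_le (h.s₂_t_mem' (h.X_t hx)))
  have hy1 : y = 1 := by
    refine h.Y_inter hy (hmem.mpr ?_)
    have := mul_mem (inv_mem hxP) heP
    rwa [inv_mul_cancel_left] at this
  subst hy1
  rw [mul_one]
  -- the Levi part lies in `A D`
  obtain ⟨e', he', c', hc', hec⟩ := exists_mul_of_sup h.norm_E₁ (hmem.mpr hcP)
  obtain ⟨x', hx', y', hy', rfl⟩ := h.mem_XY he'
  have ht1 : h.t ∈ h.M₁ := h.D_v h.t_mem_D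
  have hcv : h.s₂⁻¹ * c * h.s₂ ∈ centralizer ({h.t} : Set G) := by
    rw [mem_centralizer_singleton]
    have hvt : h.s₂⁻¹ * h.v * h.s₂ = h.t := by rw [← h.s₂_t]; group
    rw [← hvt]
    calc (h.s₂⁻¹ * h.v * h.s₂) * (h.s₂⁻¹ * c * h.s₂) = h.s₂⁻¹ * (h.v * c) * h.s₂ := by group
      _ = h.s₂⁻¹ * (c * h.v) * h.s₂ := by rw [mem_centralizer_singleton.mp hc]
      _ = _ := by group
  have hk : h.t * (x' * y') * h.t⁻¹ * (h.t * c' * h.t⁻¹) = x' * y' * c' := by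
    rw [show h.t * (x' * y') * h.t⁻¹ * (h.t * c' * h.t⁻¹) = h.t * (x' * y' * c') * h.t⁻¹ by group,
      ← hec, mem_centralizer_singleton.mp hcv, mul_inv_cancel_right]
  have hE : h.t * (x' * y') * h.t⁻¹ ∈ h.X ⊔ h.Y := conj_mem_of_mem_normalizer (h.norm_E₁ ht1) he'
  have hM : h.t * c' * h.t⁻¹ ∈ h.M₁ := mul_mem (mul_mem ht1 hc') (inv_mem ht1)
  have heq := Subgroup.mul_injective_of_disjoint (disjoint_iff.mpr h.E_inf_M₁)
    (a₁ := (⟨_, hE⟩, ⟨_, hM⟩)) (a₂ := (⟨_, he'⟩, ⟨_, hc'⟩)) hk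
  have h1 : h.t * (x' * y') * h.t⁻¹ = x' * y' := congrArg (fun p => (p.1 : G)) heq
  have h2 : h.t * c' * h.t⁻¹ = c' := congrArg (fun p => (p.2 : G)) heq
  rw [show h.t * (x' * y') * h.t⁻¹ = (h.t * x' * h.t⁻¹) * (h.t * y' * h.t⁻¹) by group,
    mem_centralizer_singleton.mp (h.X_t hx'), mul_inv_cancel_right, h.t_Y y' hy'] at h1
  have hy1 : y' = 1 := by
    refine eq_one_of_sq_of_odd h.odd_Y hy' ?_
    calc y' * y' = y'⁻¹ * y' := by rw [mul_left_cancel h1]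
      _ = 1 := inv_mul_cancel y'
  have hc'D : c' ∈ h.D :=
    h.inter_v ⟨mem_centralizer_singleton.mpr (mul_inv_eq_iff_eq_mul.mp h2), hc'⟩
  have hc_eq : c = (h.s₂ * x' * h.s₂⁻¹) * (h.s₂ * c' * h.s₂⁻¹) := by
    rw [show c = h.s₂ * (h.s₂⁻¹ * c * h.s₂) * h.s₂⁻¹ by group, hec, hy1]; group
  refine mul_mem (mem_sup_left (mem_sup_left hx)) ?_
  rw [hc_eq]
  exact mul_mem (mem_sup_left (mem_sup_right (h.s₂_X x' hx'))) (mem_sup_right (h.s₂_D c' hc'D))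

theorem B_le₁ : (h.X ⊔ h.A) ⊔ h.D ≤ h.P₁ :=
  sup_le (sup_le h.X_le₁ h.A_le₁) h.D_le₁

theorem B_le₂ : (h.X ⊔ h.A) ⊔ h.D ≤ h.P₂ :=
  sup_le (sup_le h.X_le₂ h.A_le₂) h.D_le₂

theorem B_conj {g : G} (hg : g ∈ (h.X ⊔ h.A) ⊔ h.D) : h.s₂⁻¹ * g * h.s₂ ∈ h.P₁ := by
  have hle : (h.X ⊔ h.A) ⊔ h.D ≤ h.P₁.comap (MulAut.conj h.s₂⁻¹).toMonoidHom := by
    refine sup_le (sup_le ?_ ?_) ?_ <;> intro z hz <;>
      simp only [Subgroup.mem_comap, MulEquiv.coe_toMonoidHom, MulAut.conj_apply, inv_inv]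
    · exact h.M₁_le (h.s₂_t_mem' (h.X_t hz))
    · exact h.X_le₁ (h.s₂_A' hz)
    · exact h.D_le₁ (h.s₂_D' hz)
  have := hle hg
  simpa only [Subgroup.mem_comap, MulEquiv.coe_toMonoidHom, MulAut.conj_apply, inv_inv] using this

end Hex

end Cfsg.Agent.H26.LThree
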