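import Cfsg.Agent.H26.LThree.OneClass
import Cfsg.Agent.H35.Semi.Shapes
import Cfsg.Agent.H84.SD.TwoRow
import Cfsg.Agent.H3.SDOrder.Provider

/-!
# The index of the involution centraliser of S0484 for `q ≡ 3 (mod 4)`

The only local fact used is that the odd primes of `q + 1` do not divide the index.
-/

set_option autoImplicit false
set_option linter.unusedSectionVars false
set_option linter.style.haveILetI false

namespace Cfsg.Agent.H26.LThree

open Cfsg.Agent.H35.Semi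

universe u v

/-- The two index equations for positive `Q ≡ 3 (mod 4)`: two values remain. -/
theorem index_cases_pos {p n q : ℕ} [hp : Fact p.Prime] (hp2 : p ≠ 2) (hn : 1 ≤ n)
    (hq : q = p ^ n) (hq4 : q % 4 = 3) {E Y : ℤ} {c : ℕ} (hE : E ≠ 0) (hE1 : E ≠ -1) (hY : Y ≠ 0)
    (hY1 : Y ≠ -1) (he : (c : ℤ) * (E + q + 1) ^ 2 = q * ((q : ℤ) + 1) ^ 3 * (E * (E + 1)))
    (hy : (c : ℤ) * (Y - q + 1) ^ 2 = q * ((q : ℤ) + 1) ^ 2 * (q - 1) * (Y * (Y + 1)))
    (hodd : Odd c) (hm : ∀ r : ℕ, r.Prime → r ≠ 2 → r ∣ q + 1 → ¬ r ∣ c) :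
    c = q ^ 2 * (q ^ 2 + q + 1) ∨ c = q * (q + 2) * (q ^ 2 + q - 1) := by
  have hq3 : 3 ≤ q := by omega
  set Q : ℤ := (q : ℤ) with hQ
  have hQ3 : 3 ≤ Q := by rw [hQ]; exact_mod_cast hq3
  have hQ4 : Q % 4 = 3 := by omega
  obtain ⟨h, hh, hch⟩ := H84.SD.index_h (by omega) (by omega) hE hE1 he
  obtain ⟨g, hg, hcg⟩ := H84.SD.index_g (by omega) (by omega) (by omega) hY hY1 hy
  have hoc : Odd (c : ℤ) := (Int.odd_coe_nat _).2 hodd
  have hev : Even (Q + 1) := by rw [Int.even_iff]; omega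
  have hho : Odd h := by
    by_contra hne
    rw [Int.not_odd_iff_even] at hne
    refine Int.not_even_iff_odd.2 hoc ?_
    rw [hch]
    exact ((hev.mul_left Q).sub hne).mul_right _
  have hgo : Odd g := by
    by_contra hne
    rw [Int.not_odd_iff_even] at hne
    refine Int.not_even_iff_odd.2 hoc ?_
    rw [hcg]
    exact ((hev.mul_left Q).add hne).mul_right _
  have hm' : ∀ r : ℕ, r.Prime → r ≠ 2 → (r : ℤ) ∣ Q + 1 → ¬ (r : ℤ) ∣ (c : ℤ) :=
    fun r hr hr2 hd hd' => hm r hr hr2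
      (Int.natCast_dvd_natCast.1 (by push_cast; rw [← hQ]; exact hd)) (Int.natCast_dvd_natCast.1 hd')
  have hcop_h : IsCoprime h (Q + 1) := H84.SD.isCoprime_of_prime hho fun r hr hr2 hd1 hd2 => by
    refine hm' r hr hr2 hd2 ?_
    rw [hch]
    exact Dvd.dvd.mul_right ((hd2.mul_left Q).sub hd1) _
  have hcop_g : IsCoprime g (Q + 1) := H84.SD.isCoprime_of_prime hgo fun r hr hr2 hd1 hd2 => by
    refine hm' r hr hr2 hd2 ?_
    rw [hcg]
    exact Dvd.dvd.mul_right ((hd2.mul_left Q).add hd1) _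
  have hhQ : h ∣ Q := hcop_h.pow_right.dvd_of_dvd_mul_right hh
  have hgQ : g ∣ Q * (Q - 1) := hcop_g.dvd_of_dvd_mul_right
    (by rw [show Q * (Q - 1) * (Q + 1) = Q * (Q + 1) * (Q - 1) by ring]; exact hg)
  have hhb : |h| ≤ Q := by
    have := Int.le_of_dvd (by omega : 0 < Q) ((abs_dvd _ _).2 hhQ)
    exact this
  have hgb : |g| ≤ Q * (Q - 1) :=
    Int.le_of_dvd (mul_pos (by omega) (by omega)) ((abs_dvd _ _).2 hgQ)
  have hprod : (g + h - (Q + 1)) * (h - g - 2 * Q * (Q + 1)) = 0 := by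
    linear_combination hcg - hch
  rcases mul_eq_zero.1 hprod with hs | hs
  swap
  · exfalso
    have h1 := abs_le.1 hhb
    have h2 := abs_le.1 hgb
    nlinarith
  obtain rfl : g = Q + 1 - h := by linarith
  have hcast : (p : ℤ) ^ n = Q := by rw [hQ, hq]; push_cast; rfl
  have hpQ : (p : ℤ) ∣ Q := hcast ▸ dvd_pow_self _ (show n ≠ 0 by omega)
  obtain ⟨i, hi, hhi⟩ : ∃ i ≤ n, h.natAbs = p ^ i := by
    have : h.natAbs ∣ p ^ n := by
      rw [← hq]
      have := Int.natAbs_dvd_natAbs.2 hhQ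
      rwa [hQ, Int.natAbs_natCast] at this
    exact (Nat.dvd_prime_pow hp.out).1 this
  have coprimeQ : ∀ {x : ℤ}, ¬ (p : ℤ) ∣ x → x ∣ Q * (Q - 1) → x ∣ Q - 1 := fun {x} hx hd =>
    (hcast ▸ (((Nat.prime_iff_prime_int.1 hp.out).coprime_iff_not_dvd.2 hx).symm.pow_right
      (n := n)) : IsCoprime x Q).dvd_of_dvd_mul_left hd
  have notp : ∀ {x : ℤ}, (p : ℤ) ∣ x - 1 → ¬ (p : ℤ) ∣ x := fun {x} h1 h2 => by
    have := h2.sub h1
    rw [show x - (x - 1) = 1 by ring] at this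
    exact hp.out.one_lt.ne' (Nat.dvd_one.1 (by exact_mod_cast this))
  rcases Nat.eq_zero_or_pos i with rfl | hi0
  · rw [pow_zero] at hhi
    rcases Int.natAbs_eq h with e | e <;> rw [hhi] at e <;> push_cast at e <;> subst e
    · right
      have e2 : (c : ℤ) = Q * (Q + 2) * (Q ^ 2 + Q - 1) := by rw [hch]; ring
      rw [hQ] at e2
      have : 1 ≤ q ^ 2 + q := by omega
      exact_mod_cast (show (c : ℤ) = ((q * (q + 2) * (q ^ 2 + q - 1) : ℕ) : ℤ) by
        push_cast [this]; exact e2)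
    · exfalso
      have h1 : Q + 1 - -1 ∣ Q - 1 := by
        refine coprimeQ (fun hd => ?_) hgQ
        have h2 := hd.sub hpQ
        rw [show Q + 1 - -1 - Q = 2 by ring] at h2
        exact hp2 ((Nat.prime_dvd_prime_iff_eq hp.out Nat.prime_two).1 (by exact_mod_cast h2))
      have := Int.le_of_dvd (by omega) h1
      omega
  have hph : (p : ℤ) ∣ h := Int.natCast_dvd.2 (hhi ▸ dvd_pow_self p (by omega))
  have hg1 : Q + 1 - h ∣ Q - 1 := coprimeQ (notp (by
    rw [show Q + 1 - h - 1 = Q - h by ring]; exact hpQ.sub hph)) hgQ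
  have hgb' := Int.le_of_dvd (by omega) hg1
  rcases lt_or_eq_of_le hi with hlt | rfl
  · exfalso
    have h3 : 3 * p ^ i ≤ q := by
      rw [hq]
      calc 3 * p ^ i ≤ p * p ^ i := Nat.mul_le_mul_right _
            (lt_of_le_of_ne hp.out.two_le (Ne.symm hp2))
        _ = p ^ (i + 1) := (pow_succ' p i).symm
        _ ≤ p ^ n := Nat.pow_le_pow_right hp.out.pos hlt
    have h4 : 3 * |h| ≤ Q := by
      rw [Int.abs_eq_natAbs, hhi, hQ]
      exact_mod_cast h3
    have h5 := abs_le.1 (show |h| ≤ |h| from le_rfl)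
    obtain ⟨k, hk⟩ := hg1
    have hk1 : 0 < k := by nlinarith
    have hk2 : k < 2 := by nlinarith
    obtain rfl : k = 1 := by omega
    have : h = 2 := by linarith
    subst this
    rw [Int.odd_iff] at hho
    omega
  · rcases Int.natAbs_eq h with e | e <;> rw [hhi, ← hq, ← hQ] at e <;> subst e
    · left
      have e2 : (c : ℤ) = Q ^ 2 * (Q ^ 2 + Q + 1) := by rw [hch]; ring
      rw [hQ] at e2
      exact_mod_cast e2
    · exfalso
      omega

variable {G : Type u} [Group G] [Finite G] {F : Type v} [Field F] [Finite F] {t : G}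
variable (S : Setting G F t)

include S in
/-- `c = q² (q² + q + 1)` or `q (q + 2) (q² + q − 1)` for `q ≡ 3 (mod 4)`. -/
theorem index_sd (hq4 : Nat.card F % 4 = 3)
    (hm : ∀ r : ℕ, r.Prime → r ≠ 2 → r ∣ Nat.card F + 1 →
      ¬ r ∣ (Subgroup.centralizer ({t} : Set G)).index) :
    (Subgroup.centralizer ({t} : Set G)).index =
        Nat.card F ^ 2 * (Nat.card F ^ 2 + Nat.card F + 1) ∨
      (Subgroup.centralizer ({t} : Set G)).index =
        Nat.card F * (Nat.card F + 2) * (Nat.card F ^ 2 + Nat.card F - 1) := by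
  classical
  haveI := Fintype.ofFinite G
  haveI := Fintype.ofFinite F
  obtain ⟨p, n, hp, hp2, hn, hq⟩ := S.exists_prime
  haveI : Fact p.Prime := ⟨hp⟩
  haveI := S.simple
  let π : GL (Fin 2) F →* (Subgroup.centralizer ({t} : Set G)) :=
    S.ι.codRestrict _ fun M => Subgroup.mem_centralizer_singleton_iff.2 (S.commute_image M).eq
  have hπ : Function.Surjective π := by
    rintro ⟨g, hg⟩
    obtain ⟨M, hM⟩ := S.exists_preimage (Subgroup.mem_centralizer_singleton_iff.1 hg)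
    exact ⟨M, Subtype.ext hM⟩
  have hker : π.ker = S.ι.ker := MonoidHom.ker_codRestrict _ _ _
  have hπt : (π (Cfsg.Agent.H53.scalarGL (-1)) : G) = t := by
    refine Eq.trans ?_ S.ι_neg
    exact congrArg S.ι (gl_ext (by simp [Cfsg.Agent.H53.coe_scalarGL]) (by simp [Cfsg.Agent.H53.coe_scalarGL])
      (by simp [Cfsg.Agent.H53.coe_scalarGL]) (by simp [Cfsg.Agent.H53.coe_scalarGL]))
  rw [Nat.card_eq_fintype_card] at hq4 hq ⊢
  obtain ⟨a, T, P, P₃, hJ, hT, hCT, hP, hP₃, ⟨Fn⟩⟩ :=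
    H3.SDOrder.exists_funs (G := G) (t := t) hq4 S.invol π hπ (hker ▸ S.ker_center)
      (by rw [hker]; exact S.ker_odd) hπt
  have hG : ¬ IsMulCommutative G := fun hc => by
    obtain ⟨g, hg⟩ := S.exists_noncommute
    exact hg (hc.is_comm.comm g t)
  have hinv : ∀ a : Subgroup.centralizer ({t} : Set G), orderOf a = 2 → IsConj t (a : G) := by
    intro x hx
    obtain ⟨k, hk⟩ := orderOf_two_conj S (by rwa [Subgroup.orderOf_coe])
    exact isConj_iff.2 ⟨k, hk⟩
  obtain ⟨E, V, Y, hE, hE1, hY, hY1, -, -, he, hy⟩ :=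
    H84.SD.index_formula hG S.invol hinv hJ Fn hT
      (by exact_mod_cast (show Fintype.card F ≠ 0 by omega)) hCT hP hP₃
  exact index_cases_pos hp2 hn hq hq4 hE hE1 hY hY1 he hy (odd_index S)
    (fun r hr hr2 hd => hm r hr hr2 (by rwa [Nat.card_eq_fintype_card]))

end Cfsg.Agent.H26.LThree
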