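import Cfsg.Agent.H35.Semi.RootCent
import Cfsg.Agent.Coprime.Action

/-!
# Centralisers with a single involution over `t`

If `t` is the only involution of `M ∩ C(t)` then `M = O(M) (M ∩ C(t))`; when that intersection is
abelian every element of odd order of `M` lies in `O(M)`.  Also: generation by a four-group.
-/

set_option autoImplicit false
set_option linter.style.haveILetI false

namespace Cfsg.Agent.H26.LThree

open Cfsg.Agent.H35.Semi (coreOf coreOf_le coreOf_odd conj_mem_coreOf)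
open Subgroup

universe u

variable {G : Type u} [Group G] [Finite G] {M : Subgroup G} {t : G}

/-- The decomposition through the odd core. -/
theorem mem_core_mul_cent (ht : orderOf t = 2) (htM : t ∈ M)
    (huniq : ∀ i ∈ M, Commute i t → i * i = 1 → i ≠ 1 → i = t) {m : G} (hm : m ∈ M) :
    ∃ o ∈ coreOf M, ∃ c ∈ M, Commute c t ∧ m = o * c := by
  have htt : t * t = 1 := by rw [← pow_two, ← ht, pow_orderOf_eq_one]
  have ht1 : t ≠ 1 := fun h => by rw [h, orderOf_one] at ht; omega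
  set tM : ↥M := ⟨t, htM⟩ with htM'
  have ho2 : orderOf tM = 2 := by rw [← Subgroup.orderOf_coe, htM']; exact ht
  have hiso : Cfsg.IsIsolated tM := fun g hcm => by
    refine Subtype.ext (huniq _ (g * tM * g⁻¹).2 ?_ ?_ ?_)
    · exact (congrArg Subtype.val hcm.eq).symm
    · show (g : G) * t * (g : G)⁻¹ * ((g : G) * t * (g : G)⁻¹) = 1
      rw [show (g : G) * t * (g : G)⁻¹ * ((g : G) * t * (g : G)⁻¹) = g * (t * t) * (g : G)⁻¹ by
        group, htt, mul_one, mul_inv_cancel]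
    · exact fun e => ht1 (conj_eq_one_iff.1 e)
  haveI : Fact (Nat.Prime 2) := ⟨Nat.prime_two⟩
  obtain ⟨P, hP⟩ := (IsPGroup.of_card (n := 1) (by
    rw [Nat.card_zpowers, ho2, pow_one]) : IsPGroup 2 (zpowers tM)).exists_le_sylow
  have h1 := Cores.glaubermanZStar P ho2 (hP (mem_zpowers tM))
    (fun k hk => H61.eq_of_conj_mem hiso P.isPGroup' (hP (mem_zpowers tM)) hk) ⟨m, hm⟩
  set k := t * m * t⁻¹ * m⁻¹ with hk
  have hkO : k ∈ coreOf M := ⟨_, h1, rfl⟩
  have ht' : t⁻¹ = t := inv_eq_of_mul_eq_one_right htt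
  have htk : t * k * t⁻¹ = k⁻¹ := by
    rw [hk, show t * (t * m * t⁻¹ * m⁻¹) * t⁻¹ = (t * t) * m * t⁻¹ * m⁻¹ * t⁻¹ by group,
      htt, one_mul]
    simp only [_root_.mul_inv_rev, inv_inv, ht', mul_assoc]
  obtain ⟨j, hj⟩ : Odd (orderOf k) :=
    Odd.of_dvd_nat (coreOf_odd M) (Subgroup.orderOf_dvd_natCard _ hkO)
  set o := k ^ j with ho
  have hoO : o ∈ coreOf M := pow_mem hkO _
  refine ⟨o, hoO, o⁻¹ * m, mul_mem (inv_mem (coreOf_le M hoO)) hm, mul_inv_eq_iff_eq_mul.1 ?_,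
    (mul_inv_cancel_left _ _).symm⟩
  have hto : t * o * t⁻¹ = o⁻¹ := by
    rw [ho, ← conj_pow, htk, inv_pow]
  have hk1 : (k⁻¹) ^ (2 * j + 1) = 1 := by rw [← hj, inv_pow, pow_orderOf_eq_one, inv_one]
  calc o⁻¹ * m * t * (o⁻¹ * m)⁻¹ = o⁻¹ * (m * t * m⁻¹) * o := by group
    _ = o⁻¹ * (k⁻¹ * t) * o := by rw [hk, show (t * m * t⁻¹ * m⁻¹)⁻¹ * t = m * t * m⁻¹ by group]
    _ = o⁻¹ * k⁻¹ * (t * o * t⁻¹) * t := by group
    _ = (k⁻¹) ^ (2 * j + 1) * t := by
      rw [hto, ho, ← inv_pow]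
      congr 1
      rw [two_mul, show j + j + 1 = j + 1 + j by omega, pow_add, pow_succ]
    _ = t := by rw [hk1, one_mul]

/-- With an abelian `M ∩ C(t)` the elements of odd order lie in the odd core. -/
theorem odd_mem_core (ht : orderOf t = 2) (htM : t ∈ M)
    (huniq : ∀ i ∈ M, Commute i t → i * i = 1 → i ≠ 1 → i = t)
    (habel : ∀ a ∈ M, ∀ b ∈ M, Commute a t → Commute b t → Commute a b) {z : G} (hz : z ∈ M)
    (hzo : Odd (orderOf z)) : z ∈ coreOf M := by
  let T : Subgroup G :=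
    { carrier := {a | a ∈ M ∧ Commute a t ∧ Odd (orderOf a)}
      one_mem' := ⟨one_mem M, Commute.one_left t, by simp⟩
      mul_mem' := fun {a b} ha hb => ⟨mul_mem ha.1 hb.1, ha.2.1.mul_left hb.2.1,
        (ha.2.2.mul hb.2.2).of_dvd_nat (habel a ha.1 b hb.1 ha.2.1 hb.2.1).orderOf_mul_dvd_mul_orderOf⟩
      inv_mem' := fun {a} ha => ⟨inv_mem ha.1, ha.2.1.inv_left, by rw [orderOf_inv]; exact ha.2.2⟩ }
  have hTmem : ∀ {a}, a ∈ T ↔ a ∈ M ∧ Commute a t ∧ Odd (orderOf a) := Iff.rfl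
  -- the product with `T`
  have hnorm : ∀ m ∈ M, ∀ o ∈ coreOf M, m * o * m⁻¹ ∈ coreOf M := fun m hm o ho =>
    conj_mem_coreOf (le_normalizer hm) ho
  let L : Subgroup G :=
    { carrier := {g | ∃ o ∈ coreOf M, ∃ a ∈ T, g = o * a}
      one_mem' := ⟨1, one_mem _, 1, one_mem _, (one_mul 1).symm⟩
      mul_mem' := by
        rintro _ _ ⟨o, ho, a, ha, rfl⟩ ⟨o', ho', a', ha', rfl⟩
        exact ⟨o * (a * o' * a⁻¹), mul_mem ho (hnorm a ha.1 o' ho'), a * a', mul_mem ha ha', by group⟩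
      inv_mem' := by
        rintro _ ⟨o, ho, a, ha, rfl⟩
        refine ⟨a⁻¹ * o⁻¹ * a⁻¹⁻¹, hnorm _ (inv_mem ha.1) _ (inv_mem ho), a⁻¹, inv_mem ha, by group⟩ }
  have hLM : L ≤ M := by
    rintro _ ⟨o, ho, a, ha, rfl⟩
    exact mul_mem (coreOf_le M ho) ha.1
  have hOL : ∀ o ∈ coreOf M, o ∈ L := fun o ho => ⟨o, ho, 1, one_mem _, (mul_one o).symm⟩
  haveI : (L.subgroupOf M).Normal := ⟨by
    rintro ⟨l, hl⟩ hlL ⟨m, hm⟩
    obtain ⟨o, ho, a, ha, rfl⟩ := mem_subgroupOf.1 hlL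
    rw [mem_subgroupOf]
    obtain ⟨o', ho', c, hc, hct, rfl⟩ := mem_core_mul_cent ht htM huniq hm
    show o' * c * (o * a) * (o' * c)⁻¹ ∈ L
    rw [show o' * c * (o * a) * (o' * c)⁻¹ = o' * (c * o * c⁻¹) * (c * a * c⁻¹) * o'⁻¹ by group,
      (habel c hc a ha.1 hct ha.2.1).eq, mul_inv_cancel_right]
    exact mul_mem (mul_mem (mul_mem (hOL _ ho') (hOL _ (hnorm c hc o ho)))
      ⟨1, one_mem _, a, ha, (one_mul a).symm⟩) (hOL _ (inv_mem ho'))⟩
  have hLodd : Odd (Nat.card (L.subgroupOf M)) := by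
    rw [Nat.card_congr (subgroupOfEquivOfLe hLM).toEquiv, ← Nat.not_even_iff_odd]
    intro he
    haveI : Fact (Nat.Prime 2) := ⟨Nat.prime_two⟩
    obtain ⟨⟨l, o, ho, a, ha, rfl⟩, hl2⟩ :=
      exists_prime_orderOf_dvd_card' 2 (G := L) (even_iff_two_dvd.1 he)
    rw [← Subgroup.orderOf_coe] at hl2
    obtain ⟨o', ho', hpow⟩ : ∃ o' ∈ coreOf M, ∀ n : ℕ, ∃ w ∈ coreOf M, (o * a) ^ n = w * a ^ n := by
      refine ⟨1, one_mem _, fun n => ?_⟩
      induction n with
      | zero => exact ⟨1, one_mem _, by simp⟩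
      | succ n ih =>
        obtain ⟨w, hw, e⟩ := ih
        refine ⟨w * (a ^ n * o * (a ^ n)⁻¹), mul_mem hw (hnorm _ (pow_mem ha.1 n) o ho), ?_⟩
        rw [pow_succ, e, pow_succ]; group
    obtain ⟨w, hw, e⟩ := hpow (orderOf a)
    rw [pow_orderOf_eq_one, mul_one] at e
    have hd : orderOf (o * a) ∣ orderOf a * Nat.card (coreOf M) := orderOf_dvd_of_pow_eq_one (by
      rw [pow_mul, e]
      exact congrArg Subtype.val (pow_card_eq_one' (G := coreOf M) (x := ⟨w, hw⟩)))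
    exact Nat.not_even_iff_odd.2 ((ha.2.2.mul (coreOf_odd M)).of_dvd_nat hd)
      (by rw [show orderOf (o * a) = 2 from hl2]; exact even_two)
  obtain ⟨o, ho, c, hc, hct, rfl⟩ := mem_core_mul_cent ht htM huniq hz
  have hLcore : ∀ l ∈ L, l ∈ coreOf M := fun l hl =>
    ⟨⟨l, hLM hl⟩, Cores.le_oddCore hLodd (mem_subgroupOf.2 hl), rfl⟩
  -- the odd part of `c`
  obtain ⟨n, hn⟩ := hzo
  obtain ⟨w, hw, e⟩ : ∃ w ∈ coreOf M, (o * c) ^ (orderOf (o * c)) = w * c ^ (orderOf (o * c)) := by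
    generalize orderOf (o * c) = k
    induction k with
    | zero => exact ⟨1, one_mem _, by simp⟩
    | succ k ih =>
      obtain ⟨w, hw, e⟩ := ih
      refine ⟨w * (c ^ k * o * (c ^ k)⁻¹), mul_mem hw (hnorm _ (pow_mem hc k) o ho), ?_⟩
      rw [pow_succ, e, pow_succ]; group
  rw [pow_orderOf_eq_one] at e
  have hcn : c ^ orderOf (o * c) ∈ coreOf M := by
    rw [eq_inv_of_mul_eq_one_right e.symm]; exact inv_mem hw
  have hco : Odd (orderOf c) := by
    have h2 : (c ^ orderOf (o * c)) ^ Nat.card (coreOf M) = 1 :=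
      congrArg Subtype.val (pow_card_eq_one' (G := coreOf M) (x := ⟨_, hcn⟩))
    rw [← pow_mul] at h2
    exact ((show Odd (orderOf (o * c)) from ⟨n, hn⟩).mul (coreOf_odd M)).of_dvd_nat
      (orderOf_dvd_of_pow_eq_one h2)
  exact hLcore _ ⟨o, ho, c, hTmem.2 ⟨hc, hct, hco⟩, rfl⟩

/-- Generation of an odd subgroup by the centralisers of three involutions of a four-group. -/
theorem le_of_four {K L : Subgroup G} {a b : G} (ha : orderOf a = 2) (hb : orderOf b = 2)
    (hab : Commute a b) (hne : a ≠ b) (hK : Odd (Nat.card K)) (haK : a ∈ normalizer (K : Set G))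
    (hbK : b ∈ normalizer (K : Set G))
    (h1 : K ⊓ centralizer ({a} : Set G) ≤ L) (h2 : K ⊓ centralizer ({b} : Set G) ≤ L)
    (h3 : K ⊓ centralizer ({a * b} : Set G) ≤ L) : K ≤ L := by
  have haa : a * a = 1 := by rw [← pow_two, ← ha, pow_orderOf_eq_one]
  have hbb : b * b = 1 := by rw [← pow_two, ← hb, pow_orderOf_eq_one]
  have ha1 : a ≠ 1 := fun h => by rw [h, orderOf_one] at ha; omega
  have hb1 : b ≠ 1 := fun h => by rw [h, orderOf_one] at hb; omega
  let U : Subgroup G :=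
    { carrier := {g | g = 1 ∨ g = a ∨ g = b ∨ g = a * b}
      one_mem' := Or.inl rfl
      mul_mem' := by
        have e1 : b * a = a * b := hab.eq.symm
        have e2 : a * (a * b) = b := by rw [← mul_assoc, haa, one_mul]
        have e3 : a * b * a = b := by rw [mul_assoc, e1, e2]
        have e4 : b * (a * b) = a := by rw [← mul_assoc, e1, mul_assoc, hbb, mul_one]
        have e5 : a * b * b = a := by rw [mul_assoc, hbb, mul_one]
        have e6 : a * b * (a * b) = 1 := by rw [mul_assoc, e4, haa]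
        rintro x y (rfl | rfl | rfl | rfl) (rfl | rfl | rfl | rfl) <;>
          simp [haa, hbb, e1, e2, e3, e4, e5, e6]
      inv_mem' := by
        rintro x (rfl | rfl | rfl | rfl)
        · exact Or.inl inv_one
        · exact Or.inr (Or.inl (inv_eq_of_mul_eq_one_right haa))
        · exact Or.inr (Or.inr (Or.inl (inv_eq_of_mul_eq_one_right hbb)))
        · refine Or.inr (Or.inr (Or.inr (inv_eq_of_mul_eq_one_right ?_)))
          rw [hab.symm.mul_mul_mul_comm, haa, hbb, mul_one] }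
  have hsq : ∀ g ∈ U, g * g = 1 := by
    rintro g (rfl | rfl | rfl | rfl)
    exacts [one_mul 1, haa, hbb, by rw [hab.symm.mul_mul_mul_comm, haa, hbb, mul_one]]
  haveI : IsMulCommutative U := ⟨⟨fun x y => Subtype.ext (by
    show (x : G) * y = y * x
    have h := hsq _ (mul_mem x.2 y.2)
    rw [eq_inv_of_mul_eq_one_left h, _root_.mul_inv_rev, inv_eq_of_mul_eq_one_right (hsq _ y.2),
      inv_eq_of_mul_eq_one_right (hsq _ x.2)])⟩⟩
  have hp : IsPGroup 2 U := fun g => ⟨1, Subtype.ext (by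
    show (g : G) ^ (2 ^ 1) = 1
    rw [pow_one, pow_two]; exact hsq _ g.2)⟩
  have hnc : ¬ IsCyclic U := fun hc => by
    obtain ⟨⟨x, hx⟩, hgx⟩ := IsCyclic.exists_generator (α := U)
    have hall : ∀ g ∈ U, g = 1 ∨ g = x := fun g hg => by
      obtain ⟨i, hi⟩ := mem_zpowers_iff.1 (hgx ⟨g, hg⟩)
      have hi' : x ^ i = g := congrArg Subtype.val hi
      rcases Int.even_or_odd i with ⟨j, rfl⟩ | ⟨j, rfl⟩
      · left
        rw [← hi', ← two_mul, _root_.zpow_mul, show x ^ (2 : ℤ) = 1 by rw [zpow_two]; exact hsq x hx,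
          _root_.one_zpow]
      · right
        rw [← hi', _root_.zpow_add_one, _root_.zpow_mul,
          show x ^ (2 : ℤ) = 1 by rw [zpow_two]; exact hsq x hx, _root_.one_zpow, one_mul]
    exact hne (((hall a (Or.inr (Or.inl rfl))).resolve_left ha1).trans
      ((hall b (Or.inr (Or.inr (Or.inl rfl)))).resolve_left hb1).symm)
  refine Coprime.le_of_centralizer_noncyclic_le (A := U) hnc ?_ ?_ ?_
  · rintro g (rfl | rfl | rfl | rfl)
    exacts [one_mem _, haK, hbK, mul_mem haK hbK]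
  · obtain ⟨n, hn⟩ := IsPGroup.iff_card.1 hp
    rw [hn]
    exact Nat.Coprime.pow_left n (Nat.coprime_two_left.2 hK)
  · rintro g (rfl | rfl | rfl | rfl) hg1
    exacts [absurd rfl hg1, h1, h2, h3]

end Cfsg.Agent.H26.LThree
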