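import Cfsg.Agent.H26.LThree.Local

/-!
# The matching configuration is impossible

`X ≤ C(t)` and `Y ≤ C(v)` are commuting root groups, inverted by `u`; the Weyl element `w ∈ C(u)`
interchanges them.  Then `x * (w x w⁻¹)` centralises the involution `w`, so it is a root element,
and this forces the tori of `t` and of `w` in `C(u)` to normalise `E = X Y`.
-/

set_option autoImplicit false
set_option linter.unusedSectionVars false
set_option linter.style.haveILetI false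

open Subgroup

namespace Cfsg.Agent.H26.LThree

variable {G : Type*} [Group G] [Finite G]

/-- The matching configuration. -/
structure Match (G : Type*) [Group G] where
  /-- the characteristic -/
  p : ℕ
  hp : p.Prime
  hp2 : p ≠ 2
  /-- the involution centralising `X` -/
  t : G
  /-- the involution centralising `Y` -/
  v : G
  /-- the involution inverting both -/
  u : G
  /-- the Weyl element -/
  w : G
  /-- the root group in `C(t)` -/
  X : Subgroup G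
  /-- the root group in `C(v)` -/
  Y : Subgroup G
  ht : orderOf t = 2
  hu : u * u = 1
  hw : orderOf w = 2
  X_ne : X ≠ ⊥
  X_p : ∀ x ∈ X, ∃ k : ℕ, x ^ p ^ k = 1
  Y_p : ∀ y ∈ Y, ∃ k : ℕ, y ^ p ^ k = 1
  comm_XY : ∀ x ∈ X, ∀ y ∈ Y, x * y = y * x
  X_t : X ≤ centralizer ({t} : Set G)
  Y_v : Y ≤ centralizer ({v} : Set G)
  t_Y : ∀ y ∈ Y, t * y * t⁻¹ = y⁻¹
  u_X : ∀ x ∈ X, u * x * u⁻¹ = x⁻¹
  u_Y : ∀ y ∈ Y, u * y * u⁻¹ = y⁻¹
  w_X : ∀ x ∈ X, w * x * w⁻¹ ∈ Y
  w_u : w ∈ centralizer ({u} : Set G)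
  /-- the torus `C(u) ∩ C(t)` normalises the root groups -/
  torus : centralizer ({u} : Set G) ⊓ centralizer ({t} : Set G) ≤
    normalizer ((X ⊔ Y : Subgroup G) : Set G)
  /-- `p`-elements centralising a nontrivial element of `X` lie in `E` -/
  cent_X : ∀ x ∈ X, x ≠ 1 → ∀ g : G, g * x = x * g → (∃ k : ℕ, g ^ p ^ k = 1) → g ∈ X ⊔ Y
  /-- the same for `Y` -/
  cent_Y : ∀ y ∈ Y, y ≠ 1 → ∀ g : G, g * y = y * g → (∃ k : ℕ, g ^ p ^ k = 1) → g ∈ X ⊔ Y
  /-- `t` is the only involution of `C(u)` centralising a nontrivial element of `X` -/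
  invol_X : ∀ x ∈ X, x ≠ 1 → ∀ i : G, orderOf i = 2 → i * x = x * i → i * u = u * i → i = t
  /-- what `u` inverts in the centraliser of `E` lies in `E` -/
  cent_E : ∀ z ∈ centralizer ((X ⊔ Y : Subgroup G) : Set G), u * z * u⁻¹ = z⁻¹ → z ∈ X ⊔ Y
  /-- `p`-elements centralising an involution are root elements -/
  root : ∀ i g : G, orderOf i = 2 → g * i = i * g → (∃ k : ℕ, g ^ p ^ k = 1) → g ≠ 1 →
    ∃ h : G, h * g * h⁻¹ ∈ X
  /-- the tori of `t` and `w` in `C(u)` generate a `p`-element inverted by `t` -/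
  gen : ∀ K : Subgroup G, centralizer ({u} : Set G) ⊓ centralizer ({t} : Set G) ≤ K →
    centralizer ({u} : Set G) ⊓ centralizer ({w} : Set G) ≤ K →
    ∃ r ∈ K, r ≠ 1 ∧ (∃ k : ℕ, r ^ p ^ k = 1) ∧ r * u = u * r ∧ t * r * t⁻¹ = r⁻¹

namespace Match

variable (m : Match G)

/-- The elementary group. -/
def E : Subgroup G := m.X ⊔ m.Y

theorem mem_E {g : G} (hg : g ∈ m.E) : ∃ x ∈ m.X, ∃ y ∈ m.Y, g = x * y :=
  exists_mul_of_sup (fun y hy => Subgroup.mem_normalizer_iff.mpr fun x => by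
    constructor
    · intro hx
      rw [← m.comm_XY x hx y hy, mul_inv_cancel_right]; exact hx
    · intro hx
      have he := m.comm_XY _ hx y⁻¹ (inv_mem hy)
      have : x = y⁻¹ * (y * x * y⁻¹) * y := by group
      rw [this, ← he, inv_mul_cancel_right]; exact hx) hg

theorem isPGroup_E : IsPGroup m.p m.E := by
  rintro ⟨g, hg⟩
  obtain ⟨x, hx, y, hy, rfl⟩ := m.mem_E hg
  obtain ⟨a, ha⟩ := m.X_p x hx
  obtain ⟨b, hb⟩ := m.Y_p y hy
  refine ⟨a + b, Subtype.ext ?_⟩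
  rw [Subgroup.coe_pow, Subgroup.coe_one]
  show (x * y) ^ m.p ^ (a + b) = 1
  rw [(show Commute x y from m.comm_XY x hx y hy).mul_pow, pow_add, pow_mul, ha, one_pow,
    mul_comm (m.p ^ a), pow_mul, hb, one_pow, mul_one]

theorem odd_E : Odd (Nat.card m.E) := by
  haveI := Fact.mk m.hp
  obtain ⟨k, hk⟩ := m.isPGroup_E.exists_card_eq
  rw [hk]
  exact (m.hp.odd_of_ne_two m.hp2).pow

theorem p_mem {g : G} (hg : g ∈ m.E) : ∃ k : ℕ, g ^ m.p ^ k = 1 := by
  obtain ⟨k, hk⟩ := m.isPGroup_E ⟨g, hg⟩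
  exact ⟨k, congrArg Subtype.val hk⟩

theorem u_inv_E {e : G} (he : e ∈ m.E) : m.u * e * m.u⁻¹ = e⁻¹ := by
  obtain ⟨x, hx, y, hy, rfl⟩ := m.mem_E he
  rw [show m.u * (x * y) * m.u⁻¹ = (m.u * x * m.u⁻¹) * (m.u * y * m.u⁻¹) by group, m.u_X x hx,
    m.u_Y y hy, mul_inv_rev, ← m.comm_XY _ (inv_mem hx) _ (inv_mem hy)]

theorem comm_E {a b : G} (ha : a ∈ m.E) (hb : b ∈ m.E) : a * b = b * a := by
  have hab := m.u_inv_E (mul_mem ha hb)
  rw [show m.u * (a * b) * m.u⁻¹ = (m.u * a * m.u⁻¹) * (m.u * b * m.u⁻¹) by group, m.u_inv_E ha,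
    m.u_inv_E hb] at hab
  have := congrArg (fun z => z⁻¹) hab
  simp only [mul_inv_rev, inv_inv] at this
  exact this.symm

theorem no_normalizing_root {r : G} (hrN : r ∈ normalizer (m.E : Set G)) (hr1 : r ≠ 1)
    (hrp' : ∃ k : ℕ, r ^ m.p ^ k = 1) (hru : r * m.u = m.u * r)
    (hrt : m.t * r * m.t⁻¹ = r⁻¹) : False := by
  haveI := Fact.mk m.hp
  obtain ⟨n, hrp⟩ := hrp'
  obtain ⟨x, hx, hx1⟩ := m.X.ne_bot_iff_exists_ne_one.mp m.X_ne |>.elim
    fun a ha => (⟨a.1, a.2, fun e => ha (Subtype.ext e)⟩ : ∃ x, x ∈ m.X ∧ x ≠ 1)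
  have hxE : x ∈ m.E := mem_sup_left hx
  -- `r` fixes a nontrivial element of `E`
  have hP : IsPGroup m.p ↥(zpowers r) :=
    IsPGroup.of_card (n := (Nat.dvd_prime_pow m.hp).mp (orderOf_dvd_of_pow_eq_one hrp) |>.choose)
      (by rw [Nat.card_zpowers]
          exact ((Nat.dvd_prime_pow m.hp).mp (orderOf_dvd_of_pow_eq_one hrp)).choose_spec.2)
  have hrle : zpowers r ≤ normalizer (m.E : Set G) := zpowers_le.mpr hrN
  have hEnt : Nontrivial m.E := ⟨⟨⟨x, hxE⟩, 1, fun e => hx1 (congrArg Subtype.val e)⟩⟩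
  obtain ⟨f, hfE, hf1, hfr⟩ : ∃ f ∈ m.E, f ≠ 1 ∧ r * f = f * r := by
    letI : MulAction (zpowers r) m.E :=
      { smul := fun a b => ⟨(a : G) * b * (a : G)⁻¹, conj_mem_of_mem_normalizer (hrle a.2) b.2⟩
        one_smul := fun b => Subtype.ext (by show (1 : G) * b * (1 : G)⁻¹ = b; group)
        mul_smul := fun a a' b => Subtype.ext (by
          show ((a : G) * a') * b * ((a : G) * a')⁻¹ = (a : G) * ((a' : G) * b * (a' : G)⁻¹) * (a : G)⁻¹
          group) }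
    have h1 : (1 : m.E) ∈ MulAction.fixedPoints (zpowers r) m.E := fun a => Subtype.ext (by
      show (a : G) * (1 : G) * (a : G)⁻¹ = 1; group)
    have hpdvd : m.p ∣ Nat.card m.E := by
      obtain ⟨j, hj0, hj⟩ := m.isPGroup_E.nontrivial_iff_card.mp hEnt
      rw [hj]; exact dvd_pow_self _ hj0.ne'
    obtain ⟨b, hb, hb1⟩ := hP.exists_fixed_point_of_prime_dvd_card_of_fixed_point m.E hpdvd h1
    refine ⟨b, b.2, fun e => hb1 (Subtype.ext e).symm, ?_⟩
    have := congrArg Subtype.val (hb ⟨r, mem_zpowers r⟩)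
    exact mul_inv_eq_iff_eq_mul.mp this
  obtain ⟨a, ha, b, hb, rfl⟩ := m.mem_E hfE
  -- `r` then fixes `a` and `b`
  have hfr' : r * (a * b⁻¹) = (a * b⁻¹) * r := by
    have h1 : m.t * (a * b) * m.t⁻¹ = a * b⁻¹ := by
      rw [show m.t * (a * b) * m.t⁻¹ = (m.t * a * m.t⁻¹) * (m.t * b * m.t⁻¹) by group,
        mem_centralizer_singleton.mp (m.X_t ha), mul_inv_cancel_right, m.t_Y b hb]
    rw [← h1]
    have hri : r⁻¹ * (a * b) = (a * b) * r⁻¹ := by
      have hc : Commute r (a * b) := hfr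
      exact hc.inv_left
    calc r * (m.t * (a * b) * m.t⁻¹) = (m.t * r⁻¹ * m.t⁻¹) * (m.t * (a * b) * m.t⁻¹) := by
          rw [show m.t * r⁻¹ * m.t⁻¹ = (m.t * r * m.t⁻¹)⁻¹ by group, hrt, inv_inv]
      _ = m.t * (r⁻¹ * (a * b)) * m.t⁻¹ := by group
      _ = m.t * ((a * b) * r⁻¹) * m.t⁻¹ := by rw [hri]
      _ = (m.t * (a * b) * m.t⁻¹) * (m.t * r⁻¹ * m.t⁻¹) := by group
      _ = _ := by rw [show m.t * r⁻¹ * m.t⁻¹ = (m.t * r * m.t⁻¹)⁻¹ by group, hrt, inv_inv]
  have hC : Commute a b := m.comm_XY a ha b hb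
  have haa : Commute r (a * a) := by
    have h2 : a * a = (a * b) * (a * b⁻¹) := by
      rw [show a * b * (a * b⁻¹) = a * (b * a) * b⁻¹ by group, ← hC.eq]; group
    rw [h2]; exact Commute.mul_right hfr hfr'
  have hbb : Commute r (b * b) := by
    have h2 : b * b = (a * b) * (a * b⁻¹)⁻¹ := by
      rw [show (a * b⁻¹)⁻¹ = b * a⁻¹ by group, show a * b * (b * a⁻¹) = a * (b * b) * a⁻¹ by group,
        (hC.mul_right hC).eq]; group
    rw [h2]; exact Commute.mul_right hfr (Commute.inv_right hfr')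
  have hrE : r ∈ m.E := by
    by_cases ha2 : a * a = 1
    · have ha1 : a = 1 := eq_one_of_sq_of_odd m.odd_E (mem_sup_left ha) ha2
      subst ha1
      rw [one_mul] at hf1
      refine m.cent_Y (b * b) (mul_mem hb hb) (fun e => hf1 ?_) r hbb.eq ⟨n, hrp⟩
      exact eq_one_of_sq_of_odd m.odd_E (mem_sup_right hb) e
    · exact m.cent_X (a * a) (mul_mem ha ha) ha2 r haa.eq ⟨n, hrp⟩
  exact hr1 (eq_one_of_inverted m.odd_E hrE (m.u_inv_E hrE) hru.symm)

/-- There is no matching configuration. -/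
theorem impossible (m : Match G) : False := by
  haveI := Fact.mk m.hp
  obtain ⟨x, hx, hx1⟩ := m.X.ne_bot_iff_exists_ne_one.mp m.X_ne |>.elim
    fun a ha => (⟨a.1, a.2, fun e => ha (Subtype.ext e)⟩ : ∃ x, x ∈ m.X ∧ x ≠ 1)
  set y := m.w * x * m.w⁻¹ with hy
  have hyY : y ∈ m.Y := m.w_X x hx
  set e := x * y with he
  have hxE : x ∈ m.E := mem_sup_left hx
  have heE : e ∈ m.E := mul_mem hxE (mem_sup_right hyY)
  have he1 : e ≠ 1 := by
    intro h1
    have hxy : x = y⁻¹ := eq_inv_of_mul_eq_one_left h1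
    refine hx1 (eq_one_of_inverted m.odd_E hxE ?_ (mem_centralizer_singleton.mp (m.X_t hx)))
    rw [hxy]
    exact m.t_Y _ (inv_mem hyY)
  have hww : m.w * m.w = 1 := by
    rw [← pow_two, ← m.hw]; exact pow_orderOf_eq_one _
  have hew : e * m.w = m.w * e := by
    have hy2 : m.w * y * m.w⁻¹ = x := by
      rw [hy, show m.w * (m.w * x * m.w⁻¹) * m.w⁻¹ = (m.w * m.w) * x * (m.w * m.w)⁻¹ by group, hww]
      group
    have : m.w * e * m.w⁻¹ = e := by
      rw [he, show m.w * (x * y) * m.w⁻¹ = (m.w * x * m.w⁻¹) * (m.w * y * m.w⁻¹) by group, hy2,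
        ← hy, m.comm_XY x hx y hyY]
    exact (mul_inv_eq_iff_eq_mul.mp this).symm
  obtain ⟨g, hgx⟩ := m.root m.w e m.hw hew (m.p_mem heE) he1
  set x' := g * e * g⁻¹ with hx'
  have hx'1 : x' ≠ 1 := fun h => he1 (conj_eq_one_iff.mp h)
  -- `g` normalises `E`
  have hgE : ∀ a ∈ m.E, g * a * g⁻¹ ∈ m.E := by
    intro a ha
    refine m.cent_X x' hgx hx'1 _ ?_ ?_
    · calc g * a * g⁻¹ * x' = g * (a * e) * g⁻¹ := by rw [hx']; group
        _ = g * (e * a) * g⁻¹ := by rw [m.comm_E ha heE]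
        _ = _ := by rw [hx']; group
    · obtain ⟨k, hk⟩ := m.p_mem ha
      exact ⟨k, by rw [conj_pow, hk]; group⟩
  have hgN : g ∈ normalizer (m.E : Set G) := by
    have hmap : m.E.map (MulAut.conj g).toMonoidHom = m.E := by
      refine eq_of_le_of_card_ge ?_ ?_
      · rintro _ ⟨a, ha, rfl⟩
        exact hgE a ha
      · rw [Nat.card_congr (m.E.equivMapOfInjective (MulAut.conj g).toMonoidHom (MulAut.conj g).injective).toEquiv]
    exact Subgroup.mem_normalizer_iff_map_conj_eq.mpr hmap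
  -- move `g` into `C(u)`
  have hz : g * m.u * g⁻¹ * m.u⁻¹ ∈ m.E := by
    refine m.cent_E _ (Subgroup.mem_centralizer_iff.mpr fun a ha => ?_) ?_
    swap
    · have hu : m.u⁻¹ = m.u := inv_eq_of_mul_eq_one_right m.hu
      simp only [hu, mul_inv_rev, inv_inv, mul_assoc, m.hu, mul_one]
    have ha' : g⁻¹ * a * g ∈ m.E := inv_conj_mem_of_mem_normalizer hgN ha
    have h1 := m.u_inv_E (inv_mem ha)
    have h2 := m.u_inv_E ha'
    have h3 : g * m.u * g⁻¹ * m.u⁻¹ * a * (g * m.u * g⁻¹ * m.u⁻¹)⁻¹ = a := by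
      have h4 : m.u⁻¹ * a * m.u = a⁻¹ := by
        calc m.u⁻¹ * a * m.u = m.u⁻¹ * (m.u * a⁻¹ * m.u⁻¹) * m.u := by rw [h1, inv_inv]
          _ = a⁻¹ := by group
      calc g * m.u * g⁻¹ * m.u⁻¹ * a * (g * m.u * g⁻¹ * m.u⁻¹)⁻¹
          = g * (m.u * (g⁻¹ * (m.u⁻¹ * a * m.u) * g) * m.u⁻¹) * g⁻¹ := by group
        _ = g * (m.u * (g⁻¹ * a * g)⁻¹ * m.u⁻¹) * g⁻¹ := by rw [h4]; group
        _ = a := by rw [m.u_inv_E (inv_mem ha'), inv_inv]; group
    exact (mul_inv_eq_iff_eq_mul.mp h3).symm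
  set z := g * m.u * g⁻¹ * m.u⁻¹ with hzdef
  obtain ⟨k, hk⟩ := m.odd_E
  set q := z ^ (k + 1) with hq
  have hqE : q ∈ m.E := pow_mem hz _
  have hqq : q * q = z := by
    have h1 : z ^ Nat.card m.E = 1 :=
      congrArg Subtype.val (pow_card_eq_one' (G := m.E) (x := ⟨z, hz⟩))
    rw [hq, ← pow_add, show k + 1 + (k + 1) = Nat.card m.E + 1 by omega, pow_succ, h1, one_mul]
  set c := q⁻¹ * g with hc
  have hcu : c * m.u = m.u * c := by
    have h1 : g * m.u * g⁻¹ = q * q * m.u := by rw [hqq, hzdef]; group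
    have h2 : m.u * q⁻¹ = q * m.u := by
      have := m.u_inv_E (inv_mem hqE)
      rw [inv_inv] at this
      exact mul_inv_eq_iff_eq_mul.mp this
    calc c * m.u = q⁻¹ * (g * m.u * g⁻¹) * g := by rw [hc]; group
      _ = (q * m.u) * g := by rw [h1]; group
      _ = m.u * c := by rw [← h2, hc]; group
  have hcN : c ∈ normalizer (m.E : Set G) := mul_mem (inv_mem (le_normalizer hqE)) hgN
  have hcx : c * e * c⁻¹ = x' := by
    have hx'E : x' ∈ m.E := mem_sup_left hgx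
    calc c * e * c⁻¹ = q⁻¹ * x' * q := by rw [hc, hx']; group
      _ = x' := by rw [mul_assoc, m.comm_E hx'E hqE, inv_mul_cancel_left]
  have hwu : m.u * m.w = m.w * m.u := mem_centralizer_singleton.mp m.w_u
  have hj : c * m.w * c⁻¹ = m.t := by
    refine m.invol_X x' hgx hx'1 _ ?_ ?_ ?_
    · rw [← MulAut.conj_apply, MulEquiv.orderOf_eq]; exact m.hw
    · rw [← hcx]
      calc c * m.w * c⁻¹ * (c * e * c⁻¹) = c * (m.w * e) * c⁻¹ := by group
        _ = c * (e * m.w) * c⁻¹ := by rw [hew]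
        _ = _ := by group
    · calc c * m.w * c⁻¹ * m.u = c * m.w * (c⁻¹ * (m.u * c)) * c⁻¹ := by group
        _ = c * m.w * (c⁻¹ * (c * m.u)) * c⁻¹ := by rw [hcu]
        _ = c * (m.w * m.u) * c⁻¹ := by group
        _ = c * (m.u * m.w) * c⁻¹ := by rw [hwu]
        _ = (c * m.u) * m.w * c⁻¹ := by group
        _ = _ := by rw [hcu]; group
  have hD : centralizer ({m.u} : Set G) ⊓ centralizer ({m.w} : Set G) ≤
      normalizer (m.E : Set G) := by
    intro d hd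
    have hdu := mem_centralizer_singleton.mp hd.1
    have hdw := mem_centralizer_singleton.mp hd.2
    have h1 : c * d * c⁻¹ ∈ centralizer ({m.u} : Set G) :=
      mul_mem (mul_mem (mem_centralizer_singleton.mpr hcu.symm) hd.1)
        (inv_mem (mem_centralizer_singleton.mpr hcu.symm))
    have h2 : c * d * c⁻¹ ∈ centralizer ({m.t} : Set G) := by
      rw [mem_centralizer_singleton, ← hj]
      calc c * m.w * c⁻¹ * (c * d * c⁻¹) = c * (m.w * d) * c⁻¹ := by group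
        _ = c * (d * m.w) * c⁻¹ := by rw [hdw]
        _ = _ := by group
    have := mul_mem (mul_mem (inv_mem hcN) (m.torus ⟨h1, h2⟩)) hcN
    rwa [show c⁻¹ * (c * d * c⁻¹) * c = d by group] at this
  obtain ⟨r, hrN, hr1, hrp, hru, hrt⟩ := m.gen _ m.torus hD
  exact m.no_normalizing_root hrN hr1 hrp hru hrt

end Match

end Cfsg.Agent.H26.LThree
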