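import Cfsg.Agent.H26.LThree.Frame

/-!
# One class of involutions; elements of `p`-power order centralising an involution are root elements
-/

set_option autoImplicit false
set_option linter.unusedSectionVars false
set_option linter.style.haveILetI false

namespace Cfsg.Agent.H26.LThree

open Cfsg.Agent.H35.Semi

universe u v

variable {G : Type u} [Group G] [Finite G] {F : Type v} [Field F] [Finite F] {t : G}
variable (S : Setting G F t)

include S in
theorem one_class {i : G} (hi : i * i = 1) (hi1 : i ≠ 1) : ∃ k : G, k * t * k⁻¹ = i := by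
  haveI : Fact (Nat.Prime 2) := ⟨Nat.prime_two⟩
  set C := Subgroup.centralizer ({t} : Set G) with hCdef
  obtain ⟨T⟩ : Nonempty (Sylow 2 C) := inferInstance
  let T' : Subgroup G := (T : Subgroup C).map C.subtype
  have hT'p : IsPGroup 2 T' := T.isPGroup'.map _
  have hidx : ¬ 2 ∣ T'.index := by
    show ¬ 2 ∣ ((T : Subgroup C).map C.subtype).index
    rw [Subgroup.index_map_subtype]
    intro hd
    rcases Nat.prime_two.dvd_mul.mp hd with h | h
    · exact T.not_dvd_index h
    · exact Nat.not_even_iff_odd.mpr (odd_index S) (even_iff_two_dvd.mpr h)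
  let P : Sylow 2 G := hT'p.toSylow hidx
  have hio : orderOf i = 2 := orderOf_eq_prime (by rw [pow_two, hi]) hi1
  have hip : IsPGroup 2 (Subgroup.zpowers i) :=
    IsPGroup.of_card (n := 1) (by rw [Nat.card_zpowers, hio, pow_one])
  obtain ⟨Q, hQ⟩ := hip.exists_le_sylow
  obtain ⟨k, hk⟩ := MulAction.exists_smul_eq G Q P
  have hmem : k * i * k⁻¹ ∈ (P : Subgroup G) := by
    rw [← hk, Sylow.coe_subgroup_smul, Subgroup.mem_pointwise_smul_iff_inv_smul_mem]
    simp only [MulAut.smul_def, MulAut.inv_apply, MulAut.conj_symm_apply]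
    rw [show k⁻¹ * (k * i * k⁻¹) * k = i by group]
    exact hQ (Subgroup.mem_zpowers i)
  obtain ⟨c, -, hc⟩ := hmem
  have hc' : (c : G) = k * i * k⁻¹ := hc
  have hct : Commute (k * i * k⁻¹) t := hc' ▸ Subgroup.mem_centralizer_singleton_iff.mp c.2
  rcases S.invol_cases (s := k * i * k⁻¹) (by
      rw [show k * i * k⁻¹ * (k * i * k⁻¹) = k * (i * i) * k⁻¹ by group, hi, mul_one,
        mul_inv_cancel]) (fun e => hi1 (conj_eq_one_iff.mp e)) hct with e | ⟨d, -, hd⟩
  · refine ⟨k⁻¹, ?_⟩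
    calc k⁻¹ * t * k⁻¹⁻¹ = k⁻¹ * (k * i * k⁻¹) * k⁻¹⁻¹ := by rw [e]
      _ = i := by group
  · refine ⟨k⁻¹ * d * ra S, ?_⟩
    calc k⁻¹ * d * ra S * t * (k⁻¹ * d * ra S)⁻¹
        = k⁻¹ * (d * (ra S * t * (ra S)⁻¹) * d⁻¹) * k := by group
      _ = k⁻¹ * (k * i * k⁻¹) * k := by rw [ra_t, hd]
      _ = i := by group

include S in
theorem orderOf_two_conj {i : G} (hi : orderOf i = 2) : ∃ k : G, k * t * k⁻¹ = i :=
  one_class S (by rw [← pow_two, ← hi, pow_orderOf_eq_one])
    (fun e => by rw [e, orderOf_one] at hi; omega)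

theorem ι_p_pow {p : ℕ} [CharP F p] (a : F) :
    S.ι (xp a) ^ p = 1 ∧ S.ι (xm a) ^ p = 1 := by
  refine ⟨?_, ?_⟩
  · rw [← map_pow, xp_pow, CharP.cast_eq_zero F p, zero_mul, xp_zero, map_one]
  · have : xm a = swap * xp a * swap⁻¹ := (swap_conj_xp a).symm
    rw [this, map_mul, map_mul, map_inv, conj_pow, ← map_pow, xp_pow, CharP.cast_eq_zero F p,
      zero_mul, xp_zero, map_one, mul_one, mul_inv_cancel]

theorem card_D_coprime {p n : ℕ} [Fact p.Prime] (hn : 1 ≤ n) (hF : Nat.card F = p ^ n) :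
    ¬ p ∣ Nat.card S.D := by
  intro hd
  have h1 : Nat.card S.D ∣ (Nat.card F - 1) * (Nat.card F - 1) := by
    have := Subgroup.card_range_dvd (S.ι.comp torHom)
    rwa [Nat.card_prod, Nat.card_units] at this
  have h2 : p ∣ Nat.card F - 1 := ((Fact.out : p.Prime).dvd_mul.mp (hd.trans h1)).elim id id
  have h3 : p ∣ Nat.card F := hF ▸ dvd_pow_self p (by omega)
  have h4 := Nat.dvd_sub h3 h2
  have : 1 ≤ Nat.card F := Nat.card_pos
  rw [show Nat.card F - (Nat.card F - 1) = 1 by omega] at h4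
  exact (Fact.out : p.Prime).one_lt.ne' (Nat.dvd_one.mp h4)

/-- A `p`-element centralising an involution is conjugate to an element of `X`. -/
theorem root_elt {p n : ℕ} [Fact p.Prime] [CharP F p] (hn : 1 ≤ n) (hF : Nat.card F = p ^ n)
    {i g : G} (hi : orderOf i = 2) (hgi : g * i = i * g) (hg : ∃ k : ℕ, g ^ p ^ k = 1) :
    ∃ h : G, h * g * h⁻¹ ∈ S.X := by
  obtain ⟨k, hk⟩ := orderOf_two_conj S hi
  set C := Subgroup.centralizer ({t} : Set G) with hCdef
  have hg' : k⁻¹ * g * k ∈ C := by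
    rw [Subgroup.mem_centralizer_singleton_iff]
    calc k⁻¹ * g * k * t = k⁻¹ * (g * (k * t * k⁻¹)) * k := by group
      _ = k⁻¹ * ((k * t * k⁻¹) * g) * k := by rw [hk, hgi]
      _ = _ := by group
  have hXC : S.X ≤ C := fun x hx => Subgroup.mem_centralizer_singleton_iff.mpr (X_commute_t S hx).eq
  have hXp : IsPGroup p ↥(S.X.subgroupOf C) := IsPGroup.of_card (n := n) (by
    rw [Nat.card_congr (Subgroup.subgroupOfEquivOfLe hXC).toEquiv, S.card_X, hF])
  have hidx : ¬ p ∣ (S.X.subgroupOf C).index := by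
    intro hd
    have h1 := (S.X.subgroupOf C).index_mul_card
    rw [Nat.card_congr (Subgroup.subgroupOfEquivOfLe hXC).toEquiv, S.card_X, card_centralizer S] at h1
    have h2 : (S.X.subgroupOf C).index = (Nat.card F + 1) * Nat.card S.D :=
      Nat.eq_of_mul_eq_mul_right (Nat.card_pos : 0 < Nat.card F) (by rw [h1]; ring)
    rw [h2] at hd
    rcases (Fact.out : p.Prime).dvd_mul.mp hd with h | h
    · have h3 : p ∣ Nat.card F := hF ▸ dvd_pow_self p (by omega)
      exact (Fact.out : p.Prime).one_lt.ne' (Nat.dvd_one.mp ((Nat.dvd_add_right h3).mp h))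
    · exact card_D_coprime S hn hF h
  let P : Sylow p C := hXp.toSylow hidx
  obtain ⟨j, hj⟩ := hg
  set x : C := ⟨k⁻¹ * g * k, hg'⟩ with hx
  have hxp : IsPGroup p (Subgroup.zpowers x) := by
    have hd : orderOf x ∣ p ^ j := orderOf_dvd_of_pow_eq_one (Subtype.ext (by
      rw [Subgroup.coe_pow, Subgroup.coe_one, hx]
      have := conj_pow (i := p ^ j) (a := k⁻¹) (b := g)
      rw [inv_inv] at this
      rw [this, hj]; group))
    obtain ⟨m, -, hm⟩ := (Nat.dvd_prime_pow (Fact.out : p.Prime)).mp hd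
    exact IsPGroup.of_card (n := m) (by rw [Nat.card_zpowers, hm])
  obtain ⟨Q, hQ⟩ := hxp.exists_le_sylow
  obtain ⟨c, hc⟩ := MulAction.exists_smul_eq C Q P
  refine ⟨(c : G) * k⁻¹, ?_⟩
  have hmem : c * x * c⁻¹ ∈ (P : Subgroup C) := by
    rw [← hc, Sylow.coe_subgroup_smul, Subgroup.mem_pointwise_smul_iff_inv_smul_mem]
    simp only [MulAut.smul_def, MulAut.inv_apply, MulAut.conj_symm_apply]
    rw [show c⁻¹ * (c * x * c⁻¹) * c = x by group]
    exact hQ (Subgroup.mem_zpowers x)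
  have := Subgroup.mem_subgroupOf.mp hmem
  rw [show (c : G) * k⁻¹ * g * ((c : G) * k⁻¹)⁻¹ = (c : G) * (k⁻¹ * g * k) * (c : G)⁻¹ by group]
  exact this

end Cfsg.Agent.H26.LThree
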