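import Cfsg.Agent.H26.LThree.OfShape
import Cfsg.Agent.H26.LThree.OneClass
import Cfsg.Agent.H35.Semi.Shapes
import Cfsg.Agent.Coprime.Action

/-!
# Two commuting root groups give the hexagon shape

If `X` commutes with `r X' r⁻¹` and with `r⁻¹ X' r` then the invariant Sylow `p`-subgroup of the odd
core of `C(X)` contains the three root groups, and its centraliser at `t` is `X`.
-/

set_option autoImplicit false
set_option linter.unusedSectionVars false
set_option linter.style.haveILetI false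

namespace Cfsg.Agent.H26.LThree

open Cfsg.Agent.H35.Semi

universe u v

variable {G : Type u} [Group G] [Finite G] {F : Type v} [Field F] [Finite F] {t : G}
variable (S : Setting G F t)

/-- `ra` is `r` times the swap times a torus element. -/
theorem ra_eq_r : ∃ e ∈ S.D, ra S = S.r * sw S * e := by
  refine ⟨(ra S * S.r * sw S)⁻¹, inv_mem (mem_D_of_conj S ?_ ?_), ?_⟩
  · rw [show ra S * S.r * sw S * t * (ra S * S.r * sw S)⁻¹ =
      ra S * (S.r * (sw S * t * (sw S)⁻¹) * S.r⁻¹) * (ra S)⁻¹ by group, sw_t, S.r_t, ra_u]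
  · rw [show ra S * S.r * sw S * S.u * (ra S * S.r * sw S)⁻¹ =
      ra S * (S.r * (sw S * S.u * (sw S)⁻¹) * S.r⁻¹) * (ra S)⁻¹ by group, sw, S.swap_conj_u, S.r_tu,
      ra_t]
  · rw [mul_inv_rev, mul_inv_rev, ra_inv, sw_inv]
    calc ra S = (S.r * (sw S * sw S) * S.r⁻¹) * ra S := by rw [sw_sq]; group
      _ = _ := by group

/-- `rb` is `r⁻¹` times the swap times a torus element. -/
theorem rb_eq_r : ∃ e ∈ S.D, rb S = S.r⁻¹ * sw S * e := by
  have h1 : S.r⁻¹ * (t * S.u) * S.r = S.u := by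
    calc S.r⁻¹ * (t * S.u) * S.r = S.r⁻¹ * (S.r * S.u * S.r⁻¹) * S.r := by rw [S.r_u]
      _ = S.u := by group
  refine ⟨(rb S * S.r⁻¹ * sw S)⁻¹, inv_mem (mem_D_of_conj S ?_ ?_), ?_⟩
  · rw [show rb S * S.r⁻¹ * sw S * t * (rb S * S.r⁻¹ * sw S)⁻¹ =
      rb S * (S.r⁻¹ * (sw S * t * (sw S)⁻¹) * S.r) * (rb S)⁻¹ by group, sw_t, S.rinv_t, rb_tu]
  · rw [show rb S * S.r⁻¹ * sw S * S.u * (rb S * S.r⁻¹ * sw S)⁻¹ =
      rb S * (S.r⁻¹ * (sw S * S.u * (sw S)⁻¹) * S.r) * (rb S)⁻¹ by group, sw, S.swap_conj_u, h1,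
      rb_u]
  · rw [mul_inv_rev, mul_inv_rev, rb_inv, sw_inv, inv_inv]
    calc rb S = (S.r⁻¹ * (sw S * sw S) * S.r) * rb S := by rw [sw_sq]; group
      _ = _ := by group

theorem conj_mem_centralizer_of_comm {h k : G} (he : ∃ e ∈ S.D, k = h * sw S * e)
    (hc : S.Comm h S.X') : ∀ y ∈ S.X, k * y * k⁻¹ ∈ Subgroup.centralizer (S.X : Set G) := by
  obtain ⟨e, he, rfl⟩ := he
  intro y hy
  have h1 : sw S * (e * y * e⁻¹) * (sw S)⁻¹ ∈ S.X' := S.swap_conj_X.mpr (D_normalizes_X S he hy)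
  have := hc _ h1
  rwa [show h * sw S * e * y * (h * sw S * e)⁻¹ =
    h * (sw S * (e * y * e⁻¹) * (sw S)⁻¹) * h⁻¹ by group]

/-- Both outer root groups commute with `X`: the hexagon shape. -/
theorem hexShape_of_comm (h1 : S.Comm S.r S.X') (h2 : S.Comm S.r⁻¹ S.X') : HexShape S := by
  classical
  have hY := conj_mem_centralizer_of_comm S (ra_eq_r S) h1
  have hA := conj_mem_centralizer_of_comm S (rb_eq_r S) h2
  refine ⟨fun x hx y hy => hY y hy x hx, fun x hx y hy => hA y hy x hx, ?_⟩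
  obtain ⟨p, n, hp, hp2, hn, hq⟩ := S.exists_prime
  haveI : Fact p.Prime := ⟨hp⟩
  set M := Subgroup.centralizer (S.X : Set G) with hM
  set K := coreOf M with hK
  have htM : t ∈ M := S.t_mem_centralizer (fun x hx => hx)
  have hKo : Odd (Nat.card K) := coreOf_odd M
  have hdec : ∀ z ∈ M, t * z * t⁻¹ = z⁻¹ → Odd (orderOf z) → z ∈ K := by
    intro z hz hinv hoz
    have hone : S.ι (xp 1) ≠ 1 := fun h => by
      rw [← map_one S.ι, ← xp_zero] at h
      exact one_ne_zero (S.ι_xp_injective h)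
    obtain ⟨o, ho, c, -, hct, rfl⟩ := S.exists_decomp (s := (S.X : Set G)) (fun x hx => hx)
      (x₀ := S.ι (xp 1)) (S.mem_X.2 ⟨1, rfl⟩) hone hz
    have hto : t * o * t⁻¹ ∈ K := conj_mem_coreOf (Subgroup.le_normalizer htM) ho
    have hsq : (o * c) * (o * c) ∈ K := by
      have e1 : (o * c)⁻¹ = t * o * t⁻¹ * c := by
        rw [← hinv, show t * (o * c) * t⁻¹ = t * o * t⁻¹ * (t * c * t⁻¹) by group,
          ← hct.eq, mul_inv_cancel_right]
      have e2 : ((o * c) * (o * c))⁻¹ = t * o * t⁻¹ * o⁻¹ := by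
        rw [mul_inv_rev]
        nth_rw 1 [e1]
        group
      have := inv_mem (mul_mem hto (inv_mem ho))
      rwa [← e2, inv_inv] at this
    obtain ⟨j, hj⟩ := hoz
    have hp' := pow_mem hsq (j + 1)
    rwa [← pow_two, ← pow_mul, show 2 * (j + 1) = 2 * j + 1 + 1 by ring, ← hj, pow_succ,
      pow_orderOf_eq_one, one_mul] at hp'
  have hodd_of : ∀ {z : G}, (∃ x ∈ S.X, ∃ k, k * x * k⁻¹ = z) → Odd (orderOf z) := by
    rintro z ⟨x, hx, k, rfl⟩
    rw [show k * x * k⁻¹ = (MulAut.conj k).toMonoidHom x from rfl,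
      orderOf_injective (MulAut.conj k).toMonoidHom (MulAut.conj k).injective x]
    exact Odd.of_dvd_nat (by rw [S.card_X]; exact S.odd) (Subgroup.orderOf_dvd_natCard S.X hx)
  have hXK : S.X ≤ K := by
    intro x hx
    have hXM : S.X ≤ M := fun z hz w hw => by
      obtain ⟨a, rfl⟩ := S.mem_X.1 hz
      obtain ⟨b, rfl⟩ := S.mem_X.1 hw
      rw [← map_mul, ← map_mul, xp_mul, xp_mul, add_comm]
    haveI : (S.X.subgroupOf M).Normal := ⟨fun z hz g => by
      rw [Subgroup.mem_subgroupOf] at hz ⊢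
      have hc : (z : G) * g = g * z := g.2 z hz
      push_cast
      rwa [show (g : G) * z * (g : G)⁻¹ = z by rw [← hc, mul_inv_cancel_right]]⟩
    exact ⟨⟨x, hXM hx⟩, Cores.le_oddCore (by
      rw [Nat.card_congr (Subgroup.subgroupOfEquivOfLe hXM).toEquiv, S.card_X]; exact S.odd)
      (Subgroup.mem_subgroupOf.2 hx), rfl⟩
  have hYK : rY S ≤ K := by
    rintro _ ⟨x, hx, rfl⟩
    refine hdec _ (hY x hx) ?_ (hodd_of ⟨x, hx, ra S, rfl⟩)
    show t * (ra S * x * (ra S)⁻¹) * t⁻¹ = (ra S * x * (ra S)⁻¹)⁻¹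
    rw [show t * (ra S * x * (ra S)⁻¹) * t⁻¹ = ra S * ((ra S)⁻¹ * t * ra S * x *
      ((ra S)⁻¹ * t * ra S)⁻¹) * (ra S)⁻¹ by group,
      show (ra S)⁻¹ * t * ra S = S.u by have := ra_t S; rwa [ra_inv] at this ⊢,
      u_inverts_X S hx]
    group
  have hAK : rA S ≤ K := by
    rintro _ ⟨x, hx, rfl⟩
    refine hdec _ (hA x hx) ?_ (hodd_of ⟨x, hx, rb S, rfl⟩)
    show t * (rb S * x * (rb S)⁻¹) * t⁻¹ = (rb S * x * (rb S)⁻¹)⁻¹
    rw [show t * (rb S * x * (rb S)⁻¹) * t⁻¹ = rb S * ((rb S)⁻¹ * t * rb S * x *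
      ((rb S)⁻¹ * t * rb S)⁻¹) * (rb S)⁻¹ by group,
      show (rb S)⁻¹ * t * rb S = t * S.u by have := rb_t S; rwa [rb_inv] at this ⊢,
      tu_inverts_X S hx]
    group
  -- the four group
  let V : Subgroup G := Subgroup.zpowers t ⊔ Subgroup.zpowers S.u
  have htD : t ∈ S.D := S.mem_D_iff.2 ⟨Commute.refl t, S.commute_u_t.symm⟩
  have huD : S.u ∈ S.D := S.mem_D_iff.2 ⟨S.commute_u_t, Commute.refl _⟩
  have hVD : V ≤ S.D := sup_le (Subgroup.zpowers_le.2 htD) (Subgroup.zpowers_le.2 huD)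
  haveI : Fact (Nat.Prime 2) := ⟨Nat.prime_two⟩
  have hzp : ∀ {i : G}, orderOf i = 2 → IsPGroup 2 (Subgroup.zpowers i) := fun {i} hi =>
    IsPGroup.of_card (n := 1) (by rw [Nat.card_zpowers, hi, pow_one])
  have hV : IsPGroup 2 V := by
    refine (hzp S.invol).to_sup_of_normal_left' (hzp S.orderOf_u) ?_
    rw [Subgroup.zpowers_le]
    refine Subgroup.centralizer_le_normalizer _ (Subgroup.mem_centralizer_iff.2 fun z hz => ?_)
    obtain ⟨m, rfl⟩ := Subgroup.mem_zpowers_iff.mp hz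
    exact (S.commute_u_t.symm.zpow_left m).eq
  haveI : Group.IsNilpotent V := hV.isNilpotent
  have hsolv : Group.IsSolvable V ∨ Group.IsSolvable K := Or.inl inferInstance
  have hcop : (Nat.card V).Coprime (Nat.card K) := by
    obtain ⟨m, hm⟩ := hV.exists_card_eq
    rw [hm]
    exact Nat.Coprime.pow_left m (Nat.coprime_two_left.2 hKo)
  have hDM : S.D ≤ Subgroup.normalizer (M : Set G) := fun d hd => S.D_mem_normalizer hd
  have hVK : V ≤ Subgroup.normalizer (K : Set G) := by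
    intro v hv
    refine Subgroup.mem_normalizer_fintype fun z hz => conj_mem_coreOf (hDM (hVD hv)) hz
  have hinvR : ∀ {r : G}, r * r = 1 → (∀ d ∈ S.D, r * d * r⁻¹ ∈ S.D) →
      V ≤ Subgroup.normalizer ((S.X.map (MulAut.conj r).toMonoidHom : Subgroup G) : Set G) :=
    fun hr hrD => hVD.trans (D_norm_map S hr hrD)
  have hpg : ∀ {k : G}, IsPGroup p ↥(S.X.map (MulAut.conj k).toMonoidHom) := fun {k} =>
    IsPGroup.of_card (n := n) (by rw [card_map S, hq])
  have hXp : IsPGroup p S.X := IsPGroup.of_card (n := n) (by rw [S.card_X, hq])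
  obtain ⟨P, hXP, hPV⟩ := Coprime.exists_invariant_sylow_ge hVK hcop hsolv p hXK hXp
    (hVD.trans (D_norm_X S))
  set P' : Subgroup G := (P : Subgroup K).map K.subtype with hP'
  have hPK : P' ≤ K := Subgroup.map_subtype_le _
  have hmem : ∀ {R : Subgroup G}, R ≤ K → IsPGroup p R →
      S.D ≤ Subgroup.normalizer (R : Set G) → R ≤ P' := by
    intro R hRK hRp hRD
    obtain ⟨Q, hRQ, hQV⟩ := Coprime.exists_invariant_sylow_ge hVK hcop hsolv p hRK hRp
      (hVD.trans hRD)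
    obtain ⟨c, hc, hce⟩ := Coprime.exists_conj_invariant_sylow hVK hcop hsolv p Q P hQV hPV
    have hcD : (c : G) ∈ S.D := S.mem_D_iff.2
      ⟨(hc t (Subgroup.mem_sup_left (Subgroup.mem_zpowers t))).symm,
        (hc S.u (Subgroup.mem_sup_right (Subgroup.mem_zpowers _))).symm⟩
    intro z hz
    have hz' : (c : G)⁻¹ * z * c ∈ R := by
      have := (Subgroup.mem_normalizer_iff.1 (hRD (inv_mem hcD)) z).1 hz
      rwa [inv_inv] at this
    obtain ⟨w, hw, hwe⟩ := hRQ hz'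
    have hcw : c * w * c⁻¹ ∈ (P : Subgroup K) := by
      rw [← hce, Sylow.pointwise_smul_def, Subgroup.mem_pointwise_smul_iff_inv_smul_mem]
      simp only [MulAut.smul_def, MulAut.inv_apply, MulAut.conj_symm_apply, MulAut.conj_apply]
      rwa [show c⁻¹ * (c * w * c⁻¹) * c = w by group]
    refine ⟨_, hcw, ?_⟩
    show ((c : G) * (w : G) * (c : G)⁻¹) = z
    rw [show (w : G) = (c : G)⁻¹ * z * c from hwe]
    group
  refine ⟨P', hPK.trans (coreOf_le M), Odd.of_dvd_nat hKo (Subgroup.card_dvd_of_le hPK), hXP,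
    hmem hYK hpg (D_norm_map S (ra_sq S) (fun d hd => ra_D S hd)),
    hmem hAK hpg (D_norm_map S (rb_sq S) (fun d hd => rb_D S hd)), ?_, ?_⟩
  · intro g hg hgt
    have hone : S.ι (xp 1) ≠ 1 := fun h => by
      rw [← map_one S.ι, ← xp_zero] at h
      exact one_ne_zero (S.ι_xp_injective h)
    have hgX : ∀ x ∈ S.X, Commute x g := fun x hx => (coreOf_le M (hPK hg)) x hx
    obtain ⟨z, hz, y, hy, rfl⟩ := S.exists_of_commute (S.mem_X.2 ⟨(1 : F), rfl⟩) hone hgt
      (hgX _ (S.mem_X.2 ⟨1, rfl⟩)).symm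
    have hzy : z * y * y⁻¹ = z := mul_inv_cancel_right z y
    have hzP : z ∈ P' := hzy ▸ mul_mem hg (inv_mem (hXP hy))
    obtain ⟨a, ha⟩ := S.mem_Sc.1 hz
    have hzD : z ∈ S.D := ha ▸ S.mem_D.2 ⟨a, a, rfl⟩
    have hz1 : z = 1 := by
      refine orderOf_eq_one_iff.1 (Nat.eq_one_of_dvd_coprimes ?_
        (Subgroup.orderOf_dvd_natCard P' hzP) (Subgroup.orderOf_dvd_natCard S.D hzD))
      obtain ⟨m, hm⟩ := (P.isPGroup'.map K.subtype).exists_card_eq
      rw [hP', hm]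
      exact Nat.Coprime.pow_left m (hp.coprime_iff_not_dvd.2 (card_D_coprime S hn hq))
    rw [hz1, one_mul]
    exact hy
  · exact fun g hg => (Subgroup.mem_normalizer_iff.1
      (hPV (Subgroup.mem_sup_left (Subgroup.mem_zpowers t))) g).1 hg

end Cfsg.Agent.H26.LThree
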