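import Cfsg.Agent.H26.LThree.OneClass
import Cfsg.Agent.H26.LThree.Matching
import Cfsg.Agent.H26.LThree.GenTori

/-!
# The matching shape in the setting of S0484 is impossible
-/

set_option autoImplicit false
set_option linter.unusedSectionVars false
set_option linter.style.haveILetI false

namespace Cfsg.Agent.H26.LThree

open Cfsg.Agent.H35.Semi

universe u v

variable {G : Type u} [Group G] [Finite G] {F : Type v} [Field F] [Finite F] {t : G}

/-- The matching shape at the root group `R` (`S.X` or `S.X'`). -/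
def MatchShape (S : Setting G F t) (p : ℕ) (R : Subgroup G) : Prop :=
  (R = S.X ∨ R = S.X') ∧
  (∀ x ∈ R, ∀ y ∈ R, Commute x (ra S * y * (ra S)⁻¹)) ∧
  (∀ x ∈ R, x ≠ 1 → ∀ g : G, g * x = x * g → (∃ k : ℕ, g ^ p ^ k = 1) →
    g ∈ R ⊔ R.map (MulAut.conj (ra S)).toMonoidHom) ∧
  (∀ x ∈ R, x ≠ 1 → ∀ i : G, orderOf i = 2 → i * x = x * i → i * (t * S.u) = (t * S.u) * i →
    i = t) ∧
  ∀ z ∈ Subgroup.centralizer ((R ⊔ R.map (MulAut.conj (ra S)).toMonoidHom : Subgroup G) : Set G),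
    t * S.u * z * (t * S.u)⁻¹ = z⁻¹ → z ∈ R ⊔ R.map (MulAut.conj (ra S)).toMonoidHom

variable (S : Setting G F t)

theorem X'_eq : S.X' = S.X.map (MulAut.conj (sw S)).toMonoidHom := by
  ext g
  constructor
  · intro hg
    refine ⟨(sw S)⁻¹ * g * sw S, ?_, ?_⟩
    · rw [SetLike.mem_coe, ← S.swap_conj_X]
      rwa [show S.ι swap * ((sw S)⁻¹ * g * sw S) * (S.ι swap)⁻¹ = g by unfold sw; group]
    · show sw S * ((sw S)⁻¹ * g * sw S) * (sw S)⁻¹ = g
      group
  · rintro ⟨x, hx, rfl⟩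
    exact S.swap_conj_X.mpr hx

theorem root_side {R : Subgroup G} (hR : R = S.X ∨ R = S.X') :
    (∀ x ∈ R, Commute x t) ∧ (∀ x ∈ R, S.u * x * S.u⁻¹ = x⁻¹) ∧
      (∀ x ∈ R, (t * S.u) * x * (t * S.u)⁻¹ = x⁻¹) ∧
      (∀ d ∈ S.D, ∀ x ∈ R, d * x * d⁻¹ ∈ R) ∧ Nat.card R = Nat.card F := by
  rcases hR with rfl | rfl
  · exact ⟨fun x hx => X_commute_t S hx, fun x hx => u_inverts_X S hx,
      fun x hx => tu_inverts_X S hx, fun d hd x hx => D_normalizes_X S hd hx, S.card_X⟩
  · refine ⟨?_, ?_, ?_, ?_, ?_⟩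
    · rintro x hx
      obtain ⟨a, rfl⟩ := S.mem_X'.mp hx
      exact S.commute_image _
    · rintro x hx
      obtain ⟨a, rfl⟩ := S.mem_X'.mp hx
      rw [Setting.u, ← map_inv, ← map_mul, ← map_mul, tor_conj_xm, ← map_inv, xm_inv]
      simp
    · rintro x hx
      obtain ⟨a, rfl⟩ := S.mem_X'.mp hx
      rw [S.tu_eq, ← map_inv, ← map_mul, ← map_mul, tor_conj_xm, ← map_inv, xm_inv]
      simp
    · rintro d hd x hx
      obtain ⟨a, b, rfl⟩ := S.mem_D.mp hd
      obtain ⟨c, rfl⟩ := S.mem_X'.mp hx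
      rw [← map_inv, ← map_mul, ← map_mul, tor_conj_xm]
      exact S.mem_X'.mpr ⟨_, rfl⟩
    · rw [X'_eq, ← Nat.card_congr (S.X.equivMapOfInjective (MulAut.conj (sw S)).toMonoidHom
        (MulAut.conj (sw S)).injective).toEquiv, S.card_X]

theorem conj_conj_self {r z : G} (h : r * r = 1) : r * (r * z * r⁻¹) * r⁻¹ = z := by
  rw [show r * (r * z * r⁻¹) * r⁻¹ = (r * r) * z * (r * r)⁻¹ by group, h, one_mul, inv_one, mul_one]

/-- There is no matching shape for `q ≥ 7`. -/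
theorem not_matchShape {p n : ℕ} [Fact p.Prime] [CharP F p] (hp2 : p ≠ 2) (hn : 1 ≤ n)
    (hF : Nat.card F = p ^ n) (h7 : 7 ≤ Nat.card F) {R : Subgroup G}
    (h : MatchShape S p R) : False := by
  classical
  letI := Fintype.ofFinite F
  obtain ⟨hR, hcomm, hcentX, hinv, hcentE⟩ := h
  obtain ⟨hRt, hRu, hRv, hRD, hRcard⟩ := root_side S hR
  set Y := R.map (MulAut.conj (ra S)).toMonoidHom with hYdef
  set E := R ⊔ Y with hEdef
  have htu : orderOf (t * S.u) = 2 := by
    rw [show t * S.u = rb S * t * (rb S)⁻¹ from (rb_t S).symm, ← MulAut.conj_apply,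
      MulEquiv.orderOf_eq]
    exact S.invol
  have hRp : ∀ x ∈ R, ∃ k : ℕ, x ^ p ^ k = 1 := fun x hx => by
    refine ⟨1, ?_⟩
    rw [pow_one]
    rcases hR with rfl | rfl
    · obtain ⟨a, rfl⟩ := S.mem_X.mp hx
      exact (ι_p_pow S a).1
    · obtain ⟨a, rfl⟩ := S.mem_X'.mp hx
      exact (ι_p_pow S a).2
  have hswap : ∀ z ∈ E, ra S * z * (ra S)⁻¹ ∈ E := by
    have hle : E.map (MulAut.conj (ra S)).toMonoidHom ≤ E := by
      rw [hEdef, Subgroup.map_sup, hYdef]
      refine sup_le le_sup_right ?_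
      rintro _ ⟨_, ⟨x, hx, rfl⟩, rfl⟩
      refine Subgroup.mem_sup_left ?_
      show ra S * (ra S * x * (ra S)⁻¹) * (ra S)⁻¹ ∈ R
      rwa [conj_conj_self (ra_sq S)]
    exact fun z hz => hle ⟨z, hz, rfl⟩
  have hDE : ∀ d ∈ S.D, d ∈ Subgroup.normalizer (E : Set G) := by
    intro d hd
    refine Subgroup.mem_normalizer_iff_map_conj_eq.mpr (Subgroup.eq_of_le_of_card_ge ?_ (le_of_eq ?_))
    · rw [hEdef, Subgroup.map_sup]
      refine sup_le_sup ?_ ?_
      · rintro _ ⟨x, hx, rfl⟩; exact hRD d hd x hx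
      · rintro _ ⟨_, ⟨x, hx, rfl⟩, rfl⟩
        refine ⟨(ra S * d * (ra S)⁻¹) * x * (ra S * d * (ra S)⁻¹)⁻¹, hRD _ (ra_D S hd) x hx, ?_⟩
        show ra S * (ra S * d * (ra S)⁻¹ * x * (ra S * d * (ra S)⁻¹)⁻¹) * (ra S)⁻¹ =
          d * (ra S * x * (ra S)⁻¹) * d⁻¹
        have e := conj_conj_self (z := d) (ra_sq S)
        calc _ = (ra S * (ra S * d * (ra S)⁻¹) * (ra S)⁻¹) * (ra S * x * (ra S)⁻¹) *
              (ra S * (ra S * d * (ra S)⁻¹) * (ra S)⁻¹)⁻¹ := by group
          _ = _ := by rw [e]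
    · exact Nat.card_congr (E.equivMapOfInjective (MulAut.conj d).toMonoidHom
        (MulAut.conj d).injective).toEquiv
  refine Match.impossible (G := G)
    { p := p
      hp := Fact.out
      hp2 := hp2
      t := t
      v := S.u
      u := t * S.u
      w := ra S
      X := R
      Y := Y
      ht := S.invol
      hu := by rw [← pow_two, ← htu, pow_orderOf_eq_one]
      hw := ?_
      X_ne := ?_
      X_p := hRp
      Y_p := ?_
      comm_XY := ?_
      X_t := fun x hx => Subgroup.mem_centralizer_singleton_iff.mpr (hRt x hx).eq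
      Y_v := ?_
      t_Y := ?_
      u_X := hRv
      u_Y := ?_
      w_X := fun x hx => ⟨x, hx, rfl⟩
      w_u := Subgroup.mem_centralizer_singleton_iff.mpr (commute_of_conj (ra_tu S)).eq
      torus := ?_
      cent_X := hcentX
      cent_Y := ?_
      invol_X := hinv
      cent_E := hcentE
      root := ?_
      gen := ?_ }
  · exact orderOf_eq_prime (by rw [pow_two, ra_sq]) fun e => by
      have := ra_t S
      rw [e, one_mul, inv_one, mul_one] at this
      exact S.u_ne_t this.symm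
  · intro e
    have h1 : 1 < Nat.card F := Finite.one_lt_card
    rw [← hRcard, e, Subgroup.card_bot] at h1
    omega
  · rintro _ ⟨x, hx, rfl⟩
    obtain ⟨k, hk⟩ := hRp x hx
    refine ⟨k, ?_⟩
    rw [← map_pow, hk, map_one]
  · rintro x hx _ ⟨y, hy, rfl⟩
    exact (hcomm x hx y hy).eq
  · rintro _ ⟨x, hx, rfl⟩
    have := (hRt x hx).map (MulAut.conj (ra S))
    simp only [MulAut.conj_apply, ra_t] at this
    exact Subgroup.mem_centralizer_singleton_iff.mpr this.eq
  · rintro _ ⟨x, hx, rfl⟩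
    have := congrArg (MulAut.conj (ra S)) (hRu x hx)
    simp only [map_mul, map_inv, MulAut.conj_apply, ra_u] at this
    simpa using this
  · rintro _ ⟨x, hx, rfl⟩
    have := congrArg (MulAut.conj (ra S)) (hRv x hx)
    simp only [MulAut.conj_apply] at this
    have e := ra_tu S
    calc t * S.u * (ra S * x * (ra S)⁻¹) * (t * S.u)⁻¹
        = (ra S * (t * S.u) * (ra S)⁻¹) * (ra S * x * (ra S)⁻¹) *
          (ra S * (t * S.u) * (ra S)⁻¹)⁻¹ := by rw [e]
      _ = ra S * ((t * S.u) * x * (t * S.u)⁻¹) * (ra S)⁻¹ := by group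
      _ = ra S * x⁻¹ * (ra S)⁻¹ := by rw [hRv x hx]
      _ = (ra S * x * (ra S)⁻¹)⁻¹ := by group
  · rintro d ⟨h1, h2⟩
    have e1 : Commute d (t * S.u) := Subgroup.mem_centralizer_singleton_iff.mp h1
    have e2 : Commute d t := Subgroup.mem_centralizer_singleton_iff.mp h2
    have e3 := e2.mul_right e1
    rw [← mul_assoc, S.mul_self, one_mul] at e3
    exact hDE d (S.mem_D_iff.mpr ⟨e2, e3⟩)
  · rintro _ ⟨x, hx, rfl⟩ hy1 g hg hgp
    have hx1 : x ≠ 1 := fun e => hy1 (by rw [e, map_one])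
    have h1 : ra S * g * (ra S)⁻¹ * x = x * (ra S * g * (ra S)⁻¹) := by
      have hg' : Commute g (ra S * x * (ra S)⁻¹) := hg
      have h2 := hg'.map (MulAut.conj (ra S))
      simp only [MulAut.conj_apply] at h2
      rw [conj_conj_self (ra_sq S)] at h2
      exact h2.eq
    obtain ⟨k, hk⟩ := hgp
    have := hswap _ (hcentX x hx hx1 _ h1 ⟨k, by rw [conj_pow, hk, mul_one, mul_inv_cancel]⟩)
    rwa [conj_conj_self (ra_sq S)] at this
  · intro i g hi hgi hg _
    obtain ⟨h, hh⟩ := root_elt S hn hF hi hgi hg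
    rcases hR with rfl | rfl
    · exact ⟨h, hh⟩
    · refine ⟨sw S * h, ?_⟩
      rw [show sw S * h * g * (sw S * h)⁻¹ = sw S * (h * g * h⁻¹) * (sw S)⁻¹ by group]
      exact S.swap_conj_X.mpr hh
  · intro K hK1 hK2
    let φ : GL (Fin 2) F →* G := (MulAut.conj (rb S)).toMonoidHom.comp S.ι
    have hD : ∀ a b : Fˣ, tor a b ∈ K.comap φ := by
      intro a b
      have hd : rb S * S.ι (tor a b) * (rb S)⁻¹ ∈ S.D := rb_D S (S.mem_D.mpr ⟨a, b, rfl⟩)
      obtain ⟨h1, h2⟩ := S.mem_D_iff.mp hd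
      exact hK1 ⟨Subgroup.mem_centralizer_singleton_iff.mpr (h1.mul_right h2).eq,
        Subgroup.mem_centralizer_singleton_iff.mpr h1.eq⟩
    have hC : ∀ g : GL (Fin 2) F, g * swap = swap * g → g ∈ K.comap φ := by
      intro g hg
      refine hK2 ⟨Subgroup.mem_centralizer_singleton_iff.mpr ?_,
        Subgroup.mem_centralizer_singleton_iff.mpr ?_⟩
      · show φ g * (t * S.u) = t * S.u * φ g
        have := (S.commute_image g).map (MulAut.conj (rb S))
        simp only [MulAut.conj_apply, rb_t] at this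
        exact this.eq
      · exact ((show Commute g swap from hg).map φ).eq
    obtain ⟨c, hc, hcK⟩ := exists_xm (by rwa [← Nat.card_eq_fintype_card]) (K.comap φ) hD hC
    refine ⟨φ (xm c), hcK, ?_, ⟨1, ?_⟩, ?_, ?_⟩
    · intro e
      have h1 : S.ι (xm c) = 1 := (MulAut.conj (rb S)).injective (e.trans (map_one _).symm)
      have h2 : xm c = 1 := S.ker_det h1 (by
        refine Units.ext ?_
        simp [Matrix.det_fin_two])
      have := congrArg (fun M : GL (Fin 2) F => M.1 1 0) h2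
      simp at this
      exact hc this
    · rw [pow_one]
      show MulAut.conj (rb S) (S.ι (xm c)) ^ p = 1
      rw [← map_pow, (ι_p_pow S c).2, map_one]
    · have := (S.commute_image (xm c)).map (MulAut.conj (rb S))
      simp only [MulAut.conj_apply, rb_t] at this
      exact this.eq
    · show t * (rb S * S.ι (xm c) * (rb S)⁻¹) * t⁻¹ = (rb S * S.ι (xm c) * (rb S)⁻¹)⁻¹
      have e : t * S.u * S.ι (xm c) * (t * S.u)⁻¹ = (S.ι (xm c))⁻¹ :=
        (root_side S (R := S.X') (Or.inr rfl)).2.2.1 _ (S.mem_X'.mpr ⟨c, rfl⟩)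
      calc t * (rb S * S.ι (xm c) * (rb S)⁻¹) * t⁻¹
          = (rb S * (t * S.u) * (rb S)⁻¹) * (rb S * S.ι (xm c) * (rb S)⁻¹) *
            (rb S * (t * S.u) * (rb S)⁻¹)⁻¹ := by rw [rb_tu]
        _ = rb S * ((t * S.u) * S.ι (xm c) * (t * S.u)⁻¹) * (rb S)⁻¹ := by group
        _ = _ := by rw [e]; group

end Cfsg.Agent.H26.LThree
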