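import Cfsg.Agent.H29.OW.Projective
import Cfsg.Agent.Linear.Generation

/-!
# The collineations generated by elations of a Desarguesian plane form `PSL₃`
-/

set_option autoImplicit false
set_option linter.unusedSectionVars false
set_option linter.style.haveILetI false

namespace Cfsg.Agent.H26.LThree

open Cfsg.Agent.H29.OW

variable {P L : Type*} [Finite P] [Finite L] {π : Plane P L} {F : Type*} [Field F]

/-- Coordinates of a plane in `PG(2, F)`. -/
structure ProjCoords (π : Plane P L) (F : Type*) [Field F] where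
  /-- the points -/
  φ : P ≃ Projectivization F (Fin 3 → F)
  /-- the lines -/
  ω : L ≃ {W : Submodule F (Fin 3 → F) // Module.finrank F W = 2}
  incid : ∀ p l, π.I p l ↔ (φ p).submodule ≤ (ω l).1

theorem exists_projCoords (φ : P ≃ Projectivization F (Fin 3 → F))
    (h1 : ∀ l : L, ∃ W : Submodule F (Fin 3 → F), Module.finrank F W = 2 ∧
      ∀ p : P, π.I p l ↔ (φ p).submodule ≤ W)
    (h2 : ∀ W : Submodule F (Fin 3 → F), Module.finrank F W = 2 →
      ∃ l : L, ∀ p : P, π.I p l ↔ (φ p).submodule ≤ W) :
    Nonempty (ProjCoords π F) := by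
  choose W hW hI using h1
  refine ⟨⟨φ, Equiv.ofBijective (fun l => ⟨W l, hW l⟩) ⟨?_, ?_⟩, fun p l => hI l p⟩⟩
  · intro l m e
    have e' : W l = W m := congrArg Subtype.val e
    by_contra hlm
    obtain ⟨p, hp⟩ := π.exists_point_on l
    obtain ⟨p', hp', hne⟩ := π.exists_point_ne l p
    exact (π.uniq hp hp' ((hI m p).mpr (e' ▸ (hI l p).mp hp))
      ((hI m p').mpr (e' ▸ (hI l p').mp hp'))).elim (fun h => hne h.symm) hlm
  · rintro ⟨V, hV⟩
    obtain ⟨l, hl⟩ := h2 V hV
    refine ⟨l, Subtype.ext ?_⟩
    have key : ∀ {A B : Submodule F (Fin 3 → F)}, (∀ p : P, (φ p).submodule ≤ A → (φ p).submodule ≤ B) →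
        A ≤ B := by
      intro A B hAB v hv
      rcases eq_or_ne v 0 with rfl | hv0
      · exact B.zero_mem
      have := hAB (φ.symm (Projectivization.mk F v hv0))
      rw [Equiv.apply_symm_apply, Projectivization.submodule_mk, Submodule.span_singleton_le_iff_mem,
        Submodule.span_singleton_le_iff_mem] at this
      exact this hv
    exact le_antisymm (key fun p hp => (hl p).mp ((hI l p).mpr hp))
      (key fun p hp => (hI l p).mp ((hl p).mpr hp))

namespace ProjCoords

variable (C : ProjCoords π F)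

theorem map_sub (e : (Fin 3 → F) ≃ₗ[F] (Fin 3 → F)) (x : Projectivization F (Fin 3 → F)) :
    (Projectivization.map e.toLinearMap e.injective x).submodule =
      x.submodule.map e.toLinearMap := by
  induction x using Projectivization.ind with
  | _ v hv =>
    rw [Projectivization.map_mk, Projectivization.submodule_mk, Projectivization.submodule_mk,
      Submodule.map_span, Set.image_singleton]

/-- The point permutation of a linear automorphism. -/
noncomputable def ptPerm (e : (Fin 3 → F) ≃ₗ[F] (Fin 3 → F)) : Equiv.Perm P :=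
  C.φ.trans ((Equiv.ofBijective (Projectivization.map e.toLinearMap e.injective)
    ⟨Projectivization.map_injective _ e.injective, by
      intro x
      induction x using Projectivization.ind with
      | _ v hv =>
        refine ⟨Projectivization.mk F (e.symm v) (by simpa using hv), ?_⟩
        rw [Projectivization.map_mk]
        simp⟩).trans C.φ.symm)

theorem φ_ptPerm (e : (Fin 3 → F) ≃ₗ[F] (Fin 3 → F)) (p : P) :
    C.φ (C.ptPerm e p) = Projectivization.map e.toLinearMap e.injective (C.φ p) := by
  simp only [ptPerm, Equiv.trans_apply, Equiv.apply_symm_apply]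
  rfl

/-- The action on planes of vectors. -/
def subPerm (e : (Fin 3 → F) ≃ₗ[F] (Fin 3 → F)) :
    Equiv.Perm {W : Submodule F (Fin 3 → F) // Module.finrank F W = 2} where
  toFun W := ⟨W.1.map e.toLinearMap, by rw [LinearEquiv.finrank_map_eq]; exact W.2⟩
  invFun W := ⟨W.1.map e.symm.toLinearMap, by rw [LinearEquiv.finrank_map_eq]; exact W.2⟩
  left_inv W := Subtype.ext (by
    show (W.1.map e.toLinearMap).map e.symm.toLinearMap = W.1
    rw [← Submodule.map_comp]; simp)
  right_inv W := Subtype.ext (by
    show (W.1.map e.symm.toLinearMap).map e.toLinearMap = W.1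
    rw [← Submodule.map_comp]; simp)

/-- The line permutation of a linear automorphism. -/
def lnPerm (e : (Fin 3 → F) ≃ₗ[F] (Fin 3 → F)) : Equiv.Perm L :=
  C.ω.trans ((subPerm e).trans C.ω.symm)

theorem ω_lnPerm (e : (Fin 3 → F) ≃ₗ[F] (Fin 3 → F)) (l : L) :
    (C.ω (C.lnPerm e l)).1 = (C.ω l).1.map e.toLinearMap := by
  simp [lnPerm, subPerm]

/-- The collineation of a linear automorphism. -/
noncomputable def coll (e : (Fin 3 → F) ≃ₗ[F] (Fin 3 → F)) : π.Aut :=
  ⟨(C.ptPerm e, C.lnPerm e), fun p l => by
    rw [C.incid, C.incid, C.φ_ptPerm, map_sub, C.ω_lnPerm,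
      Submodule.map_le_map_iff_of_injective e.injective]⟩

theorem φ_coll (e : (Fin 3 → F) ≃ₗ[F] (Fin 3 → F)) (p : P) :
    C.φ (C.coll e • p) = Projectivization.map e.toLinearMap e.injective (C.φ p) := C.φ_ptPerm e p

theorem ω_coll (e : (Fin 3 → F) ≃ₗ[F] (Fin 3 → F)) (l : L) :
    (C.ω (C.coll e • l)).1 = (C.ω l).1.map e.toLinearMap := C.ω_lnPerm e l

theorem coll_mul (e f : (Fin 3 → F) ≃ₗ[F] (Fin 3 → F)) : C.coll (e * f) = C.coll e * C.coll f := by
  refine inv_mul_eq_one.mp (Plane.eq_one_of_fix_points fun p => ?_)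
  rw [mul_smul, inv_smul_eq_iff, mul_smul]
  apply C.φ.injective
  rw [C.φ_coll, C.φ_coll, C.φ_coll]
  induction C.φ p using Projectivization.ind with
  | _ v hv => simp [Projectivization.map_mk]

/-- The collineation action of `SL₃`. -/
noncomputable def ψ : Matrix.SpecialLinearGroup (Fin 3) F →* π.Aut :=
  MonoidHom.mk' (fun g => C.coll (Matrix.SpecialLinearGroup.toLin' g))
    (fun g k => by rw [map_mul, C.coll_mul])

theorem φ_ψ (g : Matrix.SpecialLinearGroup (Fin 3) F) (p : P) {v : Fin 3 → F} (hv : v ≠ 0)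
    (hp : C.φ p = Projectivization.mk F v hv) :
    C.φ (C.ψ g • p) = Projectivization.mk F (Matrix.SpecialLinearGroup.toLin' g v)
      (by simpa using hv) := by
  show C.φ (C.coll _ • p) = _
  rw [C.φ_coll, hp, Projectivization.map_mk]
  rfl

theorem ψ_smul_line (g : Matrix.SpecialLinearGroup (Fin 3) F) (l : L) :
    (C.ω (C.ψ g • l)).1 = (C.ω l).1.map (Matrix.SpecialLinearGroup.toLin' g).toLinearMap :=
  C.ω_coll _ l

theorem ker_ψ : C.ψ.ker = Subgroup.center (Matrix.SpecialLinearGroup (Fin 3) F) := by
  ext g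
  rw [MonoidHom.mem_ker]
  constructor
  · intro hg
    have heig : ∀ v : Fin 3 → F, ∃ r : F, r • v = Matrix.toLin' g.1 v := by
      intro v
      rcases eq_or_ne v 0 with rfl | hv
      · exact ⟨0, by simp⟩
      have := C.φ_ψ g (C.φ.symm (Projectivization.mk F v hv)) hv (C.φ.apply_symm_apply _)
      rw [hg, one_smul, C.φ.apply_symm_apply, eq_comm, Projectivization.mk_eq_mk_iff'] at this
      obtain ⟨r, hr⟩ := this
      exact ⟨r, hr.trans (Matrix.SpecialLinearGroup.toLin'_apply g v)⟩
    choose r hr using fun i => heig (Pi.single i 1)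
    have hdiag : ∀ i j, g.1 j i = if i = j then r i else 0 := by
      intro i j
      have := congrFun (hr i) j
      simp [Matrix.toLin'_apply, Pi.single_apply, eq_comm] at this
      rw [← this]
    have heq : ∀ i j, r i = r j := by
      intro i j
      rcases eq_or_ne i j with rfl | hij
      · rfl
      obtain ⟨s, hs⟩ := heig (Pi.single i 1 + Pi.single j 1)
      rw [map_add, ← hr i, ← hr j] at hs
      have h1 := congrFun hs i
      have h2 := congrFun hs j
      simp [Ne.symm hij, hij] at h1 h2
      rw [← h1, ← h2]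
    refine Matrix.SpecialLinearGroup.mem_center_iff.mpr ⟨r 0, ?_, ?_⟩
    · have hd : g.1 = Matrix.diagonal fun _ => r 0 := by
        ext a b
        rw [hdiag b a, Matrix.diagonal_apply, heq b 0]
        simp [eq_comm]
      have := g.2
      rw [hd, Matrix.det_diagonal, Finset.prod_const, Finset.card_univ] at this
      exact this
    · ext a b
      show Matrix.scalar (Fin 3) (r 0) a b = g.1 a b
      rw [hdiag b a, Matrix.scalar_apply, Matrix.diagonal_apply, heq b 0]
      simp [eq_comm]
  · intro hg
    obtain ⟨c, -, hc⟩ := Matrix.SpecialLinearGroup.mem_center_iff.mp hg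
    refine Plane.eq_one_of_fix_points fun p => C.φ.injective ?_
    induction hp : C.φ p using Projectivization.ind with
    | _ v hv =>
      rw [C.φ_ψ g p hv hp, Projectivization.mk_eq_mk_iff']
      refine ⟨c, ?_⟩
      rw [Matrix.SpecialLinearGroup.toLin'_apply, Matrix.toLin'_apply, ← hc, Matrix.scalar_apply,
        ← Matrix.smul_one_eq_diagonal, Matrix.smul_mulVec, Matrix.one_mulVec]

/-- The transvection `v ↦ v + c (k · v) a`. -/
def tv (k a : Fin 3 → F) (h : dotL k a = 0) (c : F) : Matrix.SpecialLinearGroup (Fin 3) F :=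
  ⟨1 + Matrix.replicateCol Unit (c • a) * Matrix.replicateRow Unit k, by
    rw [Matrix.det_one_add_replicateCol_mul_replicateRow]
    have h' : k 0 * a 0 + k 1 * a 1 + k 2 * a 2 = 0 := h
    simp only [dotProduct, Fin.sum_univ_three, Pi.smul_apply, smul_eq_mul]
    linear_combination c * h'⟩

theorem tv_apply (k a : Fin 3 → F) (h : dotL k a = 0) (c : F) (v : Fin 3 → F) :
    Matrix.SpecialLinearGroup.toLin' (tv k a h c) v = v + (c * dotL k v) • a := by
  rw [Matrix.SpecialLinearGroup.toLin'_apply, Matrix.toLin'_apply]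
  funext i
  simp [tv, Matrix.mulVec, dotProduct, Fin.sum_univ_three, Matrix.mul_apply, Matrix.one_apply,
    dotL_apply]
  fin_cases i <;> simp <;> ring

theorem tv_mem {X : P} {m : L} {a k : Fin 3 → F} (h : dotL k a = 0) (ha : a ≠ 0)
    (hX : C.φ X = Projectivization.mk F a ha) (hm : (C.ω m).1 = LinearMap.ker (dotL k)) (c : F) :
    C.ψ (tv k a h c) ∈ π.elFlag X m := by
  refine Plane.mem_elFlag.mpr ⟨fun l hl => ?_, fun p hp => ?_⟩
  · have haW : a ∈ (C.ω l).1 := by
      have := (C.incid X l).mp hl
      rwa [hX, Projectivization.submodule_mk, Submodule.span_singleton_le_iff_mem] at this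
    apply C.ω.injective
    apply Subtype.ext
    rw [C.ψ_smul_line]
    refine Submodule.eq_of_le_of_finrank_le ?_ ?_
    · rintro _ ⟨v, hv, rfl⟩
      show Matrix.SpecialLinearGroup.toLin' (tv k a h c) v ∈ _
      rw [tv_apply]
      exact add_mem hv (Submodule.smul_mem _ _ haW)
    · rw [LinearEquiv.finrank_map_eq]
  · apply C.φ.injective
    induction hp' : C.φ p using Projectivization.ind with
    | _ v hv =>
      have hvW : dotL k v = 0 := by
        have := (C.incid p m).mp hp
        rw [hp', hm, Projectivization.submodule_mk, Submodule.span_singleton_le_iff_mem] at this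
        exact LinearMap.mem_ker.mp this
      rw [C.φ_ψ _ p hv hp', Projectivization.mk_eq_mk_iff']
      exact ⟨1, by rw [tv_apply, hvW, mul_zero, zero_smul, add_zero, one_smul]⟩

theorem exists_functional (W : Submodule F (Fin 3 → F)) (hW : Module.finrank F W = 2) :
    ∃ k : Fin 3 → F, k ≠ 0 ∧ W = LinearMap.ker (dotL k) := by
  obtain ⟨v, hv⟩ : ∃ v, v ∉ W := by
    by_contra hall
    push Not at hall
    have : W = ⊤ := eq_top_iff.mpr fun v _ => hall v
    rw [this, finrank_top, Module.finrank_fin_fun] at hW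
    omega
  obtain ⟨f, hfv, hf⟩ := Submodule.exists_dual_map_eq_bot_of_notMem hv inferInstance
  let k : Fin 3 → F := fun i => f (Pi.single i 1)
  have hfk : ∀ w, f w = dotL k w := by
    intro w
    conv_lhs => rw [pi_eq_sum_univ' w]
    simp [dotL_apply, Fin.sum_univ_three, k]
    ring
  refine ⟨k, fun hk => hfv (by rw [hfk, hk]; simp [dotL_apply]), ?_⟩
  refine Submodule.eq_of_le_of_finrank_le (fun w hw => ?_) ?_
  · rw [LinearMap.mem_ker, ← hfk]
    have : f w ∈ W.map f := Submodule.mem_map_of_mem hw
    rwa [hf, Submodule.mem_bot] at this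
  · rw [hW, finrank_ker_dotL fun hk => hfv (by rw [hfk, hk]; simp [dotL_apply])]

theorem tv_ψ_injective {a k : Fin 3 → F} (h : dotL k a = 0) (ha : a ≠ 0) (hk : k ≠ 0) :
    Function.Injective fun c => C.ψ (tv k a h c) := by
  intro c d e
  obtain ⟨w, hw⟩ : ∃ w, dotL k w ≠ 0 := by
    by_contra hall
    push Not at hall
    apply hk
    funext i
    have := hall (Pi.single i 1)
    fin_cases i <;> simpa [dotL_apply] using this
  have hw0 : w ≠ 0 := fun e => hw (by rw [e, map_zero])
  have h1 := C.φ_ψ (tv k a h c) (C.φ.symm (Projectivization.mk F w hw0)) hw0 (C.φ.apply_symm_apply _)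
  have h2 := C.φ_ψ (tv k a h d) (C.φ.symm (Projectivization.mk F w hw0)) hw0 (C.φ.apply_symm_apply _)
  rw [show C.ψ (tv k a h c) = C.ψ (tv k a h d) from e, h2, Projectivization.mk_eq_mk_iff'] at h1
  obtain ⟨r, hr⟩ := h1
  rw [tv_apply, tv_apply] at hr
  have hh := congrArg (dotL k) hr
  simp only [map_smul, map_add, h, smul_eq_mul, mul_zero, add_zero] at hh
  have hr1 : r = 1 := mul_right_cancel₀ hw (by rw [hh, one_mul])
  rw [hr1, one_smul, add_right_inj] at hr
  first
    | exact mul_right_cancel₀ hw (smul_left_injective F ha hr)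
    | exact (mul_right_cancel₀ hw (smul_left_injective F ha hr)).symm

theorem card_F [Finite F] (C : ProjCoords π F) : Nat.card F = π.n := by
  have h1 := Projectivization.card F (Fin 3 → F)
  rw [← Nat.card_congr C.φ, π.card_P, Nat.card_fun, Nat.card_fin] at h1
  have h2 : 2 ≤ Nat.card F := Finite.one_lt_card
  obtain ⟨Q, hQ⟩ : ∃ Q, Nat.card F = Q + 2 := ⟨Nat.card F - 2, by omega⟩
  rw [hQ] at h1 ⊢
  have h3 : (Q + 2) ^ 3 = ((Q + 2) * (Q + 2) + (Q + 2) + 1) * (Q + 1) + 1 := by ring
  rw [h3, Nat.add_sub_cancel, show Q + 2 - 1 = Q + 1 by omega] at h1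
  have h4 := Nat.eq_of_mul_eq_mul_right (by omega) h1
  nlinarith

variable [Finite F]

theorem range_ψ (h2t : Plane.TwoTrans π) :
    C.ψ.range = ⨆ s : {s : P × L // π.I s.1 s.2}, π.elFlag s.1.1 s.1.2 := by
  apply le_antisymm
  · rintro _ ⟨g, rfl⟩
    induction g using Linear.transvection_induction with
    | one => rw [map_one]; exact one_mem _
    | hmul A B hA hB => rw [map_mul]; exact mul_mem hA hB
    | htr i j hij c =>
      let a : Fin 3 → F := Pi.single i 1
      let k : Fin 3 → F := Pi.single j 1
      have hak : dotL k a = 0 := by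
        fin_cases i <;> fin_cases j <;> simp_all [dotL_apply, a, k]
      have ha : a ≠ 0 := Pi.single_ne_zero_iff.mpr one_ne_zero
      have hk : k ≠ 0 := Pi.single_ne_zero_iff.mpr one_ne_zero
      let X : P := C.φ.symm (Projectivization.mk F a ha)
      let m : L := C.ω.symm ⟨LinearMap.ker (dotL k), finrank_ker_dotL hk⟩
      have hX : C.φ X = Projectivization.mk F a ha := C.φ.apply_symm_apply _
      have hm : (C.ω m).1 = LinearMap.ker (dotL k) := by simp [m]
      have hI : π.I X m := by
        rw [C.incid, hX, hm, Projectivization.submodule_mk, Submodule.span_singleton_le_iff_mem]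
        exact LinearMap.mem_ker.mpr hak
      have heq : Matrix.SpecialLinearGroup.transvection hij c = tv k a hak c := by
        ext r s
        simp [tv, Matrix.SpecialLinearGroup.transvection_coe, Matrix.transvection, Matrix.mul_apply,
          Matrix.single, a, k, Pi.single_apply]
        fin_cases i <;> fin_cases j <;> fin_cases r <;> fin_cases s <;> simp_all
      rw [heq]
      exact le_iSup (fun s : {s : P × L // π.I s.1 s.2} => π.elFlag s.1.1 s.1.2) ⟨(X, m), hI⟩
        (C.tv_mem hak ha hX hm c)
  · refine iSup_le fun s => ?_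
    obtain ⟨⟨X, m⟩, hI⟩ := s
    induction hX : C.φ X using Projectivization.ind with
    | _ a ha =>
      obtain ⟨k, hk, hm⟩ := exists_functional _ (C.ω m).2
      have hak : dotL k a = 0 := by
        have := (C.incid X m).mp hI
        rw [hX, hm, Projectivization.submodule_mk, Submodule.span_singleton_le_iff_mem] at this
        exact LinearMap.mem_ker.mp this
      let f : F → π.elFlag X m := fun c => ⟨C.ψ (tv k a hak c), C.tv_mem hak ha hX hm c⟩
      have hf : Function.Bijective f := by
        refine (Nat.bijective_iff_injective_and_card f).mpr ⟨fun c d e => ?_, ?_⟩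
        · exact C.tv_ψ_injective hak ha hk (Subtype.ext_iff.mp e)
        · rw [C.card_F, Plane.card_elFlag h2t hI]
      intro x hx
      obtain ⟨c, hc⟩ := hf.2 ⟨x, hx⟩
      exact ⟨_, Subtype.ext_iff.mp hc⟩

end ProjCoords

end Cfsg.Agent.H26.LThree
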