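import Cfsg.Agent.H26.LThree.Incidence
import Cfsg.Agent.H26.LThree.ProjAut
import Cfsg.Agent.H27.PermFamily

/-!
# The hexagon configuration recognises `PSL₃(q)`
-/

set_option autoImplicit false
set_option linter.unusedSectionVars false
set_option linter.style.haveILetI false

open Subgroup
open scoped Pointwise
open Cfsg.Agent.H29.OW

namespace Cfsg.Agent.H26.LThree

variable {G : Type*} [Group G] [Finite G] [IsSimpleGroup G]

namespace Hex

variable (h : Hex G)

theorem map_X : h.X.map h.toAut = h.plane.elFlag h.p₀ h.l₀ := by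
  have hle : h.X.map h.toAut ≤ h.plane.elFlag h.p₀ h.l₀ := by
    rintro _ ⟨x, hx, rfl⟩
    refine Plane.mem_elFlag.mpr ⟨fun l hl => ?_, fun p hp => ?_⟩
    · obtain ⟨g, hg0, rfl⟩ := hl
      obtain ⟨e, he, c, hc, rfl⟩ := exists_mul_of_sup h.norm_E₁ ((h.smul_p₀ g).mp hg0)
      have he1 : e⁻¹ * x * e ∈ h.X ⊔ h.Y :=
        mul_mem (mul_mem (inv_mem he) (mem_sup_left hx)) he
      have he2 := inv_conj_mem_of_mem_normalizer (h.norm_E₁ hc) he1
      have hk : (e * c)⁻¹ * x * (e * c) ∈ h.P₂ := by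
        rw [show (e * c)⁻¹ * x * (e * c) = c⁻¹ * (e⁻¹ * x * e) * c by group]
        exact (sup_le h.X_le₂ h.Y_le₂) he2
      rw [h.toAut_smul_ln, ← mul_smul,
        show x * (e * c) = (e * c) * ((e * c)⁻¹ * x * (e * c)) by group, mul_smul,
        (h.smul_l₀ _).mpr hk]
    · rw [h.toAut_smul_pt]
      rcases h.on_l₀ hp with rfl | ⟨y, hy, rfl⟩
      · exact (h.smul_p₀ x).mpr (h.X_le₁ hx)
      · rw [← mul_smul, h.comm_XY x hx y hy, mul_smul, h.B_fix (mem_sup_left (mem_sup_left hx))]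
  refine eq_of_le_of_card_ge hle ?_
  rw [Plane.card_elFlag h.twoTrans (show h.plane.I h.p₀ h.l₀ from h.I_base)]
  rw [Nat.card_congr (h.X.equivMapOfInjective h.toAut h.toAut_injective).symm.toEquiv, h.card_X]
  rfl

theorem range_toAut :
    h.toAut.range = ⨆ s : {s : h.Pt × h.Ln // h.plane.I s.1 s.2},
      h.plane.elFlag s.1.1 s.1.2 := by
  apply le_antisymm
  · have htop : normalClosure (h.X : Set G) = ⊤ := by
      refine (normalClosure_normal.eq_bot_or_eq_top).resolve_left fun e => ?_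
      have hX : h.X = ⊥ := le_bot_iff.mp (e ▸ subset_normalClosure)
      have := h.card_X
      rw [hX, Subgroup.card_bot] at this
      have := h.hq
      omega
    rw [MonoidHom.range_eq_map, ← htop, normalClosure, MonoidHom.map_closure, closure_le]
    rintro _ ⟨z, hz, rfl⟩
    obtain ⟨x, hx, hzx⟩ := Group.mem_conjugatesOfSet_iff.mp hz
    obtain ⟨g, rfl⟩ := isConj_iff.mp hzx
    have hel : h.toAut x ∈ h.plane.elFlag h.p₀ h.l₀ := h.map_X ▸ ⟨x, hx, rfl⟩
    obtain ⟨hc, ha⟩ := Plane.mem_elFlag.mp hel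
    refine le_iSup (fun s : {s : h.Pt × h.Ln // h.plane.I s.1 s.2} => h.plane.elFlag s.1.1 s.1.2)
      ⟨(g • h.p₀, g • h.l₀), h.I_smul g h.I_base⟩ ?_
    rw [map_mul, map_mul, map_inv]
    exact Plane.mem_elFlag.mpr ⟨hc.conj (h.toAut g), ha.conj (h.toAut g)⟩
  · refine iSup_le fun s => ?_
    obtain ⟨⟨X, m⟩, hI⟩ := s
    intro x hx
    obtain ⟨g, h0, h1⟩ := hI
    simp only at h0 h1
    subst h0 h1
    obtain ⟨hc, ha⟩ := Plane.mem_elFlag.mp hx
    have h1 : (h.toAut g)⁻¹ * x * h.toAut g ∈ h.plane.elFlag h.p₀ h.l₀ := by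
      refine Plane.mem_elFlag.mpr ⟨?_, ?_⟩
      · have := hc.conj (h.toAut g)⁻¹
        rwa [inv_inv, show (h.toAut g)⁻¹ • g • h.p₀ = h.p₀ by
          rw [← h.toAut_smul_pt, inv_smul_smul]] at this
      · have := ha.conj (h.toAut g)⁻¹
        rwa [inv_inv, show (h.toAut g)⁻¹ • g • h.l₀ = h.l₀ by
          rw [← h.toAut_smul_ln, inv_smul_smul]] at this
    rw [← h.map_X] at h1
    obtain ⟨x₀, -, hx₀⟩ := h1
    exact ⟨g * x₀ * g⁻¹, by rw [map_mul, map_mul, map_inv, hx₀]; group⟩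

/-- The hexagon configuration recognises `PSL₃(q)`. -/
theorem recognition {F : Type*} [Field F] [Fintype F] (hF : Fintype.card F = h.q) :
    Nonempty (G ≃* Matrix.ProjectiveSpecialLinearGroup (Fin 3) F) := by
  obtain ⟨F', _, _, C, hC⟩ := Plane.exists_field_coords (Plane.isMoufang_of_twoTrans h.twoTrans)
  obtain ⟨φ, h1, h2⟩ := C.exists_proj hC
  obtain ⟨K⟩ := exists_projCoords φ h1 h2
  have hrange : h.toAut.range = K.ψ.range := by rw [h.range_toAut, K.range_ψ h.twoTrans]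
  have hcard : Fintype.card F' = Fintype.card F := by
    rw [hF, ← Nat.card_eq_fintype_card]
    exact K.card_F
  let e₁ : G ≃* h.toAut.range := MonoidHom.ofInjective h.toAut_injective
  let e₂ : K.ψ.range ≃* Matrix.ProjectiveSpecialLinearGroup (Fin 3) F' :=
    (QuotientGroup.quotientKerEquivRange K.ψ).symm.trans
      (QuotientGroup.quotientMulEquivOfEq K.ker_ψ)
  exact ⟨(e₁.trans (MulEquiv.subgroupCongr hrange)).trans
    (e₂.trans (H27.PermFamily.pslCongr (FiniteField.ringEquivOfCardEq hcard)))⟩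

end Hex

end Cfsg.Agent.H26.LThree
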