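import Cfsg.Agent.H26.LThree.Frame
import Cfsg.Agent.H26.LThree.Recognition
import Mathlib.GroupTheory.FixedPointFree

/-!
# The hexagon shape in the setting of S0484 gives `PSL₃`
-/

set_option autoImplicit false
set_option linter.unusedSectionVars false
set_option linter.style.haveILetI false

namespace Cfsg.Agent.H26.LThree

open Cfsg.Agent.H35.Semi

universe u v

variable {G : Type u} [Group G] [Finite G] {F : Type v} [Field F] [Finite F] {t : G}

/-- The root group of `u` next to `X`. -/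
noncomputable def rY (S : Setting G F t) : Subgroup G :=
  S.X.map (MulAut.conj (ra S)).toMonoidHom

/-- The root group of `t u` next to `X`. -/
noncomputable def rA (S : Setting G F t) : Subgroup G :=
  S.X.map (MulAut.conj (rb S)).toMonoidHom

/-- The hexagon shape. -/
def HexShape (S : Setting G F t) : Prop :=
  (∀ x ∈ S.X, ∀ y ∈ S.X, Commute x (ra S * y * (ra S)⁻¹)) ∧
  (∀ x ∈ S.X, ∀ y ∈ S.X, Commute x (rb S * y * (rb S)⁻¹)) ∧
  ∃ P : Subgroup G, P ≤ Subgroup.centralizer (S.X : Set G) ∧ Odd (Nat.card P) ∧ S.X ≤ P ∧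
    rY S ≤ P ∧ rA S ≤ P ∧ (∀ g ∈ P, Commute g t → g ∈ S.X) ∧ ∀ g ∈ P, t * g * t⁻¹ ∈ P

variable (S : Setting G F t)

theorem mem_rY {y : G} : y ∈ rY S ↔ ∃ x ∈ S.X, ra S * x * (ra S)⁻¹ = y := Iff.rfl

theorem mem_rA {y : G} : y ∈ rA S ↔ ∃ x ∈ S.X, rb S * x * (rb S)⁻¹ = y := Iff.rfl

theorem ra_mem_centralizer_tu : Commute (ra S) (t * S.u) := commute_of_conj (ra_tu S)

theorem rb_mem_centralizer_u : Commute (rb S) S.u := commute_of_conj (rb_u S)

theorem D_norm_map {r : G} (hr : r * r = 1) (hrD : ∀ d ∈ S.D, r * d * r⁻¹ ∈ S.D) :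
    S.D ≤ Subgroup.normalizer ((S.X.map (MulAut.conj r).toMonoidHom : Subgroup G) : Set G) := by
  have hr' : r⁻¹ = r := inv_eq_of_mul_eq_one_right hr
  have key : ∀ d ∈ S.D, ∀ z ∈ S.X.map (MulAut.conj r).toMonoidHom,
      d * z * d⁻¹ ∈ S.X.map (MulAut.conj r).toMonoidHom := by
    rintro d hd _ ⟨x, hx, rfl⟩
    have hd' : r⁻¹ * d * r ∈ S.D := by
      have := hrD d hd
      rwa [hr'] at this ⊢
    refine ⟨(r⁻¹ * d * r) * x * (r⁻¹ * d * r)⁻¹, D_normalizes_X S hd' hx, ?_⟩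
    show r * ((r⁻¹ * d * r) * x * (r⁻¹ * d * r)⁻¹) * r⁻¹ = d * (r * x * r⁻¹) * d⁻¹
    group
  intro d hd
  refine Subgroup.mem_normalizer_iff.mpr fun z => ⟨key d hd z, fun hz => ?_⟩
  have := key d⁻¹ (inv_mem hd) _ hz
  rwa [inv_inv, show d⁻¹ * (d * z * d⁻¹) * d = z by group] at this

theorem D_norm_X : S.D ≤ Subgroup.normalizer (S.X : Set G) := by
  intro d hd
  refine Subgroup.mem_normalizer_iff.mpr fun z => ⟨D_normalizes_X S hd, fun hz => ?_⟩
  have := D_normalizes_X S (inv_mem hd) hz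
  rwa [inv_inv, show d⁻¹ * (d * z * d⁻¹) * d = z by group] at this

theorem card_map {r : G} : Nat.card ↥(S.X.map (MulAut.conj r).toMonoidHom) = Nat.card F := by
  rw [← Nat.card_congr (S.X.equivMapOfInjective (MulAut.conj r).toMonoidHom
    (MulAut.conj r).injective).toEquiv, S.card_X]

theorem comm_shape {R : G} (hR : ∀ x ∈ S.X, ∀ y ∈ S.X, Commute x (R * y * R⁻¹)) :
    ∀ x ∈ S.X, ∀ y ∈ S.X.map (MulAut.conj R).toMonoidHom, x * y = y * x := by
  rintro x hx _ ⟨y, hy, rfl⟩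
  exact hR x hx y hy

/-- The two outer root groups commute modulo `X`. -/
theorem commutator_mem (h : HexShape S) {a y : G} (ha : a ∈ rA S) (hy : y ∈ rY S) :
    a * y * a⁻¹ * y⁻¹ ∈ S.X := by
  obtain ⟨-, -, P, hPC, hPo, hXP, hYP, hAP, hPt, htP⟩ := h
  haveI : (S.X.subgroupOf P).Normal := ⟨fun x hx g => by
    rw [Subgroup.mem_subgroupOf] at hx ⊢
    have hc : (x : G) * g = g * x := Subgroup.mem_centralizer_iff.mp (hPC g.2) x hx
    push_cast
    rw [show (g : G) * x * (g : G)⁻¹ = x by rw [← hc, mul_inv_cancel_right]]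
    exact hx⟩
  have htt := S.mul_self
  let τ : MulAut P :=
    { toFun := fun g => ⟨t * g * t⁻¹, htP g g.2⟩
      invFun := fun g => ⟨t⁻¹ * g * t, by
        have := htP g g.2
        rwa [inv_eq_of_mul_eq_one_right htt] at this ⊢⟩
      left_inv := fun g => Subtype.ext (by simp [mul_assoc])
      right_inv := fun g => Subtype.ext (by simp [mul_assoc])
      map_mul' := fun g k => Subtype.ext (by push_cast; group) }
  have hτX : S.X.subgroupOf P ≤ (S.X.subgroupOf P).comap τ.toMonoidHom := by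
    intro x hx
    rw [Subgroup.mem_comap, Subgroup.mem_subgroupOf]
    rw [Subgroup.mem_subgroupOf] at hx
    show t * (x : G) * t⁻¹ ∈ S.X
    rwa [← (X_commute_t S hx).eq, mul_inv_cancel_right]
  let φ : P ⧸ S.X.subgroupOf P →* P ⧸ S.X.subgroupOf P := QuotientGroup.map _ _ τ.toMonoidHom hτX
  have hfpf : MonoidHom.FixedPointFree φ := by
    intro q hq
    induction q using QuotientGroup.induction_on with
    | H g =>
      have h1 : g⁻¹ * τ g ∈ S.X.subgroupOf P := QuotientGroup.eq.mp hq.symm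
      rw [Subgroup.mem_subgroupOf] at h1
      set x : G := ((g⁻¹ * τ g : P) : G) with hx
      have hxe : x = (g : G)⁻¹ * (t * g * t⁻¹) := rfl
      have h2 : t * x * t⁻¹ = x⁻¹ := by
        rw [hxe, inv_eq_of_mul_eq_one_right htt]
        calc t * ((g : G)⁻¹ * (t * g * t)) * t = (t * (g : G)⁻¹ * t) * g * (t * t) := by group
          _ = (t * (g : G)⁻¹ * t) * g := by rw [htt, mul_one]
          _ = ((g : G)⁻¹ * (t * g * t))⁻¹ := by
            rw [mul_inv_rev, mul_inv_rev, mul_inv_rev, inv_eq_of_mul_eq_one_right htt, inv_inv]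
            group
      have hx1 : x = 1 := by
        refine eq_one_of_inverted (S := S.X) (by rw [S.card_X]; exact S.odd) h1 h2 ?_
        exact (X_commute_t S h1).eq.symm
      have hgt : Commute (g : G) t := by
        rw [hxe, inv_mul_eq_one] at hx1
        exact (mul_inv_eq_iff_eq_mul.mp hx1.symm).symm
      exact (QuotientGroup.eq_one_iff g).mpr (Subgroup.mem_subgroupOf.mpr (hPt g g.2 hgt))
  have hinv : Function.Involutive φ := by
    intro q
    induction q using QuotientGroup.induction_on with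
    | H g =>
      show (QuotientGroup.mk (τ (τ g)) : P ⧸ S.X.subgroupOf P) = QuotientGroup.mk g
      congr 1
      apply Subtype.ext
      show t * (t * g * t⁻¹) * t⁻¹ = (g : G)
      rw [show t * (t * (g : G) * t⁻¹) * t⁻¹ = (t * t) * g * (t * t)⁻¹ by group, htt]
      group
  have hc := hfpf.commute_all_of_involutive hinv (QuotientGroup.mk ⟨a, hAP ha⟩)
    (QuotientGroup.mk ⟨y, hYP hy⟩)
  have h1 : (QuotientGroup.mk (⟨a, hAP ha⟩ * ⟨y, hYP hy⟩ * (⟨a, hAP ha⟩ : P)⁻¹ *
      (⟨y, hYP hy⟩ : P)⁻¹) : P ⧸ S.X.subgroupOf P) = 1 := by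
    rw [QuotientGroup.mk_mul, QuotientGroup.mk_mul, QuotientGroup.mk_mul, QuotientGroup.mk_inv,
      QuotientGroup.mk_inv, hc.eq]
    group
  exact Subgroup.mem_subgroupOf.mp ((QuotientGroup.eq_one_iff _).mp h1)

theorem norm_side {r : G} (hr : r * r = 1) {Y A : Subgroup G}
    (hYd : Y = S.X.map (MulAut.conj r).toMonoidHom)
    (hA : ∀ a ∈ A, (∀ x ∈ S.X, a * x = x * a) ∧ ∀ y ∈ Y, a * y * a⁻¹ * y⁻¹ ∈ S.X)
    (hrD : ∀ d ∈ S.D, r * d * r⁻¹ ∈ S.D) {g : G}
    (hg : g ∈ A ⊔ S.D ∨ ∃ c ∈ A ⊔ S.D, ∃ d ∈ A ⊔ S.D, g = c * r * d) :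
    g ∈ Subgroup.normalizer ((S.X ⊔ Y : Subgroup G) : Set G) := by
  set E := S.X ⊔ Y with hE
  have hle : A ⊔ S.D ≤ Subgroup.normalizer (E : Set G) := by
    refine sup_le (fun a ha => ?_) ?_
    · refine Subgroup.mem_normalizer_iff_map_conj_eq.mpr (Subgroup.eq_of_le_of_card_ge ?_ (le_of_eq ?_))
      · rw [hE, Subgroup.map_sup]
        refine sup_le ?_ ?_
        · rintro _ ⟨x, hx, rfl⟩
          refine Subgroup.mem_sup_left ?_
          show a * x * a⁻¹ ∈ S.X
          rwa [(hA a ha).1 x hx, mul_inv_cancel_right]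
        · rintro _ ⟨y, hy, rfl⟩
          show a * y * a⁻¹ ∈ S.X ⊔ Y
          have := mul_mem (Subgroup.mem_sup_left (T := Y) ((hA a ha).2 y hy))
            (Subgroup.mem_sup_right (S := S.X) hy)
          rwa [inv_mul_cancel_right] at this
      · exact Nat.card_congr (E.equivMapOfInjective (MulAut.conj a).toMonoidHom
          (MulAut.conj a).injective).toEquiv
    · intro d hd
      have h1 := Subgroup.mem_normalizer_iff_map_conj_eq.mp (D_norm_X S hd)
      have h2 := Subgroup.mem_normalizer_iff_map_conj_eq.mp (hYd ▸ D_norm_map S hr hrD hd :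
        d ∈ Subgroup.normalizer (Y : Set G))
      rw [Subgroup.mem_normalizer_iff_map_conj_eq, hE, Subgroup.map_sup, h1, h2]
  have hrN : r ∈ Subgroup.normalizer (E : Set G) := by
    refine Subgroup.mem_normalizer_iff_map_conj_eq.mpr (Subgroup.eq_of_le_of_card_ge ?_ (le_of_eq ?_))
    · rw [hE, Subgroup.map_sup]
      refine sup_le ?_ ?_
      · exact (le_of_eq hYd.symm).trans le_sup_right
      · rw [hYd]
        rintro _ ⟨_, ⟨x, hx, rfl⟩, rfl⟩
        refine Subgroup.mem_sup_left ?_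
        show r * (r * x * r⁻¹) * r⁻¹ ∈ S.X
        rwa [show r * (r * x * r⁻¹) * r⁻¹ = (r * r) * x * (r * r)⁻¹ by group, hr, one_mul, inv_one,
          mul_one]
    · exact Nat.card_congr (E.equivMapOfInjective (MulAut.conj r).toMonoidHom
        (MulAut.conj r).injective).toEquiv
  rcases hg with h | ⟨c, hc, d, hd, rfl⟩
  · exact hle h
  · exact mul_mem (mul_mem (hle hc) hrN) (hle hd)

/-- The decomposition of the centraliser of a conjugate of `t`. -/
theorem bruhat_conj {k z r : G} (hz : k * t * k⁻¹ = z) (hkD : ∀ d ∈ S.D, k * d * k⁻¹ ∈ S.D)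
    (hr : ∃ e ∈ S.D, k * sw S * k⁻¹ = r * e) {g : G} (hg : Commute g z) :
    g ∈ S.X.map (MulAut.conj k).toMonoidHom ⊔ S.D ∨
    ∃ c ∈ S.X.map (MulAut.conj k).toMonoidHom ⊔ S.D,
      ∃ d ∈ S.X.map (MulAut.conj k).toMonoidHom ⊔ S.D, g = c * r * d := by
  have hg' : Commute (k⁻¹ * g * k) t := by
    have := hg.map (MulAut.conj k⁻¹)
    simp only [MulAut.conj_apply, inv_inv, ← hz] at this
    rwa [show k⁻¹ * (k * t * k⁻¹) * k = t by group] at this
  have hle : ∀ c ∈ S.X ⊔ S.D, k * c * k⁻¹ ∈ S.X.map (MulAut.conj k).toMonoidHom ⊔ S.D := by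
    intro c hc
    have h1 : (S.X ⊔ S.D).map (MulAut.conj k).toMonoidHom ≤
        S.X.map (MulAut.conj k).toMonoidHom ⊔ S.D := by
      rw [Subgroup.map_sup]
      exact sup_le_sup le_rfl (by rintro _ ⟨d, hd, rfl⟩; exact hkD d hd)
    exact h1 ⟨c, hc, rfl⟩
  rcases bruhat_t S hg' with h | ⟨c, hc, d, hd, he⟩
  · left
    have := hle _ h
    rwa [show k * (k⁻¹ * g * k) * k⁻¹ = g by group] at this
  · right
    obtain ⟨e, heD, hre⟩ := hr
    refine ⟨_, hle c hc, e * (k * d * k⁻¹), mul_mem (Subgroup.mem_sup_right heD) (hle d hd), ?_⟩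
    calc g = k * (k⁻¹ * g * k) * k⁻¹ := by group
      _ = k * c * k⁻¹ * (k * sw S * k⁻¹) * (k * d * k⁻¹) := by rw [he]; group
      _ = _ := by rw [hre]; group

theorem card_conj {k z : G} (hz : k * t * k⁻¹ = z) :
    Nat.card ↥(Subgroup.centralizer ({z} : Set G)) =
      Nat.card F * (Nat.card F + 1) * Nat.card S.D := by
  rw [← card_centralizer S]
  refine Nat.card_congr ((MulAut.conj k⁻¹).toEquiv.subtypeEquiv fun g => ?_)
  rw [Subgroup.mem_centralizer_singleton_iff, Subgroup.mem_centralizer_singleton_iff, ← hz]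
  show g * _ = _ ↔ k⁻¹ * g * k⁻¹⁻¹ * t = t * (k⁻¹ * g * k⁻¹⁻¹)
  rw [inv_inv]
  constructor <;> intro h
  · calc k⁻¹ * g * k * t = k⁻¹ * (g * (k * t * k⁻¹)) * k := by group
      _ = _ := by rw [h]; group
  · calc g * (k * t * k⁻¹) = k * (k⁻¹ * g * k * t) * k⁻¹ := by group
      _ = _ := by rw [h]; group

theorem braid_mem : (ra S * rb S * ra S)⁻¹ * (rb S * ra S * rb S) ∈ S.D := by
  set w₁ := ra S * rb S * ra S with hw1
  set w₂ := rb S * ra S * rb S with hw2
  have hwi : w₁⁻¹ = w₁ := by rw [hw1, mul_inv_rev, mul_inv_rev, ra_inv, rb_inv, mul_assoc]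
  have c2 : ∀ z, w₂ * z * w₂⁻¹ = rb S * (ra S * (rb S * z * (rb S)⁻¹) * (ra S)⁻¹) * (rb S)⁻¹ :=
    fun z => by rw [hw2]; group
  have c1 : ∀ z, w₁ * z * w₁⁻¹ = ra S * (rb S * (ra S * z * (ra S)⁻¹) * (rb S)⁻¹) * (ra S)⁻¹ :=
    fun z => by rw [hw1]; group
  refine mem_D_of_conj S ?_ ?_
  · rw [hwi, show w₁ * w₂ * t * (w₁ * w₂)⁻¹ = w₁ * (w₂ * t * w₂⁻¹) * w₁⁻¹ by group, c2, rb_t,
      ra_tu, rb_tu, c1, ra_t, rb_u, ra_u]
  · rw [hwi, show w₁ * w₂ * S.u * (w₁ * w₂)⁻¹ = w₁ * (w₂ * S.u * w₂⁻¹) * w₁⁻¹ by group, c2, rb_u,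
      ra_u, rb_t, c1, ra_tu, rb_tu, ra_t]

theorem D_comm_tu {d : G} (hd : d ∈ S.D) : Commute d (t * S.u) :=
  (S.mem_D_iff.mp hd).1.mul_right (S.mem_D_iff.mp hd).2

theorem ra_sw : ∃ e ∈ S.D, ra S * sw S * (ra S)⁻¹ = rb S * e := by
  refine ⟨(rb S)⁻¹ * (ra S * sw S * (ra S)⁻¹), ?_, by group⟩
  set w := (rb S)⁻¹ * (ra S * sw S * (ra S)⁻¹) with hw
  have c : ∀ z, w * z * w⁻¹ =
      rb S * (ra S * (sw S * (ra S * z * (ra S)⁻¹) * (sw S)⁻¹) * (ra S)⁻¹) * (rb S)⁻¹ := fun z => by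
    simp only [hw, mul_inv_rev, inv_inv, rb_inv, ra_inv, sw_inv, mul_assoc]
  refine mem_D_of_conj S ?_ ?_
  · rw [c, ra_t, show sw S * S.u * (sw S)⁻¹ = t * S.u from S.swap_conj_u, ra_tu, rb_tu]
  · rw [c, ra_u, sw_t, ra_t, rb_u]

theorem rb_sw : ∃ e ∈ S.D, rb S * sw S * (rb S)⁻¹ = ra S * e :=
  ⟨1, one_mem _, by rw [mul_one]; rfl⟩

/-- The hexagon configuration of a setting of hexagon shape. -/
noncomputable def hexOf (h : HexShape S) : Hex G where
  q := Nat.card F
  v := t * S.u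
  u := S.u
  t := t
  X := S.X
  Y := rY S
  A := rA S
  D := S.D
  s₁ := ra S
  s₂ := rb S
  hq := Finite.one_lt_card
  hq_odd := S.odd
  hv := by
    rw [show t * S.u = rb S * t * (rb S)⁻¹ from (rb_t S).symm, ← MulAut.conj_apply,
      MulEquiv.orderOf_eq]
    exact S.invol
  hu := S.orderOf_u
  ht := S.invol
  u_mem := Subgroup.mem_centralizer_singleton_iff.mpr S.commute_u_t.eq
  v_mem := Subgroup.mem_centralizer_singleton_iff.mpr
    ((Commute.refl t).mul_left S.commute_u_t).eq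
  D_v := fun d hd => Subgroup.mem_centralizer_singleton_iff.mpr (D_comm_tu S hd).eq
  D_u := fun d hd => Subgroup.mem_centralizer_singleton_iff.mpr (S.mem_D_iff.mp hd).2.eq
  inter_v := by
    rintro g ⟨h1, h2⟩
    have e1 : Commute g t := Subgroup.mem_centralizer_singleton_iff.mp h1
    have e2 : Commute g (t * S.u) := Subgroup.mem_centralizer_singleton_iff.mp h2
    have e3 := e1.mul_right e2
    rw [← mul_assoc, S.mul_self, one_mul] at e3
    exact S.mem_D_iff.mpr ⟨e1, e3⟩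
  inter_u := by
    rintro g ⟨h1, h2⟩
    exact S.mem_D_iff.mpr ⟨Subgroup.mem_centralizer_singleton_iff.mp h1,
      Subgroup.mem_centralizer_singleton_iff.mp h2⟩
  A_v := by
    rintro _ ⟨x, hx, rfl⟩
    have := (X_commute_t S hx).map (MulAut.conj (rb S))
    simp only [MulAut.conj_apply, rb_t] at this
    exact Subgroup.mem_centralizer_singleton_iff.mpr this.eq
  Y_u := by
    rintro _ ⟨x, hx, rfl⟩
    have := (X_commute_t S hx).map (MulAut.conj (ra S))
    simp only [MulAut.conj_apply, ra_t] at this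
    exact Subgroup.mem_centralizer_singleton_iff.mpr this.eq
  X_t := fun x hx => Subgroup.mem_centralizer_singleton_iff.mpr (X_commute_t S hx).eq
  v_X := fun x hx => tu_inverts_X S hx
  v_Y := by
    rintro _ ⟨x, hx, rfl⟩
    have := congrArg (MulAut.conj (ra S)) (tu_inverts_X S hx)
    simp only [map_mul, map_inv, MulAut.conj_apply, ra_t, ra_u] at this
    rw [S.commute_u_t.eq] at this
    simpa using this
  u_X := fun x hx => u_inverts_X S hx
  u_A := by
    rintro _ ⟨x, hx, rfl⟩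
    have := congrArg (MulAut.conj (rb S)) (u_inverts_X S hx)
    simp only [map_mul, map_inv, MulAut.conj_apply, rb_u] at this
    simpa using this
  t_Y := by
    rintro _ ⟨x, hx, rfl⟩
    have := congrArg (MulAut.conj (ra S)) (u_inverts_X S hx)
    simp only [map_mul, map_inv, MulAut.conj_apply, ra_u] at this
    simpa using this
  t_A := by
    rintro _ ⟨x, hx, rfl⟩
    have := congrArg (MulAut.conj (rb S)) (tu_inverts_X S hx)
    simp only [map_mul, map_inv, MulAut.conj_apply, rb_t, rb_u] at this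
    rw [show t * S.u * S.u = t by rw [mul_assoc, S.u_mul_self, mul_one]] at this
    simpa using this
  card_X := S.card_X
  card_Y := card_map S
  card_A := card_map S
  comm_XY := comm_shape S h.1
  comm_XA := comm_shape S h.2.1
  norm_E₁ := by
    intro g hg
    refine norm_side S (r := ra S) (A := rA S) (ra_sq S) rfl
      (fun a ha => ⟨fun x hx => (comm_shape S h.2.1 x hx a ha).symm,
        fun y hy => commutator_mem S h ha hy⟩) (fun d hd => ra_D S hd) ?_
    exact bruhat_conj S (k := rb S) (rb_t S) (fun d hd => rb_D S hd) (rb_sw S)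
      (Subgroup.mem_centralizer_singleton_iff.mp hg)
  norm_E₂ := by
    intro g hg
    refine norm_side S (r := rb S) (A := rY S) (rb_sq S) rfl
      (fun a ha => ⟨fun x hx => (comm_shape S h.1 x hx a ha).symm,
        fun y hy => ?_⟩) (fun d hd => rb_D S hd) ?_
    · have := inv_mem (commutator_mem S h hy ha)
      rwa [show (y * a * y⁻¹ * a⁻¹)⁻¹ = a * y * a⁻¹ * y⁻¹ by group] at this
    exact bruhat_conj S (k := ra S) (ra_t S) (fun d hd => ra_D S hd) (ra_sw S)
      (Subgroup.mem_centralizer_singleton_iff.mp hg)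
  D_X := D_norm_X S
  D_Y := D_norm_map S (ra_sq S) fun d hd => ra_D S hd
  D_A := D_norm_map S (rb_sq S) fun d hd => rb_D S hd
  s₁_mem := Subgroup.mem_centralizer_singleton_iff.mpr (ra_mem_centralizer_tu S).eq
  s₂_mem := Subgroup.mem_centralizer_singleton_iff.mpr (rb_mem_centralizer_u S).eq
  s₁_Y := by
    rintro _ ⟨x, hx, rfl⟩
    show ra S * (ra S * x * (ra S)⁻¹) * (ra S)⁻¹ ∈ S.X
    rw [show ra S * (ra S * x * (ra S)⁻¹) * (ra S)⁻¹ =
      (ra S * ra S) * x * (ra S * ra S)⁻¹ by group, ra_sq, one_mul, inv_one, mul_one]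
    exact hx
  s₂_X := fun x hx => ⟨x, hx, rfl⟩
  s₂_A := by
    rintro _ ⟨x, hx, rfl⟩
    show rb S * (rb S * x * (rb S)⁻¹) * (rb S)⁻¹ ∈ S.X
    rw [show rb S * (rb S * x * (rb S)⁻¹) * (rb S)⁻¹ =
      (rb S * rb S) * x * (rb S * rb S)⁻¹ by group, rb_sq, one_mul, inv_one, mul_one]
    exact hx
  s₂_v := rb_tu S
  s₂_D := fun d hd => rb_D S hd
  s₂_sq := by rw [rb_sq]; exact one_mem _
  braid := braid_mem S
  bruhat_v := fun g hg => bruhat_conj S (k := rb S) (rb_t S) (fun d hd => rb_D S hd) (rb_sw S)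
    (Subgroup.mem_centralizer_singleton_iff.mp hg)
  bruhat_u := fun g hg => bruhat_conj S (k := ra S) (ra_t S) (fun d hd => ra_D S hd) (ra_sw S)
    (Subgroup.mem_centralizer_singleton_iff.mp hg)
  Y_opp := by
    rintro _ ⟨x, hx, rfl⟩ _ ⟨x', hx', rfl⟩ hmem
    simp only [MulEquiv.coe_toMonoidHom, MulAut.conj_apply] at hmem ⊢
    obtain ⟨e, he, hre⟩ := ra_sw S
    set k := ra S with hk
    -- pull the element back to `C(t)`
    have hb : rb S = k * sw S * k⁻¹ * e⁻¹ := by rw [hre]; group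
    have h1 : (sw S * (k⁻¹ * e⁻¹ * k) * x' * (sw S * (k⁻¹ * e⁻¹ * k))⁻¹)⁻¹ * x ∈ S.D := by
      have := ra_D S hmem
      rw [hb, ← hk] at this
      convert this using 1
      conv_rhs => rw [show k * (((k * sw S * k⁻¹ * e⁻¹) * (k * x' * k⁻¹) *
        (k * sw S * k⁻¹ * e⁻¹)⁻¹)⁻¹ * (k * x * k⁻¹)) * k⁻¹ = (k * k) *
        ((sw S * (k⁻¹ * e⁻¹ * k) * x' * (sw S * (k⁻¹ * e⁻¹ * k))⁻¹)⁻¹ * x) * (k * k)⁻¹ by group,
        hk, ra_sq, one_mul, inv_one, mul_one]
    have hd : k⁻¹ * e⁻¹ * k ∈ S.D := by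
      have := ra_D S (inv_mem he)
      rw [← hk] at this
      rw [hk, ra_inv]
      rw [hk, ra_inv] at this
      exact this
    obtain ⟨c, hc⟩ := S.mem_X.mp (D_normalizes_X S hd hx')
    obtain ⟨α, rfl⟩ := S.mem_X.mp hx
    obtain ⟨a, b, hab⟩ := S.mem_D.mp h1
    have h2 : S.ι (tor a b) = S.ι ((xm c)⁻¹ * xp α) := by
      rw [hab, ← swap_conj_xp, map_mul, map_inv, map_mul, map_mul, map_inv, hc]
      show _ = (sw S * _ * (sw S)⁻¹)⁻¹ * _
      group
    have h3 : S.ι ((tor a b)⁻¹ * ((xm c)⁻¹ * xp α)) = 1 := by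
      rw [map_mul, map_inv, h2, inv_mul_cancel]
    obtain ⟨r, hr, -⟩ := S.ker_scalar h3
    have h4 : (xm c)⁻¹ * xp α = tor a b * tor r r := by rw [← hr]; group
    rw [xm_inv, tor_mul] at h4
    have h5 := congrArg (fun M : GL (Fin 2) F => M.1 0 1) h4
    simp [Matrix.mul_apply, Fin.sum_univ_two] at h5
    subst h5
    rw [xp_zero, map_one]
    group
  card_v := card_conj S (rb_t S)
  card_u := card_conj S (ra_t S)
  odd_index := by
    have h1 := odd_index S
    have h2 : Nat.card ↥(Subgroup.centralizer ({t * S.u} : Set G)) =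
        Nat.card ↥(Subgroup.centralizer ({t} : Set G)) := by
      rw [card_conj S (rb_t S), card_centralizer S]
    have e1 := (Subgroup.centralizer ({t * S.u} : Set G)).card_mul_index
    have e2 := (Subgroup.centralizer ({t} : Set G)).card_mul_index
    rw [h2, ← e2] at e1
    rwa [Nat.eq_of_mul_eq_mul_left Nat.card_pos e1]
  fusion := by
    intro i hi hi2
    have hi' : Commute i (t * S.u) := Subgroup.mem_centralizer_singleton_iff.mp hi
    set i' := rb S * i * (rb S)⁻¹ with hi'd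
    have h1 : Commute i' t := by
      have := hi'.map (MulAut.conj (rb S))
      simpa [MulAut.conj_apply, rb_tu] using this
    have hii : i * i = 1 := by rw [← pow_two, ← hi2, pow_orderOf_eq_one]
    have hback : rb S * i' * (rb S)⁻¹ = i := by
      rw [hi'd, show rb S * (rb S * i * (rb S)⁻¹) * (rb S)⁻¹ =
        (rb S * rb S) * i * (rb S * rb S)⁻¹ by group, rb_sq, one_mul, inv_one, mul_one]
    have hne : i' ≠ 1 := fun e => by
      rw [e, mul_one, mul_inv_cancel] at hback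
      rw [← hback, orderOf_one] at hi2
      omega
    rcases S.invol_cases (s := i') (by
      rw [hi'd, show rb S * i * (rb S)⁻¹ * (rb S * i * (rb S)⁻¹) = rb S * (i * i) * (rb S)⁻¹ by group,
        hii, mul_one, mul_inv_cancel]) hne h1 with e | ⟨c, hct, hce⟩
    · left
      calc i = rb S * i' * (rb S)⁻¹ := hback.symm
        _ = rb S * t * (rb S)⁻¹ := by rw [e]
        _ = t * S.u := rb_t S
    · right
      have hc1 : Commute (rb S * c * (rb S)⁻¹) (t * S.u) := by
        have := hct.map (MulAut.conj (rb S))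
        simpa [MulAut.conj_apply, rb_t] using this
      refine ⟨rb S * c * (rb S)⁻¹ * ra S, Subgroup.mem_centralizer_singleton_iff.mpr
        (hc1.mul_left (ra_mem_centralizer_tu S)).eq, ?_⟩
      calc rb S * c * (rb S)⁻¹ * ra S * t * (rb S * c * (rb S)⁻¹ * ra S)⁻¹
          = rb S * c * (rb S)⁻¹ * (ra S * t * (ra S)⁻¹) * (rb S * c * (rb S)⁻¹)⁻¹ := by group
        _ = rb S * c * (rb S)⁻¹ * (rb S * S.u * (rb S)⁻¹) * (rb S * c * (rb S)⁻¹)⁻¹ := by
            rw [ra_t, rb_u]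
        _ = rb S * (c * S.u * c⁻¹) * (rb S)⁻¹ := by group
        _ = i := by rw [hce, hback]

/-- A setting of hexagon shape is `PSL₃`. -/
theorem psl_of_hexShape [IsSimpleGroup G] [Fintype F] (h : HexShape S) :
    Nonempty (G ≃* Matrix.ProjectiveSpecialLinearGroup (Fin 3) F) :=
  (hexOf S h).recognition (by
    show Fintype.card F = Nat.card F
    rw [Nat.card_eq_fintype_card])

end Cfsg.Agent.H26.LThree
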