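import Cfsg.Agent.S2916
import Cfsg.Agent.H27.PermFamily
import Cfsg.Agent.Fusion.PResidual

/-!
# The case of the field of three elements
-/

set_option autoImplicit false
set_option linter.style.haveILetI false

namespace Cfsg.Agent.H26.LThree

open Subgroup

theorem three {G : Type*} [Group G] [Finite G] [IsSimpleGroup G] {F : Type*} [Field F] [Fintype F]
    (hF : Fintype.card F = 3) (Z : Subgroup (GL (Fin 2) F)) [Z.Normal]
    (hZc : Z ≤ Subgroup.center (GL (Fin 2) F)) (hZo : Odd (Nat.card Z)) (t : G) (ht : orderOf t = 2)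
    (hC : Nonempty (Subgroup.centralizer ({t} : Set G) ≃* (GL (Fin 2) F ⧸ Z))) :
    Nonempty (G ≃* Matrix.ProjectiveSpecialLinearGroup (Fin 3) F) ∨ Cfsg.IsM11 G := by
  classical
  haveI : Fact (Nat.Prime 3) := ⟨Nat.prime_three⟩
  obtain ⟨e⟩ := hC
  -- the central subgroup is trivial
  have hZ : Z = ⊥ := by
    refine (Subgroup.eq_bot_iff_forall _).mpr fun z hz => ?_
    have h2 : z ^ 2 = 1 := by
      obtain ⟨r, hr⟩ := (Matrix.GeneralLinearGroup.center_eq_range_scalar (R := F) (n := Fin 2)).le (hZc hz)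
      subst hr
      rw [← map_pow]
      have h1 : r ^ 2 = 1 := by
        have := pow_card_eq_one (x := r)
        rwa [Fintype.card_units, hF] at this
      rw [h1, map_one]
    have hd : orderOf z ∣ Nat.card Z := by
      rw [show orderOf z = orderOf (⟨z, hz⟩ : Z) from (Subgroup.orderOf_mk z hz).symm]
      exact orderOf_dvd_natCard _
    exact orderOf_eq_one_iff.mp (Nat.eq_one_of_dvd_coprimes (Nat.coprime_two_left.mpr hZo)
      (orderOf_dvd_of_pow_eq_one h2) hd)
  let φ : F ≃+* ZMod 3 := FiniteField.ringEquivOfCardEq (by rw [hF, ZMod.card])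
  let e' : Subgroup.centralizer ({t} : Set G) ≃* GL (Fin 2) (ZMod 3) :=
    e.trans (((QuotientGroup.quotientMulEquivOfEq hZ).trans QuotientGroup.quotientBot).trans
      (Units.mapEquiv φ.mapMatrix.toMulEquiv))
  have hO : Cfsg.pResidual 2 G = ⊤ := by
    refine (Fusion.pResidual_normal (p := 2) (G := G)).eq_bot_or_eq_top.resolve_left fun hb => ?_
    have h3 : 3 ∣ Nat.card (Subgroup.centralizer ({t} : Set G)) := by
      rw [Nat.card_congr e'.toEquiv, Matrix.card_GL_field, ZMod.card]
      decide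
    obtain ⟨x, hx⟩ := exists_prime_orderOf_dvd_card' 3 h3
    have hmem : (x : G) ∈ Cfsg.pResidual 2 G :=
      Subgroup.subset_closure (show Nat.Coprime (orderOf (x : G)) 2 by
        rw [Subgroup.orderOf_coe, hx]; decide)
    rw [hb, Subgroup.mem_bot] at hmem
    rw [← Subgroup.orderOf_coe, hmem, orderOf_one] at hx
    omega
  rcases S2916.result hO t ht ⟨e'⟩ with ⟨F', _, _, hF', ⟨f⟩⟩ | ⟨⟨f⟩⟩
  · exact Or.inl ⟨f.trans (H27.PermFamily.pslCongr
      (FiniteField.ringEquivOfCardEq (hF'.trans hF.symm)))⟩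
  · exact Or.inr ⟨inferInstance, (Nat.card_congr f.toEquiv).trans Golay.card_spor_M11⟩

end Cfsg.Agent.H26.LThree
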