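import Cfsg.Agent.H26.LThree.Frame
import Cfsg.Agent.H26.LThree.LocalCore
import Cfsg.Agent.H35.Semi.Shapes
import Cfsg.Agent.H35.Semi.Monomial
import Cfsg.Agent.H53.SE.OddGLTwo

/-!
# Centralisers of elements of the non-split torus: odd primes of `q + 1` do not divide the index
-/

set_option autoImplicit false
set_option linter.unusedSectionVars false
set_option linter.unusedSimpArgs false
set_option linter.style.haveILetI false

namespace Cfsg.Agent.H26.LThree

open Cfsg.Agent.H35.Semi Matrix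

universe u v

section GLFacts

variable {F : Type*} [Field F] [Finite F]

/-- An element of prime order `r ∤ q (q - 1)` is not triangular. -/
theorem lower_ne {r : ℕ} (hr : r.Prime) (hrq : ¬ r ∣ Nat.card F * (Nat.card F - 1))
    {M : GL (Fin 2) F} (hM : M ^ r = 1) (hM1 : M ≠ 1) : M.1 1 0 ≠ 0 := by
  intro h0
  haveI := Fintype.ofFinite F
  have hunit : ∀ a : Fˣ, a ^ r = 1 → a = 1 := fun a ha => by
    have h1 : orderOf a ∣ r := orderOf_dvd_of_pow_eq_one ha
    have h2 : orderOf a ∣ Nat.card F - 1 := by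
      have := orderOf_dvd_natCard a
      rwa [Nat.card_units] at this
    rcases (Nat.dvd_prime hr).1 h1 with h | h
    · exact orderOf_eq_one_iff.1 h
    · exact absurd (h ▸ h2) fun h' => hrq (h'.mul_left _)
  obtain ⟨a, d, x, rfl, -⟩ := eq_tor_mul_xp h0
  have key : ∀ n : ℕ, ((tor a d * xp x) ^ n).1 1 0 = 0 ∧
      ((tor a d * xp x) ^ n).1 0 0 = ((a ^ n : Fˣ) : F) ∧
      ((tor a d * xp x) ^ n).1 1 1 = ((d ^ n : Fˣ) : F) := by
    intro n
    induction n with
    | zero => simp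
    | succ n ih =>
      obtain ⟨e1, e2, e3⟩ := ih
      rw [pow_succ]
      generalize (tor a d * xp x) ^ n = P at e1 e2 e3 ⊢
      refine ⟨?_, ?_, ?_⟩ <;>
        simp [Matrix.mul_apply, Fin.sum_univ_two, e1, e2, e3, pow_succ]
  obtain ⟨-, e2, e3⟩ := key r
  rw [hM] at e2 e3
  obtain rfl : a = 1 := hunit a (Units.ext (by simpa using e2.symm))
  obtain rfl : d = 1 := hunit d (Units.ext (by simpa using e3.symm))
  rw [show (tor 1 1 : GL (Fin 2) F) = 1 from map_one (torHom (F := F)), one_mul] at hM hM1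
  obtain ⟨p, hp⟩ := CharP.exists F
  obtain ⟨n, hprime, hn⟩ := FiniteField.card F p
  have hp1 : (xp x) ^ p = 1 := by rw [xp_pow, CharP.cast_eq_zero F p, zero_mul, xp_zero]
  refine hM1 (orderOf_eq_one_iff.1 (Nat.eq_one_of_dvd_coprimes ?_
    (orderOf_dvd_of_pow_eq_one hM) (orderOf_dvd_of_pow_eq_one hp1)))
  refine (Nat.coprime_primes hr hprime).2 fun e => hrq (Dvd.dvd.mul_right ?_ _)
  rw [Nat.card_eq_fintype_card, hn, e]
  exact dvd_pow_self _ n.pos.ne'

/-- Such an element has no eigenvector. -/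
theorem no_eigvec {r : ℕ} (hr : r.Prime) (hrq : ¬ r ∣ Nat.card F * (Nat.card F - 1))
    {M : GL (Fin 2) F} (hM : M ^ r = 1) (hM1 : M ≠ 1) {v : Fin 2 → F} (hv : v ≠ 0)
    (h : M.1.mulVec v ∈ Submodule.span F {v}) : False := by
  obtain ⟨w, hw⟩ : ∃ w, H27.GLTwo.wedge v w ≠ 0 := by
    by_contra hno
    push Not at hno
    refine hv (funext fun i => ?_)
    have h0 := hno ![1, 0]
    have h1 := hno ![0, 1]
    simp [H27.GLTwo.wedge] at h0 h1
    fin_cases i
    · exact h1
    · exact h0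
  obtain ⟨g, hg0, -⟩ := H27.GLTwo.exists_gl hw
  obtain ⟨c, hc⟩ := Submodule.mem_span_singleton.1 h
  refine lower_ne hr hrq (M := g⁻¹ * M * g) ?_ ?_ ?_
  · have := conj_pow (i := r) (a := g⁻¹) (b := M)
    rw [inv_inv] at this
    rw [this, hM, mul_one, inv_mul_cancel]
  · intro e
    apply hM1
    calc M = g * (g⁻¹ * M * g) * g⁻¹ := by group
      _ = 1 := by rw [e]; group
  · have h1 : (g⁻¹ * M * g) • (H27.GLTwo.e0 : Fin 2 → F) = c • H27.GLTwo.e0 := by
      rw [mul_smul, mul_smul, hg0, H27.GLTwo.gl_smul_eq M v, ← hc,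
        show (g⁻¹ : GL (Fin 2) F) • (c • v) = c • ((g⁻¹ : GL (Fin 2) F) • v) by
          rw [H27.GLTwo.gl_smul_eq, H27.GLTwo.gl_smul_eq, Matrix.mulVec_smul],
        show (g⁻¹ : GL (Fin 2) F) • v = H27.GLTwo.e0 by rw [← hg0, inv_smul_smul]]
    have h2 := congrFun h1 1
    rw [H27.GLTwo.smul_e0] at h2
    simpa [H27.GLTwo.e0] using h2

/-- The commutant. -/
theorem commutant {M N : GL (Fin 2) F} (h0 : M.1 1 0 ≠ 0) (h : Commute N M) :
    ∃ α β : F, N.1 = α • (1 : Matrix (Fin 2) (Fin 2) F) + β • M.1 := by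
  have e : N.1 * M.1 = M.1 * N.1 := congrArg Units.val h.eq
  have e00 := congrFun (congrFun e 0) 0
  have e10 := congrFun (congrFun e 1) 0
  simp [Matrix.mul_apply, Fin.sum_univ_two] at e00 e10
  refine ⟨N.1 0 0 - N.1 1 0 / M.1 1 0 * M.1 0 0, N.1 1 0 / M.1 1 0, ?_⟩
  ext i j
  fin_cases i <;> fin_cases j <;> simp [h0]
  · field_simp
    linear_combination e00
  · field_simp
    linear_combination e10

theorem commute_commutant {M N N' : GL (Fin 2) F} (h0 : M.1 1 0 ≠ 0) (h : Commute N M)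
    (h' : Commute N' M) : Commute N N' := by
  obtain ⟨α, β, e⟩ := commutant h0 h
  obtain ⟨α', β', e'⟩ := commutant h0 h'
  refine Units.ext ?_
  show N.1 * N'.1 = N'.1 * N.1
  rw [e, e']
  simp only [add_mul, mul_add, smul_mul_assoc, mul_smul_comm, one_mul, mul_one, smul_smul]
  module

/-- An involution commuting with it is scalar. -/
theorem invol_commutant {r : ℕ} (hr : r.Prime) (hrq : ¬ r ∣ Nat.card F * (Nat.card F - 1))
    {M N : GL (Fin 2) F} (hM : M ^ r = 1) (hM1 : M ≠ 1) (h2 : (2 : F) ≠ 0) (h : Commute N M)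
    (hN : N * N = 1) : N = 1 ∨ N = tor (-1) (-1) := by
  have h0 := lower_ne hr hrq hM hM1
  obtain ⟨α, β, e⟩ := commutant h0 h
  have e1 : N.1 * N.1 = 1 := congrArg Units.val hN
  have e00 := congrFun (congrFun e1 0) 0
  have e10 := congrFun (congrFun e1 1) 0
  simp [Matrix.mul_apply, Fin.sum_univ_two] at e00 e10
  by_cases hb : β = 0
  · subst hb
    rw [zero_smul, add_zero] at e
    simp [e, Matrix.mul_apply, Fin.sum_univ_two] at e00
    rcases mul_self_eq_one_iff.1 e00 with rfl | rfl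
    · left; exact Units.ext (by simp [e])
    · right; refine gl_ext ?_ ?_ ?_ ?_ <;> simp [e]
  exfalso
  have hN10 : N.1 1 0 = β * M.1 1 0 := by simp [e]
  have hne : N.1 1 0 ≠ 0 := hN10 ▸ mul_ne_zero hb h0
  have htr : N.1 0 0 + N.1 1 1 = 0 := by
    have : (N.1 0 0 + N.1 1 1) * N.1 1 0 = 0 := by linear_combination e10
    exact (mul_eq_zero.1 this).resolve_right hne
  have hv : (![N.1 0 0 + 1, N.1 1 0] : Fin 2 → F) ≠ 0 := fun hz => hne (by
    simpa using congrFun hz 1)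
  refine no_eigvec hr hrq hM hM1 hv (Submodule.mem_span_singleton.2 ⟨(1 - α) / β, ?_⟩)
  have hfix : N.1.mulVec ![N.1 0 0 + 1, N.1 1 0] = ![N.1 0 0 + 1, N.1 1 0] := by
    funext i
    fin_cases i <;> simp [Matrix.mulVec, dotProduct, Fin.sum_univ_two]
    · linear_combination e00
    · linear_combination N.1 1 0 * htr
  set v : Fin 2 → F := ![N.1 0 0 + 1, N.1 1 0]
  rw [e, Matrix.add_mulVec, Matrix.smul_mulVec, Matrix.smul_mulVec, Matrix.one_mulVec] at hfix
  funext i
  have hi := congrFun hfix i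
  simp only [Pi.add_apply, Pi.smul_apply, smul_eq_mul] at hi ⊢
  field_simp
  linear_combination -hi

/-- The reflection `[1, b; 0, -1]` inverting `M`. -/
theorem exists_reflection {M : GL (Fin 2) F} (h0 : M.1 1 0 ≠ 0)
    (hdet : GeneralLinearGroup.det M = 1) :
    ∃ N : GL (Fin 2) F, N * N = 1 ∧ N.1 0 0 = 1 ∧ N.1 1 1 = -1 ∧ N * M * N⁻¹ = M⁻¹ := by
  set b : F := (M.1 1 1 - M.1 0 0) / M.1 1 0
  have hsq : (!![1, b; 0, -1] : Matrix (Fin 2) (Fin 2) F) * !![1, b; 0, -1] = 1 := by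
    ext i j; fin_cases i <;> fin_cases j <;> simp
  let N : GL (Fin 2) F := ⟨!![1, b; 0, -1], !![1, b; 0, -1], hsq, hsq⟩
  have hN : N * N = 1 := Units.ext hsq
  refine ⟨N, hN, by simp [N], by simp [N], ?_⟩
  have hd : M.1 0 0 * M.1 1 1 - M.1 0 1 * M.1 1 0 = 1 := by
    have := congrArg Units.val hdet
    simpa [Matrix.det_fin_two] using this
  rw [inv_eq_of_mul_eq_one_right hN]
  refine eq_inv_of_mul_eq_one_left (gl_ext ?_ ?_ ?_ ?_) <;>
    simp [N, b, Matrix.mul_apply, Matrix.vecMul, dotProduct, Fin.sum_univ_two] <;> field_simp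
  · linear_combination hd
  · ring
  · ring
  · linear_combination hd

end GLFacts

variable {G : Type u} [Group G] [Finite G] {F : Type v} [Field F] [Finite F] {t : G}
variable (S : Setting G F t)

/-- Some odd scalar of `C(t)` is not scalar in `C(u)`. -/
def NonDeg : Prop := ∃ s ∈ S.Sc, Odd (orderOf s) ∧ S.g * s * S.g⁻¹ ∉ S.Sc

variable {r : ℕ} (hr : r.Prime) (hr2 : r ≠ 2) (hrq : r ∣ Nat.card F + 1)

include S hr hr2 hrq

theorem not_dvd_q : ¬ r ∣ Nat.card F * (Nat.card F - 1) := by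
  intro h
  rcases hr.dvd_mul.1 h with h | h
  · exact hr.one_lt.ne' (Nat.dvd_one.1 ((Nat.dvd_add_right h).1 hrq))
  · have h2 := Nat.dvd_sub hrq h
    have : 1 ≤ Nat.card F := Nat.card_pos
    rw [show Nat.card F + 1 - (Nat.card F - 1) = 2 by omega] at h2
    exact hr2 ((Nat.prime_dvd_prime_iff_eq hr Nat.prime_two).1 h2)

/-- A lift of order `r`. -/
theorem exists_lift_order {x : G} (hx : orderOf x = r) (hxt : Commute x t) :
    ∃ M, S.ι M = x ∧ M ^ r = 1 ∧ M ≠ 1 ∧ GeneralLinearGroup.det M = 1 := by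
  obtain ⟨M₀, hM₀⟩ := S.exists_preimage hxt
  have hz : ¬ r ∣ Nat.card S.ι.ker := fun h => by
    have h2 := (h.trans (dvd_mul_left _ (Nat.card S.D))).trans (dvd_of_eq S.card_D_mul)
    exact not_dvd_q S hr hr2 hrq ((hr.dvd_mul.1 h2).elim (fun h => h.mul_left _) fun h => h.mul_left _)
  obtain ⟨e, he⟩ := Nat.exists_mul_mod_eq_one_of_coprime
    (((Nat.Prime.coprime_iff_not_dvd hr).2 hz).symm) hr.one_lt
  have hker : (M₀ ^ r) ^ Nat.card S.ι.ker = 1 := by
    have hm : M₀ ^ r ∈ S.ι.ker := by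
      rw [MonoidHom.mem_ker, map_pow, hM₀, ← hx, pow_orderOf_eq_one]
    exact congrArg Subtype.val (pow_card_eq_one' (G := ↥S.ι.ker) (x := ⟨_, hm⟩))
  have hMx : S.ι (M₀ ^ (Nat.card S.ι.ker * e)) = x := by
    rw [map_pow, hM₀, ← pow_mod_orderOf, hx, he.2, pow_one]
  have hMr : (M₀ ^ (Nat.card S.ι.ker * e)) ^ r = 1 := by
    rw [← pow_mul, show Nat.card S.ι.ker * e * r = r * Nat.card S.ι.ker * e by ring, pow_mul,
      pow_mul, hker, one_pow]
  refine ⟨_, hMx, hMr, fun h => ?_, ?_⟩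
  · rw [h, map_one] at hMx
    rw [← hMx, orderOf_one] at hx
    exact hr.one_lt.ne hx
  · have h1 : (GeneralLinearGroup.det (M₀ ^ (Nat.card S.ι.ker * e))) ^ r = 1 := by
      rw [← map_pow, hMr, map_one]
    rcases (Nat.dvd_prime hr).1 (orderOf_dvd_of_pow_eq_one h1) with h | h
    · exact orderOf_eq_one_iff.1 h
    · exfalso
      have h2 := orderOf_dvd_natCard (GeneralLinearGroup.det (M₀ ^ (Nat.card S.ι.ker * e)))
      rw [h, Nat.card_units] at h2
      exact not_dvd_q S hr hr2 hrq (h2.mul_left _)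

variable {x : G} (hx : orderOf x = r) (hxt : Commute x t)
include hx hxt

/-- `C(x) ∩ C(t)` is abelian. -/
theorem cent_abel {a b : G} (ha : Commute a t) (hax : Commute a x) (hb : Commute b t)
    (hbx : Commute b x) : Commute a b := by
  obtain ⟨M, rfl, hM, hM1, -⟩ := exists_lift_order S hr hr2 hrq hx hxt
  obtain ⟨A, rfl⟩ := S.exists_preimage ha
  obtain ⟨B, rfl⟩ := S.exists_preimage hb
  exact (commute_commutant (lower_ne hr (not_dvd_q S hr hr2 hrq) hM hM1)
    (S.commute_lift hax) (S.commute_lift hbx)).map S.ι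

/-- `t` is its only involution. -/
theorem cent_invol {i : G} (hit : Commute i t) (hix : Commute i x) (hi : i * i = 1) (hi1 : i ≠ 1) :
    i = t := by
  obtain ⟨M, rfl, hM, hM1, -⟩ := exists_lift_order S hr hr2 hrq hx hxt
  obtain ⟨N, rfl, hN⟩ := S.exists_lift_invol hi hit
  rcases invol_commutant hr (not_dvd_q S hr hr2 hrq) hM hM1 S.two_ne (S.commute_lift hix) hN with
    rfl | rfl
  · exact absurd (map_one _) hi1
  · exact S.ι_neg

/-- An involution of `C(t)` inverts `x`. -/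
theorem exists_inverting :
    ∃ w : G, Commute w t ∧ w * w = 1 ∧ w ≠ 1 ∧ w ≠ t ∧ w * x * w⁻¹ = x⁻¹ := by
  obtain ⟨M, rfl, hM, hM1, hdet⟩ := exists_lift_order S hr hr2 hrq hx hxt
  obtain ⟨N, hN, h00, -, hNM⟩ := exists_reflection (lower_ne hr (not_dvd_q S hr hr2 hrq) hM hM1) hdet
  have hinv : S.ι N * S.ι M * (S.ι N)⁻¹ = (S.ι M)⁻¹ := by
    rw [← map_inv, ← map_mul, ← map_mul, hNM, map_inv]
  have hne : ∀ z : G, Commute z (S.ι M) → S.ι N ≠ z := fun z hz e => by
    rw [e, hz.eq, mul_inv_cancel_right] at hinv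
    have h2 : orderOf (S.ι M) ∣ 2 := orderOf_dvd_of_pow_eq_one (by
      rw [pow_two]; nth_rw 2 [hinv]; rw [mul_inv_cancel])
    rw [hx] at h2
    exact hr2 ((Nat.prime_dvd_prime_iff_eq hr Nat.prime_two).1 h2)
  exact ⟨S.ι N, S.commute_image N, by rw [← map_mul, hN, map_one], hne 1 (Commute.one_left _),
    hne t hxt.symm, hinv⟩

theorem t_mem_cent : t ∈ Subgroup.centralizer ({x} : Set G) :=
  Subgroup.mem_centralizer_singleton_iff.2 hxt.symm.eq

/-- The odd elements of `C(x)` lie in its odd core. -/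
theorem odd_mem_cent_core {z : G} (hz : Commute z x) (hzo : Odd (orderOf z)) :
    z ∈ coreOf (Subgroup.centralizer ({x} : Set G)) := by
  refine odd_mem_core S.invol (t_mem_cent S hr hr2 hrq hx hxt) (fun i hi hit hii hi1 => ?_)
    (fun a ha b hb hat hbt => ?_) (Subgroup.mem_centralizer_singleton_iff.2 hz.eq) hzo
  · exact cent_invol S hr hr2 hrq hx hxt hit (Subgroup.mem_centralizer_singleton_iff.1 hi) hii hi1
  · exact cent_abel S hr hr2 hrq hx hxt hat (Subgroup.mem_centralizer_singleton_iff.1 ha) hbt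
      (Subgroup.mem_centralizer_singleton_iff.1 hb)

/-- In the non-degenerate case nothing of order `r` lies in the `w` part of the core. -/
theorem w_part (hnd : NonDeg S) {w : G} (hwt : Commute w t) (hw : w * w = 1) (hw1 : w ≠ 1)
    (hwne : w ≠ t) (hwx : w * x * w⁻¹ = x⁻¹) {y : G}
    (hy : y ∈ coreOf (Subgroup.centralizer ({x} : Set G))) (hyw : Commute y w)
    (hyr : orderOf y = r) : False := by
  obtain ⟨s, hs, hso, hsg⟩ := hnd
  obtain ⟨c, hct, hcw⟩ := (S.invol_cases hw hw1 hwt).resolve_left hwne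
  set h := S.g * c⁻¹ with hh
  have hhw : h * w * h⁻¹ = t := by
    rw [hh, ← hcw, show S.g * c⁻¹ * (c * S.u * c⁻¹) * (S.g * c⁻¹)⁻¹ = S.g * S.u * S.g⁻¹ by group,
      S.g_u]
  have hht : h * t * h⁻¹ = S.u := by
    rw [hh, show S.g * c⁻¹ * t * (S.g * c⁻¹)⁻¹ = S.g * (c⁻¹ * t * c⁻¹⁻¹) * S.g⁻¹ by group,
      hct.inv_left.eq, mul_inv_cancel_right, S.g_t]
  set K := coreOf (Subgroup.centralizer ({x} : Set G)) with hK
  set Hw := (K ⊓ Subgroup.centralizer ({w} : Set G)).map (MulAut.conj h).toMonoidHom with hHw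
  set H := Hw.comap S.ι with hH
  have hHodd : Odd (Nat.card H) := by
    rw [← Subgroup.card_mul_index ((S.ι.comp H.subtype).ker), Subgroup.index_ker]
    refine Odd.mul ?_ ?_
    · refine Odd.of_dvd_nat S.ker_odd ?_
      rw [← Subgroup.card_map_of_injective H.subtype_injective]
      refine Subgroup.card_dvd_of_le ?_
      rintro _ ⟨N, hN, rfl⟩
      exact hN
    · refine Odd.of_dvd_nat ?_ (Subgroup.card_dvd_of_le (K := Hw) ?_)
      · rw [hHw, Subgroup.card_map_of_injective (MulAut.conj h).injective]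
        exact (coreOf_odd _).of_dvd_nat (Subgroup.card_dvd_of_le inf_le_left)
      · rintro _ ⟨N, rfl⟩
        exact N.2
  have hmem : ∀ z ∈ K, Commute z w → ∀ N, S.ι N = h * z * h⁻¹ → N ∈ H := fun z hz hzw N hN => by
    rw [hH, Subgroup.mem_comap, hN]
    exact ⟨z, ⟨hz, Subgroup.mem_centralizer_singleton_iff.2 hzw.eq⟩, rfl⟩
  have hcomm : Commute (h * y * h⁻¹) t := by
    have := hyw.map (MulAut.conj h)
    simp only [MulAut.conj_apply, hhw] at this
    exact this
  obtain ⟨M', hM', hM'r, hM'1, -⟩ := exists_lift_order S hr hr2 hrq (x := h * y * h⁻¹)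
    (by rw [← MulAut.conj_apply, MulEquiv.orderOf_eq, hyr]) hcomm
  have hM'H : M' ∈ H := hmem y hy hyw M' hM'
  haveI : Finite H := inferInstance
  rcases H53.SE.OddGLTwo.commutative_or_line S.two_ne H hHodd with hab | ⟨v, hv, hline⟩
  swap
  · exact no_eigvec hr (not_dvd_q S hr hr2 hrq) hM'r hM'1 hv
      (hline M' (Subgroup.le_normalizer hM'H))
  -- the scalar `s`
  have hsx : Commute s x := S.Sc_central hs hxt
  have hsK : s ∈ K := odd_mem_cent_core S hr hr2 hrq hx hxt hsx hso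
  have hsc : h * s * h⁻¹ = S.g * s * S.g⁻¹ := by
    rw [hh, show S.g * c⁻¹ * s * (S.g * c⁻¹)⁻¹ = S.g * (c⁻¹ * s * c⁻¹⁻¹) * S.g⁻¹ by group,
      ← (S.Sc_central hs hct.inv_left).eq, mul_inv_cancel_right]
  have hsD : S.g * s * S.g⁻¹ ∈ S.D := S.g_conj_D.2 (by
    obtain ⟨a, rfl⟩ := S.mem_Sc.1 hs
    exact S.mem_D.2 ⟨a, a, rfl⟩)
  obtain ⟨a, b, hab'⟩ := S.mem_D.1 hsD
  have hTH : tor a b ∈ H := hmem s hsK (S.Sc_central hs hwt) _ (hab'.trans hsc.symm)
  have e := congrArg (fun Z : GL (Fin 2) F => Z.1 1 0) (hab _ hTH _ hM'H)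
  simp [Matrix.mul_apply, Fin.sum_univ_two] at e
  have hne := lower_ne hr (not_dvd_q S hr hr2 hrq) hM'r hM'1
  refine hsg (S.mem_Sc.2 ⟨a, ?_⟩)
  have : (a : F) = b := mul_left_cancel₀ hne (by linear_combination -e)
  rw [← hab', Units.ext this]

/-- An `r`-subgroup of `C(x)` is conjugate into `C(t)`. -/
theorem exists_conj_le (hnd : NonDeg S) {Q : Subgroup G} (hQp : IsPGroup r Q)
    (hQx : Q ≤ Subgroup.centralizer ({x} : Set G)) :
    ∃ k : G, Commute k x ∧ ∀ z ∈ Q, Commute (k * z * k⁻¹) t := by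
  haveI : Fact r.Prime := ⟨hr⟩
  haveI : Fact (Nat.Prime 2) := ⟨Nat.prime_two⟩
  set C := Subgroup.centralizer ({x} : Set G) with hC
  set K := coreOf C with hK
  have hQK : Q ≤ K := fun z hz => by
    refine odd_mem_cent_core S hr hr2 hrq hx hxt (Subgroup.mem_centralizer_singleton_iff.1 (hQx hz)) ?_
    obtain ⟨j, hj⟩ := hQp ⟨z, hz⟩
    exact (hr.odd_of_ne_two hr2).pow.of_dvd_nat
      (orderOf_dvd_of_pow_eq_one (congrArg Subtype.val hj))
  obtain ⟨w, hwt, hw, hw1, hwne, hwx⟩ := exists_inverting S hr hr2 hrq hx hxt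
  have how : orderOf w = 2 := orderOf_eq_prime (by rw [pow_two, hw]) hw1
  let V : Subgroup G := Subgroup.zpowers t ⊔ Subgroup.zpowers w
  have hV : IsPGroup 2 V := by
    have hzp : ∀ {i : G}, orderOf i = 2 → IsPGroup 2 (Subgroup.zpowers i) := fun {i} hi =>
      IsPGroup.of_card (n := 1) (by rw [Nat.card_zpowers, hi, pow_one])
    refine (hzp S.invol).to_sup_of_normal_left' (hzp how) ?_
    rw [Subgroup.zpowers_le]
    refine Subgroup.centralizer_le_normalizer _ (Subgroup.mem_centralizer_iff.2 fun z hz => ?_)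
    obtain ⟨m, rfl⟩ := Subgroup.mem_zpowers_iff.mp hz
    exact (hwt.symm.zpow_left m).eq
  haveI : Group.IsNilpotent V := hV.isNilpotent
  have hwC : w ∈ Subgroup.normalizer (C : Set G) := by
    refine Subgroup.mem_normalizer_fintype fun z hz => Subgroup.mem_centralizer_singleton_iff.2 ?_
    have h1 := (Commute.inv_right (Subgroup.mem_centralizer_singleton_iff.1 hz)).map (MulAut.conj w)
    simp only [MulAut.conj_apply] at h1
    rw [show w * x⁻¹ * w⁻¹ = x by
      rw [show w * x⁻¹ * w⁻¹ = (w * x * w⁻¹)⁻¹ by group, hwx, inv_inv]] at h1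
    exact h1.eq
  have htK : t ∈ Subgroup.normalizer (K : Set G) := Subgroup.mem_normalizer_fintype fun z hz =>
    conj_mem_coreOf (Subgroup.le_normalizer (t_mem_cent S hr hr2 hrq hx hxt)) hz
  have hwK : w ∈ Subgroup.normalizer (K : Set G) := Subgroup.mem_normalizer_fintype fun z hz =>
    conj_mem_coreOf hwC hz
  have hVK : V ≤ Subgroup.normalizer (K : Set G) :=
    sup_le (Subgroup.zpowers_le.2 htK) (Subgroup.zpowers_le.2 hwK)
  have hcop : (Nat.card V).Coprime (Nat.card K) := by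
    obtain ⟨m, hm⟩ := hV.exists_card_eq
    rw [hm]
    exact Nat.Coprime.pow_left m (Nat.coprime_two_left.2 (coreOf_odd _))
  obtain ⟨P, hPV⟩ := Coprime.exists_invariant_sylow hVK hcop (Or.inl inferInstance) r
  set P' : Subgroup G := (P : Subgroup K).map K.subtype with hP'
  have hP'p : IsPGroup r P' := P.isPGroup'.map _
  -- the parts of `w` and `t w` are trivial
  have hpart : ∀ w' : G, Commute w' t → w' * w' = 1 → w' ≠ 1 → w' ≠ t → w' * x * w'⁻¹ = x⁻¹ →
      P' ⊓ Subgroup.centralizer ({w'} : Set G) ≤ Subgroup.centralizer ({t} : Set G) := by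
    intro w' h1 h2 h3 h4 h5 z hz
    by_contra hzt
    have hz1 : z ≠ 1 := fun e => hzt (e ▸ one_mem _)
    obtain ⟨j, hj⟩ := hP'p ⟨z, hz.1⟩
    obtain ⟨i, -, hi⟩ := (Nat.dvd_prime_pow hr).1
      (orderOf_dvd_of_pow_eq_one (congrArg Subtype.val hj : z ^ r ^ j = 1))
    rcases i with _ | i
    · exact hz1 (orderOf_eq_one_iff.1 (by rw [hi, pow_zero]))
    refine w_part S hr hr2 hrq hx hxt hnd h1 h2 h3 h4 h5 (y := z ^ r ^ i)
      (pow_mem (Subgroup.map_subtype_le _ hz.1) _)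
      (Commute.pow_left (Subgroup.mem_centralizer_singleton_iff.1 hz.2) _) ?_
    rw [orderOf_pow' _ (pow_ne_zero _ hr.ne_zero), hi, Nat.gcd_eq_right
      (pow_dvd_pow r (Nat.le_succ i)), pow_succ', Nat.mul_div_assoc _ dvd_rfl,
      Nat.div_self (pow_pos hr.pos i), mul_one]
  have htw : Commute (t * w) t := (Commute.refl t).mul_left hwt
  have htw2 : t * w * (t * w) = 1 := by
    rw [hwt.mul_mul_mul_comm, S.mul_self, hw, mul_one]
  have hPle : P' ≤ Subgroup.centralizer ({t} : Set G) := by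
    refine le_of_four S.invol how hwt.symm hwne.symm
      ((coreOf_odd C).of_dvd_nat (Subgroup.card_dvd_of_le (Subgroup.map_subtype_le _)))
      (hPV (Subgroup.mem_sup_left (Subgroup.mem_zpowers t)))
      (hPV (Subgroup.mem_sup_right (Subgroup.mem_zpowers w))) inf_le_right
      (hpart w hwt hw hw1 hwne hwx) (hpart (t * w) htw htw2 ?_ ?_ ?_)
    · intro e
      exact hwne ((eq_inv_of_mul_eq_one_right e).trans (inv_eq_of_mul_eq_one_right S.mul_self))
    · intro e
      exact hw1 (mul_left_cancel (e.trans (mul_one t).symm))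
    · rw [show t * w * x * (t * w)⁻¹ = t * (w * x * w⁻¹) * t⁻¹ by group, hwx,
        hxt.symm.inv_right.eq, mul_inv_cancel_right]
  -- Sylow in `K`
  obtain ⟨Q₁, hQ₁⟩ := (hQp.comap_of_injective K.subtype K.subtype_injective).exists_le_sylow
  obtain ⟨k, hk⟩ := MulAction.exists_smul_eq K Q₁ P
  refine ⟨k, Subgroup.mem_centralizer_singleton_iff.1 (coreOf_le C k.2), fun z hz => ?_⟩
  refine Subgroup.mem_centralizer_singleton_iff.1 (hPle ?_)
  have hm : k * (⟨z, hQK hz⟩ : K) * k⁻¹ ∈ (P : Subgroup K) := by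
    rw [← hk, Sylow.coe_subgroup_smul, Subgroup.mem_pointwise_smul_iff_inv_smul_mem]
    simp only [MulAut.smul_def, MulAut.inv_apply, MulAut.conj_symm_apply]
    rw [show k⁻¹ * (k * (⟨z, hQK hz⟩ : K) * k⁻¹) * k = ⟨z, hQK hz⟩ by group]
    exact hQ₁ (show (⟨z, hQK hz⟩ : K) ∈ Q.comap K.subtype from hz)
  exact ⟨_, hm, rfl⟩

omit hx hxt

/-- No odd prime of `q + 1` divides the index. -/
theorem not_dvd_index_of_nonDeg (hnd : NonDeg S) :
    ¬ r ∣ (Subgroup.centralizer ({t} : Set G)).index := by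
  haveI : Fact r.Prime := ⟨hr⟩
  set C := Subgroup.centralizer ({t} : Set G) with hC
  intro hdvd
  have hrC : r ∣ Nat.card C := by
    rw [hC, S.card_centralizer]
    exact ((hrq.mul_left _).mul_right _)
  obtain ⟨⟨x, hxC⟩, hx'⟩ := exists_prime_orderOf_dvd_card' r hrC
  have hx : orderOf x = r := by rw [← hx', ← Subgroup.orderOf_coe]
  have hxt : Commute x t := Subgroup.mem_centralizer_singleton_iff.1 hxC
  have hzp : IsPGroup r (Subgroup.zpowers x) :=
    IsPGroup.of_card (n := 1) (by rw [Nat.card_zpowers, hx, pow_one])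
  obtain ⟨T, hT⟩ := hzp.exists_le_sylow
  haveI : Nontrivial ↥(T : Subgroup G) :=
    ⟨⟨x, hT (Subgroup.mem_zpowers x)⟩, 1, fun e => hr.one_lt.ne (by
      rw [← hx, show x = 1 from congrArg Subtype.val e, orderOf_one])⟩
  obtain ⟨z, -, hzc, hz⟩ := Cfsg.Agent.PGroups.exists_mem_center_orderOf_eq T.isPGroup'
    (⊤ : Subgroup ↥(T : Subgroup G)) top_ne_bot
  have hzr : orderOf (z : G) = r := (Subgroup.orderOf_coe z).trans hz
  have hzall : ∀ s ∈ (T : Subgroup G), Commute s (z : G) := fun s hs =>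
    congrArg Subtype.val (Subgroup.mem_center_iff.1 hzc ⟨s, hs⟩)
  obtain ⟨k, hkx, hk⟩ := exists_conj_le S hr hr2 hrq hx hxt hnd (Q := Subgroup.zpowers (z : G))
    (IsPGroup.of_card (n := 1) (by rw [Nat.card_zpowers, hzr, pow_one]))
    (Subgroup.zpowers_le.2 (Subgroup.mem_centralizer_singleton_iff.2
      (hzall x (hT (Subgroup.mem_zpowers x))).symm.eq))
  have hzt : Commute (k * z * k⁻¹) t := hk z (Subgroup.mem_zpowers _)
  set T' := (T : Subgroup G).map (MulAut.conj k).toMonoidHom with hT'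
  have hT'C : T' ≤ Subgroup.centralizer ({k * z * k⁻¹} : Set G) := by
    rintro _ ⟨s, hs, rfl⟩
    exact Subgroup.mem_centralizer_singleton_iff.2 ((hzall s hs).map (MulAut.conj k)).eq
  obtain ⟨l, -, hl⟩ := exists_conj_le S hr hr2 hrq (x := k * z * k⁻¹)
    (by rw [← MulAut.conj_apply, MulEquiv.orderOf_eq, hzr]) hzt hnd (T.isPGroup'.map _) hT'C
  have hle : T'.map (MulAut.conj l).toMonoidHom ≤ C := by
    rintro _ ⟨s, hs, rfl⟩
    exact Subgroup.mem_centralizer_singleton_iff.2 (hl s hs).eq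
  have hcard : Nat.card ↥(T : Subgroup G) ∣ Nat.card C := by
    have := Subgroup.card_dvd_of_le hle
    rwa [Subgroup.card_map_of_injective (MulAut.conj l).injective, hT',
      Subgroup.card_map_of_injective (MulAut.conj k).injective] at this
  have h2 : Nat.card ↥(T : Subgroup G) * r ∣ Nat.card G := by
    rw [← C.card_mul_index]
    exact mul_dvd_mul hcard hdvd
  rw [T.card_eq_multiplicity, ← pow_succ] at h2
  exact Nat.pow_succ_factorization_not_dvd Nat.card_pos.ne' hr h2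

end Cfsg.Agent.H26.LThree
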